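import Cfsg.Agent.Lib.Leech.PSU43.Checks
import Cfsg.Agent.Lib.Leech.McLSimple
import Cfsg.Agent.Lib.Leech.MclConfig

/-!
# The point stabiliser of the McLaughlin group on 275 points is `PSU(4,3)`

* `nonempty_mulEquiv_psu43`
-/

set_option autoImplicit false

open scoped Matrix

namespace Cfsg.Agent.Leech

open MulAction StabCert

theorem exists_hom_psu43 {F : Type} [Field F] [Fintype F] (hF : Fintype.card F = 3 ^ 2) :
    ∃ φ : Quad 3 2 0 →+* F, ∀ z, φ (star z) = φ z ^ 3 := by
  have : Fact (Nat.Prime 3) := ⟨by norm_num⟩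
  have : CharP F 3 := charP_of_card_eq_prime_pow hF
  have h3 : (3 : F) = 0 := by exact_mod_cast CharP.cast_eq_zero F 3
  have h20 : (2 : F) ≠ 0 := fun h => one_ne_zero (α := F) (by linear_combination h3 - h)
  obtain ⟨ω, hω⟩ : IsSquare (2 : F) := by
    refine (FiniteField.isSquare_iff (fun h => ?_) h20).2 ?_
    · rw [ringChar.eq F 3] at h; omega
    · rw [hF]
      norm_num
      linear_combination 5 * h3
  refine Quad.exists_hom hF ω ?_ ?_
  · push_cast
    linear_combination -hω
  · push_cast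
    linear_combination -ω * hω + ω * h3

theorem mclBase_orbit : {y | ∃ a ∈ mclGroup, a • baseX = y} = mclBase := by
  have hX : baseX ∈ mclBase :=
    ⟨by decide +kernel, by decide +kernel, by decide +kernel⟩
  ext y
  constructor
  · rintro ⟨a, ha, rfl⟩
    obtain ⟨h1, h2⟩ := mclGroup_fix ha
    refine ⟨by rw [sqNorm_smul]; exact hX.1, ?_, ?_⟩
    · rw [dotInt_smul_of_eq h1]; exact hX.2.1
    · rw [dotInt_smul_of_eq h2]; exact hX.2.2
  · rintro ⟨a, b, c⟩
    obtain ⟨g, g1, g2, g3⟩ := exists_normal_mcl sqNorm_baseF sqNorm_baseU a (by decide +kernel)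
      (by rw [dotInt_comm]; exact b) (by rw [dotInt_comm]; exact c)
    exact ⟨g⁻¹, ⟨mem_stabilizer_iff.2 (inv_smul_eq_iff.2 g1.symm),
      mem_stabilizer_iff.2 (inv_smul_eq_iff.2 g2.symm)⟩, inv_smul_eq_iff.2 g3.symm⟩

theorem natCard_mclPointStab :
    Nat.card (mclGroup ⊓ stabilizer Co0 baseX : Subgroup Co0) = 3265920 := by
  have h := ncard_orbit_mul mclGroup baseX
  rw [mclBase_orbit, ncard_mclBase, natCard_mclGroup] at h
  omega

/-- The isomorphism. -/
theorem nonempty_mulEquiv_psu43 {F : Type} [Field F] [Fintype F] (hF : Fintype.card F = 9) :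
    Nonempty ((mclGroup ⊓ stabilizer Co0 baseX : Subgroup Co0) ≃* Cfsg.PSU 4 F 3) := by
  have hF' : Fintype.card F = 3 ^ 2 := hF.trans (by norm_num)
  obtain ⟨φ, hφ⟩ := exists_hom_psu43 hF'
  refine PSUData.nonempty_mulEquiv (D := PSU43.data) hF' φ hφ PSU43.data_ok
    (Or.inl le_rfl) (Quad.hom_injective (by decide +kernel) φ) _ ?_ ?_ ?_
  · intro g hg
    have e : ∀ i < 115, ((PSU43.data.leftV i : leechLattice) : GolayPt → ℤ) =
        vOf (PSU43.data.left i) := fun i hi => (PSUData.leftV_val PSU43.data_ok hi).1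
    have e0 : PSU43.data.leftV 112 = baseU := Subtype.ext ((e 112 (by norm_num)).trans
      (by decide +kernel))
    have e1 : PSU43.data.leftV 113 = baseX := Subtype.ext ((e 113 (by norm_num)).trans
      (by decide +kernel))
    have e2 : PSU43.data.leftV 114 = baseF := Subtype.ext ((e 114 (by norm_num)).trans
      (by decide +kernel))
    refine ⟨⟨?_, ?_⟩, ?_⟩
    · exact mem_stabilizer_iff.2 (e2 ▸ hg 114 (by decide))
    · exact mem_stabilizer_iff.2 (e0 ▸ hg 112 (by decide))
    · exact mem_stabilizer_iff.2 (e1 ▸ hg 113 (by decide))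
  · rw [natCard_mclPointStab]
    decide +kernel
  · have h := Unitary.card_PSU (n := 4) hF' (by norm_num)
    have e : (PSU43.data.chain.map fun L => L.words.length).prod = 3265920 := by decide +kernel
    rw [e]
    simp [Finset.prod_range_succ, Nat.even_iff] at h
    omega

end Cfsg.Agent.Leech
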