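import Cfsg.Agent.Lib.Leech.PSU43.Data

/-!
# The checks of the certificate: a stabiliser of order 3265920 in McL and PSU(4,3)
-/

set_option autoImplicit false
set_option maxRecDepth 100000

namespace Cfsg.Agent.Leech.PSU43

theorem gens_ok : ∀ k : Fin 4, data.genOKk k.val = true := by decide +kernel

theorem lefts_ok : data.leftsOK = true := by decide +kernel

theorem rights_ok : data.rightsOK = true := by decide +kernel

theorem ltab_ok : ∀ k : Fin 4, data.leftTabOK k.val = true := by decide +kernel

theorem rtab_ok : ∀ k : Fin 4, data.rightTabOK k.val = true := by decide +kernel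

theorem base_ok : data.baseOK = true := by decide +kernel

theorem chain_ok : StabCert.chainOK data.w (data.dL + data.dR) data.m data.tab data.cmp
    data.chain = true := by decide +kernel

theorem data_ok : data.OK where
  gens k hk := gens_ok ⟨k, hk⟩
  lefts := lefts_ok
  rights := rights_ok
  ltab k hk := ltab_ok ⟨k, hk⟩
  rtab k hk := rtab_ok ⟨k, hk⟩
  base := base_ok
  chain := chain_ok
  rel := Or.inl rfl

end Cfsg.Agent.Leech.PSU43
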