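import Cfsg.Agent.Lib.Leech.PSUCert

/-!
# Certificate data: a stabiliser of order 3265920 in McL and PSU(4,3)
-/

set_option autoImplicit false

namespace Cfsg.Agent.Leech.PSU43

/-- The matrices, times eight. -/
def mats : List (List (List ℤ)) :=
  [[[ep6, em2, ep0, ep0, em2, ep0, ep0, ep0, ep0, ep0, em2, ep0, ep0, ep0, em2, ep0, ep0, ep0, em2, ep0, ep0, ep2, ep0, ep2], [em2, ep6, ep0, ep0, em2, ep0, ep0, ep0, ep0, ep0, em2, ep0, ep0, ep0, em2, ep0, ep0, ep0, em2, ep0, ep0, ep2, ep0, ep2], [ep0, ep0, ep2, ep2, ep0, em2, ep2, em2, ep2, ep2, ep0, ep2, em2, em2, ep0, em2, ep2, ep2, ep0, em2, ep2, ep0, ep2, ep0], [ep0, ep0, ep2, em2, ep0, ep2, ep2, ep2, em2, ep2, ep0, em2, em2, em2, ep0, ep2, ep2, ep2, ep0, ep2, em2, ep0, ep2, ep0], [ep0, ep0, ep2, ep2, ep0, ep2, em2, em2, ep2, ep2, ep0, ep2, em2, ep2, ep0, ep2, ep2, em2, ep0, ep2, em2,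 ep0, em2, ep0], [ep0, ep0, ep2, ep2, ep0, ep2, em2, ep2, em2, em2, ep0, ep2, ep2, em2, ep0, ep2, ep2, em2, ep0, em2, ep2, ep0, ep2, ep0], [ep0, ep0, em2, em2, ep0, ep2, ep2, ep2, ep2, ep2, ep0, ep2, ep2, ep2, ep0, em2, ep2, em2, ep0, em2, em2, ep0, ep2, ep0], [em2, em2, ep0, ep0, em2, ep0, ep0, ep0, ep0, ep0, em2, ep0, ep0, ep0, ep6, ep0, ep0, ep0, em2, ep0, ep0, ep2, ep0, ep2], [ep0, ep0, em2, em2, ep0, em2, em2, ep2, ep2, ep2, ep0, ep2, ep2, em2, ep0, ep2, ep2, ep2, ep0, ep2, ep2, ep0, em2, ep0], [ep0, ep0, ep2, em2, ep0, ep2, em2, em2, em2, ep2, ep0, ep2, ep2, ep2, ep0, em2, em2, ep2, ep0, ep2, ep2, ep0, ep2, ep0], [ep0, ep0, em2, ep2, ep0, ep2, ep2, em2, ep2, em2, ep0, ep2, ep2, em2, ep0, ep2, em2, ep2, ep0, ep2, em2, ep0, ep2, ep0], [ep0, ep0, em2, ep2, ep0, ep2, em2, ep2, ep2, em2, ep0, em2, em2, ep2, ep0, em2, ep2, ep2, ep0, ep2,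 ep2, ep0, ep2, ep0], [ep2, ep2, ep0, ep0, ep2, ep0, ep0, ep0, ep0, ep0, ep2, ep0, ep0, ep0, ep2, ep0, ep0, ep0, ep2, ep0, ep0, ep6, ep0, em2], [em2, em2, ep0, ep0, em2, ep0, ep0, ep0, ep0, ep0, em2, ep0, ep0, ep0, em2, ep0, ep0, ep0, ep6, ep0, ep0, ep2, ep0, ep2], [em2, em2, ep0, ep0, ep6, ep0, ep0, ep0, ep0, ep0, em2, ep0, ep0, ep0, em2, ep0, ep0, ep0, em2, ep0, ep0, ep2, ep0, ep2], [ep0, ep0, ep2, ep2, ep0, ep2, ep2, ep2, ep2, ep2, ep0, em2, ep2, em2, ep0, em2, em2, em2, ep0, ep2, ep2, ep0, em2, ep0], [ep0, ep0, em2, ep2, ep0, em2, ep2, em2, em2, ep2, ep0, em2, ep2, ep2, ep0, ep2, ep2, em2, ep0, ep2, ep2, ep0, ep2, ep0], [ep0, ep0, em2, ep2, ep0, ep2, ep2, ep2, em2, ep2, ep0, ep2, em2, ep2, ep0, ep2, em2, ep2, ep0, em2, ep2, ep0, em2, ep0], [ep0, ep0, ep2, em2, ep0, ep2, ep2, em2, ep2, em2, ep0, em2, ep2, ep2, ep0, ep2, ep2, ep2, ep0,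 em2, ep2, ep0, em2, ep0], [ep0, ep0, ep2, ep2, ep0, em2, em2, ep2, ep2, ep2, ep0, em2, ep2, ep2, ep0, ep2, em2, ep2, ep0, em2, em2, ep0, ep2, ep0], [em2, em2, ep0, ep0, em2, ep0, ep0, ep0, ep0, ep0, ep6, ep0, ep0, ep0, em2, ep0, ep0, ep0, em2, ep0, ep0, ep2, ep0, ep2], [ep0, ep0, ep2, ep2, ep0, em2, ep2, ep2, em2, em2, ep0, ep2, ep2, ep2, ep0, em2, ep2, ep2, ep0, ep2, em2, ep0, em2, ep0], [ep0, ep0, ep2, em2, ep0, em2, ep2, ep2, ep2, em2, ep0, ep2, em2, ep2, ep0, ep2, em2, em2, ep0, ep2, ep2, ep0, ep2, ep0], [ep2, ep2, ep0, ep0, ep2, ep0, ep0, ep0, ep0, ep0, ep2, ep0, ep0, ep0, ep2, ep0, ep0, ep0, ep2, ep0, ep0, em2, ep0, ep6]],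
   [[ep6, em2, ep2, ep0, ep0, ep0, ep0, ep0, em2, ep0, ep0, em2, em2, ep0, ep0, ep0, ep0, ep0, em2, ep0, ep0, ep0, ep0, ep2], [em2, ep6, ep2, ep0, ep0, ep0, ep0, ep0, em2, ep0, ep0, em2, em2, ep0, ep0, ep0, ep0, ep0, em2, ep0, ep0, ep0, ep0, ep2], [ep0, ep0, ep0, ep2, em2, ep2, em2, ep2, ep0, em2, ep2, ep0, ep0, ep2, ep2, ep2, ep2, ep2, ep0, em2, em2, ep2, em2, ep0], [ep0, ep0, ep0, ep2, em2, ep2, em2, ep2, ep0, ep2, ep2, ep0, ep0, ep2, em2, ep2, em2, em2, ep0, ep2, ep2, em2, ep2, ep0], [ep0, ep0, ep0, ep2, ep2, ep2, em2, ep2, ep0, ep2, em2, ep0, ep0, em2, ep2, em2, em2, ep2, ep0, em2, ep2, ep2, ep2, ep0], [ep0, ep0, ep0, ep2, ep2, em2, em2, em2, ep0, ep2, ep2, ep0, ep0, ep2, em2, em2, ep2, ep2, ep0, ep2, em2, ep2, ep2, ep0], [em2, em2, ep2, ep0, ep0, ep0, ep0, ep0, em2, ep0, ep0, ep6, em2, ep0, ep0, ep0, ep0, ep0, em2, ep0, ep0, ep0,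 ep0, ep2], [ep0, ep0, ep0, em2, ep2, em2, em2, ep2, ep0, ep2, ep2, ep0, ep0, em2, ep2, ep2, ep2, ep2, ep0, ep2, ep2, em2, em2, ep0], [ep0, ep0, ep0, ep2, em2, em2, ep2, ep2, ep0, em2, ep2, ep0, ep0, em2, ep2, em2, ep2, em2, ep0, ep2, ep2, ep2, ep2, ep0], [ep0, ep0, ep0, ep2, ep2, ep2, ep2, em2, ep0, ep2, ep2, ep0, ep0, em2, em2, ep2, ep2, em2, ep0, em2, ep2, ep2, em2, ep0], [ep0, ep0, ep0, em2, ep2, ep2, ep2, ep2, ep0, ep2, ep2, ep0, ep0, ep2, ep2, em2, ep2, em2, ep0, em2, em2, em2, ep2, ep0], [em2, em2, ep2, ep0, ep0, ep0, ep0, ep0, em2, ep0, ep0, em2, em2, ep0, ep0, ep0, ep0, ep0, ep6, ep0, ep0, ep0, ep0, ep2], [ep0, ep0, ep0, ep2, ep2, em2, ep2, ep2, ep0, em2, em2, ep0, ep0, ep2, em2, ep2, ep2, ep2, ep0, em2, ep2, em2, ep2, ep0], [ep0, ep0, ep0, ep2, em2, ep2, ep2, em2, ep0, ep2, em2, ep0, ep0, ep2, ep2, em2, ep2, ep2, ep0, ep2, ep2,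 em2, em2, ep0], [em2, em2, ep2, ep0, ep0, ep0, ep0, ep0, ep6, ep0, ep0, em2, em2, ep0, ep0, ep0, ep0, ep0, em2, ep0, ep0, ep0, ep0, ep2], [em2, em2, ep2, ep0, ep0, ep0, ep0, ep0, em2, ep0, ep0, em2, ep6, ep0, ep0, ep0, ep0, ep0, em2, ep0, ep0, ep0, ep0, ep2], [ep2, ep2, ep6, ep0, ep0, ep0, ep0, ep0, ep2, ep0, ep0, ep2, ep2, ep0, ep0, ep0, ep0, ep0, ep2, ep0, ep0, ep0, ep0, em2], [ep0, ep0, ep0, em2, em2, ep2, ep2, ep2, ep0, ep2, em2, ep0, ep0, em2, em2, ep2, ep2, ep2, ep0, ep2, em2, ep2, ep2, ep0], [ep0, ep0, ep0, em2, em2, em2, ep2, em2, ep0, ep2, ep2, ep0, ep0, ep2, ep2, ep2, em2, ep2, ep0, em2, ep2, ep2, ep2, ep0], [ep0, ep0, ep0, em2, ep2, ep2, em2, em2, ep0, em2, em2, ep0, ep0, ep2, ep2, ep2, ep2, em2, ep0, ep2, ep2, ep2, ep2, ep0], [ep0, ep0, ep0, ep2, ep2, em2, ep2, ep2, ep0, ep2, em2, ep0, ep0, ep2, ep2, ep2, em2, em2, ep0, ep2,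 em2, ep2, em2, ep0], [ep0, ep0, ep0, em2, ep2, ep2, ep2, ep2, ep0, em2, ep2, ep0, ep0, ep2, em2, em2, em2, ep2, ep0, ep2, ep2, ep2, em2, ep0], [ep0, ep0, ep0, ep2, ep2, ep2, ep2, em2, ep0, em2, ep2, ep0, ep0, em2, ep2, ep2, em2, ep2, ep0, ep2, em2, em2, ep2, ep0], [ep2, ep2, em2, ep0, ep0, ep0, ep0, ep0, ep2, ep0, ep0, ep2, ep2, ep0, ep0, ep0, ep0, ep0, ep2, ep0, ep0, ep0, ep0, ep6]],
   [[ep6, em2, em2, em2, ep0, em2, ep0, ep0, ep0, ep0, ep0, ep0, ep0, ep0, em2, ep0, ep0, ep2, ep0, ep0, ep0, ep0, ep0, ep2], [em2, ep6, em2, em2, ep0, em2, ep0, ep0, ep0, ep0, ep0, ep0, ep0, ep0, em2, ep0, ep0, ep2, ep0, ep0, ep0, ep0, ep0, ep2], [ep0, ep0, ep0, ep0, ep2, ep0, em2, em2, ep2, ep2, ep2, ep2, em2, ep2, ep0, ep2, ep2, ep0, ep2, ep2, em2, em2, em2, ep0], [ep2, ep2, ep2, ep2, ep0, ep2, ep0, ep0, ep0, ep0, ep0, ep0, ep0, ep0, ep2, ep0, ep0, ep6,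 ep0, ep0, ep0, ep0, ep0, em2], [em2, em2, em2, em2, ep0, em2, ep0, ep0, ep0, ep0, ep0, ep0, ep0, ep0, ep6, ep0, ep0, ep2, ep0, ep0, ep0, ep0, ep0, ep2], [ep0, ep0, ep0, ep0, em2, ep0, ep2, em2, em2, em2, ep2, ep2, ep2, ep2, ep0, ep2, em2, ep0, ep2, ep2, ep2, ep2, em2, ep0], [ep0, ep0, ep0, ep0, ep2, ep0, ep2, ep2, em2, ep2, ep2, em2, ep2, ep2, ep0, ep2, ep2, ep0, em2, em2, em2, ep2, em2, ep0], [ep0, ep0, ep0, ep0, em2, ep0, ep2, ep2, ep2, ep2, ep2, ep2, em2, em2, ep0, ep2, em2, ep0, ep2, em2, em2, ep2, ep2, ep0], [ep0, ep0, ep0, ep0, ep2, ep0, ep2, em2, ep2, ep2, em2, ep2, ep2, ep2, ep0, ep2, em2, ep0, em2, em2, ep2, em2, ep2, ep0], [ep0, ep0, ep0, ep0, ep2, ep0, em2, ep2, ep2, em2, ep2, ep2, ep2, ep2, ep0, em2, em2, ep0, em2, ep2, em2, ep2, ep2, ep0], [ep0, ep0, ep0, ep0, ep2, ep0, ep2, em2, em2, ep2, em2, ep2, ep2, em2, ep0, em2, ep2,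 ep0, ep2, ep2, em2, ep2, ep2, ep0], [em2, em2, em2, em2, ep0, ep6, ep0, ep0, ep0, ep0, ep0, ep0, ep0, ep0, em2, ep0, ep0, ep2, ep0, ep0, ep0, ep0, ep0, ep2], [ep0, ep0, ep0, ep0, ep2, ep0, ep2, em2, ep2, em2, ep2, em2, em2, em2, ep0, ep2, ep2, ep0, em2, ep2, ep2, ep2, ep2, ep0], [ep0, ep0, ep0, ep0, ep2, ep0, ep2, ep2, ep2, ep2, ep2, em2, ep2, em2, ep0, em2, em2, ep0, ep2, ep2, ep2, em2, em2, ep0], [ep0, ep0, ep0, ep0, ep2, ep0, em2, ep2, em2, ep2, em2, em2, em2, ep2, ep0, ep2, em2, ep0, ep2, ep2, ep2, ep2, ep2, ep0], [ep0, ep0, ep0, ep0, em2, ep0, em2, em2, ep2, ep2, ep2, em2, ep2, ep2, ep0, em2, ep2, ep0, ep2, em2, ep2, ep2, ep2, ep0], [ep0, ep0, ep0, ep0, ep2, ep0, em2, ep2, em2, em2, ep2, ep2, ep2, em2, ep0, ep2, ep2, ep0, ep2, em2, ep2, em2, ep2, ep0], [ep0, ep0, ep0, ep0, em2, ep0, ep2, ep2, ep2, em2, em2, em2, ep2, ep2, ep0, ep2,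 ep2, ep0, ep2, ep2, em2, em2, ep2, ep0], [ep0, ep0, ep0, ep0, em2, ep0, ep2, ep2, em2, ep2, ep2, ep2, em2, ep2, ep0, em2, ep2, ep0, em2, ep2, ep2, em2, ep2, ep0], [em2, em2, ep6, em2, ep0, em2, ep0, ep0, ep0, ep0, ep0, ep0, ep0, ep0, em2, ep0, ep0, ep2, ep0, ep0, ep0, ep0, ep0, ep2], [em2, em2, em2, ep6, ep0, em2, ep0, ep0, ep0, ep0, ep0, ep0, ep0, ep0, em2, ep0, ep0, ep2, ep0, ep0, ep0, ep0, ep0, ep2], [ep0, ep0, ep0, ep0, ep2, ep0, ep2, ep2, ep2, em2, em2, ep2, em2, ep2, ep0, em2, ep2, ep0, ep2, em2, ep2, ep2, em2, ep0], [ep0, ep0, ep0, ep0, em2, ep0, em2, ep2, ep2, ep2, em2, ep2, ep2, em2, ep0, ep2, ep2, ep0, em2, ep2, ep2, ep2, em2, ep0], [ep2, ep2, ep2, ep2, ep0, ep2, ep0, ep0, ep0, ep0, ep0, ep0, ep0, ep0, ep2, ep0, ep0, em2, ep0, ep0, ep0, ep0, ep0, ep6]],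
   [[ep6, em2, ep0, ep0, ep0, ep0, ep0, em2, ep0, ep0, ep0, ep0, em2, ep2, em2, ep0, ep0, ep0, ep0, ep0, em2, ep0, ep0, ep2], [em2, ep6, ep0, ep0, ep0, ep0, ep0, em2, ep0, ep0, ep0, ep0, em2, ep2, em2, ep0, ep0, ep0, ep0, ep0, em2, ep0, ep0, ep2], [ep0, ep0, ep2, em2, em2, ep2, ep2, ep0, em2, ep2, ep2, ep2, ep0, ep0, ep0, em2, ep2, ep2, ep2, em2, ep0, ep2, em2, ep0], [ep0, ep0, em2, ep2, ep2, ep2, ep2, ep0, em2, em2, em2, em2, ep0, ep0, ep0, ep2, ep2, ep2, ep2, ep2, ep0, ep2, em2, ep0], [ep0, ep0, ep2, em2, ep2, em2, ep2, ep0, ep2, ep2, em2, em2, ep0, ep0, ep0, ep2, ep2, em2, ep2, em2, ep0, ep2, ep2, ep0], [em2, em2, ep0, ep0, ep0, ep0, ep0, em2, ep0, ep0, ep0, ep0, em2, ep2, em2, ep0, ep0, ep0, ep0, ep0, ep6, ep0, ep0, ep2], [em2, em2, ep0, ep0, ep0, ep0, ep0, em2, ep0, ep0, ep0, ep0, ep6, ep2, em2, ep0, ep0, ep0, ep0, ep0, em2, ep0,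 ep0, ep2], [ep0, ep0, ep2, ep2, em2, em2, ep2, ep0, em2, ep2, em2, ep2, ep0, ep0, ep0, ep2, em2, ep2, ep2, ep2, ep0, em2, ep2, ep0], [ep0, ep0, ep2, ep2, em2, ep2, em2, ep0, ep2, ep2, em2, ep2, ep0, ep0, ep0, ep2, ep2, em2, em2, ep2, ep0, ep2, em2, ep0], [ep0, ep0, ep2, em2, em2, ep2, em2, ep0, ep2, em2, ep2, em2, ep0, ep0, ep0, ep2, em2, ep2, ep2, ep2, ep0, ep2, ep2, ep0], [ep0, ep0, ep2, em2, ep2, ep2, ep2, ep0, ep2, em2, em2, ep2, ep0, ep0, ep0, em2, ep2, ep2, em2, ep2, ep0, em2, ep2, ep0], [ep0, ep0, em2, ep2, ep2, ep2, em2, ep0, ep2, ep2, em2, ep2, ep0, ep0, ep0, em2, em2, ep2, ep2, em2, ep0, ep2, ep2, ep0], [ep0, ep0, em2, em2, ep2, ep2, ep2, ep0, em2, ep2, ep2, ep2, ep0, ep0, ep0, ep2, em2, em2, em2, ep2, ep0, ep2, ep2, ep0], [ep0, ep0, ep2, ep2, ep2, em2, ep2, ep0, ep2, em2, ep2, ep2, ep0, ep0, ep0, ep2, em2, ep2, em2, em2, ep0,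 ep2, em2, ep0], [ep0, ep0, ep2, ep2, ep2, em2, em2, ep0, em2, ep2, ep2, em2, ep0, ep0, ep0, em2, ep2, ep2, em2, ep2, ep0, ep2, ep2, ep0], [ep0, ep0, em2, ep2, em2, em2, ep2, ep0, ep2, em2, ep2, ep2, ep0, ep0, ep0, em2, ep2, em2, ep2, ep2, ep0, ep2, ep2, ep0], [ep0, ep0, em2, em2, ep2, em2, em2, ep0, ep2, ep2, ep2, ep2, ep0, ep0, ep0, ep2, ep2, ep2, ep2, ep2, ep0, em2, em2, ep0], [ep0, ep0, ep2, ep2, ep2, ep2, ep2, ep0, ep2, ep2, ep2, em2, ep0, ep0, ep0, em2, em2, em2, ep2, ep2, ep0, em2, em2, ep0], [ep2, ep2, ep0, ep0, ep0, ep0, ep0, ep2, ep0, ep0, ep0, ep0, ep2, ep6, ep2, ep0, ep0, ep0, ep0, ep0, ep2, ep0, ep0, em2], [ep0, ep0, em2, ep2, em2, ep2, ep2, ep0, ep2, ep2, ep2, em2, ep0, ep0, ep0, ep2, ep2, ep2, em2, em2, ep0, em2, ep2, ep0], [em2, em2, ep0, ep0, ep0, ep0, ep0, em2, ep0, ep0, ep0, ep0, em2, ep2, ep6, ep0, ep0, ep0, ep0, ep0,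 em2, ep0, ep0, ep2], [ep0, ep0, ep2, ep2, ep2, ep2, em2, ep0, em2, em2, ep2, ep2, ep0, ep0, ep0, ep2, ep2, em2, ep2, em2, ep0, em2, ep2, ep0], [em2, em2, ep0, ep0, ep0, ep0, ep0, ep6, ep0, ep0, ep0, ep0, em2, ep2, em2, ep0, ep0, ep0, ep0, ep0, em2, ep0, ep0, ep2], [ep2, ep2, ep0, ep0, ep0, ep0, ep0, ep2, ep0, ep0, ep0, ep0, ep2, em2, ep2, ep0, ep0, ep0, ep0, ep0, ep2, ep0, ep0, ep6]]]

/-- The transposed matrices. -/
def matsT : List (List (List ℤ)) :=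
  [[[ep6, em2, ep0, ep0, ep0, ep0, ep0, em2, ep0, ep0, ep0, ep0, ep2, em2, em2, ep0, ep0, ep0, ep0, ep0, em2, ep0, ep0, ep2], [em2, ep6, ep0, ep0, ep0, ep0, ep0, em2, ep0, ep0, ep0, ep0, ep2, em2, em2, ep0, ep0, ep0, ep0, ep0, em2, ep0, ep0, ep2], [ep0, ep0, ep2, ep2, ep2, ep2, em2, ep0, em2, ep2, em2, em2, ep0, ep0, ep0, ep2, em2, em2, ep2, ep2, ep0, ep2, ep2, ep0], [ep0, ep0, ep2, em2, ep2, ep2, em2, ep0, em2, em2, ep2, ep2, ep0, ep0, ep0, ep2, ep2, ep2, em2, ep2, ep0, ep2, em2, ep0], [em2, em2, ep0, ep0, ep0, ep0, ep0, em2, ep0, ep0, ep0, ep0, ep2, em2, ep6, ep0, ep0, ep0, ep0, ep0, em2, ep0, ep0, ep2], [ep0, ep0, em2, ep2, ep2, ep2, ep2, ep0, em2, ep2, ep2, ep2, ep0, ep0, ep0, ep2, em2, ep2, ep2, em2, ep0, em2, em2, ep0], [ep0, ep0, ep2, ep2, em2, em2, ep2, ep0, em2, em2, ep2, em2, ep0, ep0, ep0, ep2, ep2, ep2, ep2, em2, ep0, ep2,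 ep2, ep0], [ep0, ep0, em2, ep2, em2, ep2, ep2, ep0, ep2, em2, em2, ep2, ep0, ep0, ep0, ep2, em2, ep2, em2, ep2, ep0, ep2, ep2, ep0], [ep0, ep0, ep2, em2, ep2, em2, ep2, ep0, ep2, em2, ep2, ep2, ep0, ep0, ep0, ep2, em2, em2, ep2, ep2, ep0, em2, ep2, ep0], [ep0, ep0, ep2, ep2, ep2, em2, ep2, ep0, ep2, ep2, em2, em2, ep0, ep0, ep0, ep2, ep2, ep2, em2, ep2, ep0, em2, em2, ep0], [em2, em2, ep0, ep0, ep0, ep0, ep0, em2, ep0, ep0, ep0, ep0, ep2, em2, em2, ep0, ep0, ep0, ep0, ep0, ep6, ep0, ep0, ep2], [ep0, ep0, ep2, em2, ep2, ep2, ep2, ep0, ep2, ep2, ep2, em2, ep0, ep0, ep0, em2, em2, ep2, em2, em2, ep0, ep2, ep2, ep0], [ep0, ep0, em2, em2, em2, ep2, ep2, ep0, ep2, ep2, ep2, em2, ep0, ep0, ep0, ep2, ep2, em2, ep2, ep2, ep0, ep2, em2, ep0], [ep0, ep0, em2, em2, ep2, em2, ep2, ep0, em2, ep2, em2, ep2, ep0, ep0, ep0, em2, ep2, ep2, ep2, ep2, ep0,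 ep2, ep2, ep0], [em2, em2, ep0, ep0, ep0, ep0, ep0, ep6, ep0, ep0, ep0, ep0, ep2, em2, em2, ep0, ep0, ep0, ep0, ep0, em2, ep0, ep0, ep2], [ep0, ep0, em2, ep2, ep2, ep2, em2, ep0, ep2, em2, ep2, em2, ep0, ep0, ep0, em2, ep2, ep2, ep2, ep2, ep0, em2, ep2, ep0], [ep0, ep0, ep2, ep2, ep2, ep2, ep2, ep0, ep2, em2, em2, ep2, ep0, ep0, ep0, em2, ep2, em2, ep2, em2, ep0, ep2, em2, ep0], [ep0, ep0, ep2, ep2, em2, em2, em2, ep0, ep2, ep2, ep2, ep2, ep0, ep0, ep0, em2, em2, ep2, ep2, ep2, ep0, ep2, em2, ep0], [em2, em2, ep0, ep0, ep0, ep0, ep0, em2, ep0, ep0, ep0, ep0, ep2, ep6, em2, ep0, ep0, ep0, ep0, ep0, em2, ep0, ep0, ep2], [ep0, ep0, em2, ep2, ep2, em2, em2, ep0, ep2, ep2, ep2, ep2, ep0, ep0, ep0, ep2, ep2, em2, em2, em2, ep0, ep2, ep2, ep0], [ep0, ep0, ep2, em2, em2, ep2, em2, ep0, ep2, ep2, em2, ep2, ep0, ep0, ep0, ep2, ep2, ep2, ep2, em2,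 ep0, em2, ep2, ep0], [ep2, ep2, ep0, ep0, ep0, ep0, ep0, ep2, ep0, ep0, ep0, ep0, ep6, ep2, ep2, ep0, ep0, ep0, ep0, ep0, ep2, ep0, ep0, em2], [ep0, ep0, ep2, ep2, em2, ep2, ep2, ep0, em2, ep2, ep2, ep2, ep0, ep0, ep0, em2, ep2, em2, em2, ep2, ep0, em2, ep2, ep0], [ep2, ep2, ep0, ep0, ep0, ep0, ep0, ep2, ep0, ep0, ep0, ep0, em2, ep2, ep2, ep0, ep0, ep0, ep0, ep0, ep2, ep0, ep0, ep6]],
   [[ep6, em2, ep0, ep0, ep0, ep0, em2, ep0, ep0, ep0, ep0, em2, ep0, ep0, em2, em2, ep2, ep0, ep0, ep0, ep0, ep0, ep0, ep2], [em2, ep6, ep0, ep0, ep0, ep0, em2, ep0, ep0, ep0, ep0, em2, ep0, ep0, em2, em2, ep2, ep0, ep0, ep0, ep0, ep0, ep0, ep2], [ep2, ep2, ep0, ep0, ep0, ep0, ep2, ep0, ep0, ep0, ep0, ep2, ep0, ep0, ep2, ep2, ep6, ep0, ep0, ep0, ep0, ep0, ep0, em2], [ep0, ep0, ep2, ep2, ep2, ep2, ep0, em2, ep2, ep2, em2, ep0, ep2, ep2, ep0, ep0, ep0, em2,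 em2, em2, ep2, em2, ep2, ep0], [ep0, ep0, em2, em2, ep2, ep2, ep0, ep2, em2, ep2, ep2, ep0, ep2, em2, ep0, ep0, ep0, em2, em2, ep2, ep2, ep2, ep2, ep0], [ep0, ep0, ep2, ep2, ep2, em2, ep0, em2, em2, ep2, ep2, ep0, em2, ep2, ep0, ep0, ep0, ep2, em2, ep2, em2, ep2, ep2, ep0], [ep0, ep0, em2, em2, em2, em2, ep0, em2, ep2, ep2, ep2, ep0, ep2, ep2, ep0, ep0, ep0, ep2, ep2, em2, ep2, ep2, ep2, ep0], [ep0, ep0, ep2, ep2, ep2, em2, ep0, ep2, ep2, em2, ep2, ep0, ep2, em2, ep0, ep0, ep0, ep2, em2, em2, ep2, ep2, em2, ep0], [em2, em2, ep0, ep0, ep0, ep0, em2, ep0, ep0, ep0, ep0, em2, ep0, ep0, ep6, em2, ep2, ep0, ep0, ep0, ep0, ep0, ep0, ep2], [ep0, ep0, em2, ep2, ep2, ep2, ep0, ep2, em2, ep2, ep2, ep0, em2, ep2, ep0, ep0, ep0, ep2, ep2, em2, ep2, em2, em2, ep0], [ep0, ep0, ep2, ep2, em2, ep2, ep0, ep2, ep2, ep2, ep2, ep0, em2, em2, ep0, ep0, ep0,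 em2, ep2, em2, em2, ep2, ep2, ep0], [em2, em2, ep0, ep0, ep0, ep0, ep6, ep0, ep0, ep0, ep0, em2, ep0, ep0, em2, em2, ep2, ep0, ep0, ep0, ep0, ep0, ep0, ep2], [em2, em2, ep0, ep0, ep0, ep0, em2, ep0, ep0, ep0, ep0, em2, ep0, ep0, em2, ep6, ep2, ep0, ep0, ep0, ep0, ep0, ep0, ep2], [ep0, ep0, ep2, ep2, em2, ep2, ep0, em2, em2, em2, ep2, ep0, ep2, ep2, ep0, ep0, ep0, em2, ep2, ep2, ep2, ep2, em2, ep0], [ep0, ep0, ep2, em2, ep2, em2, ep0, ep2, ep2, em2, ep2, ep0, em2, ep2, ep0, ep0, ep0, em2, ep2, ep2, ep2, em2, ep2, ep0], [ep0, ep0, ep2, ep2, em2, em2, ep0, ep2, em2, ep2, em2, ep0, ep2, em2, ep0, ep0, ep0, ep2, ep2, ep2, ep2, em2, ep2, ep0], [ep0, ep0, ep2, em2, em2, ep2, ep0, ep2, ep2, ep2, ep2, ep0, ep2, ep2, ep0, ep0, ep0, ep2, em2, ep2, em2, em2, em2, ep0], [ep0, ep0, ep2, em2, ep2, ep2, ep0, ep2, em2, em2, em2, ep0, ep2, ep2, ep0, ep0,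 ep0, ep2, ep2, em2, em2, ep2, ep2, ep0], [em2, em2, ep0, ep0, ep0, ep0, em2, ep0, ep0, ep0, ep0, ep6, ep0, ep0, em2, em2, ep2, ep0, ep0, ep0, ep0, ep0, ep0, ep2], [ep0, ep0, em2, ep2, em2, ep2, ep0, ep2, ep2, em2, em2, ep0, em2, ep2, ep0, ep0, ep0, ep2, em2, ep2, ep2, ep2, ep2, ep0], [ep0, ep0, em2, ep2, ep2, em2, ep0, ep2, ep2, ep2, em2, ep0, ep2, ep2, ep0, ep0, ep0, em2, ep2, ep2, em2, ep2, em2, ep0], [ep0, ep0, ep2, em2, ep2, ep2, ep0, em2, ep2, ep2, em2, ep0, em2, em2, ep0, ep0, ep0, ep2, ep2, ep2, ep2, ep2, em2, ep0], [ep0, ep0, em2, ep2, ep2, ep2, ep0, em2, ep2, em2, ep2, ep0, ep2, em2, ep0, ep0, ep0, ep2, ep2, ep2, em2, em2, ep2, ep0], [ep2, ep2, ep0, ep0, ep0, ep0, ep2, ep0, ep0, ep0, ep0, ep2, ep0, ep0, ep2, ep2, em2, ep0, ep0, ep0, ep0, ep0, ep0, ep6]],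
   [[ep6, em2, ep0, ep2, em2, ep0, ep0, ep0, ep0, ep0, ep0, em2, ep0, ep0, ep0, ep0, ep0, ep0, ep0, em2, em2, ep0, ep0, ep2], [em2, ep6, ep0, ep2, em2, ep0, ep0, ep0, ep0, ep0, ep0, em2, ep0, ep0, ep0, ep0, ep0, ep0, ep0, em2, em2, ep0, ep0, ep2], [em2, em2, ep0, ep2, em2, ep0, ep0, ep0, ep0, ep0, ep0, em2, ep0, ep0, ep0, ep0, ep0, ep0, ep0, ep6, em2, ep0, ep0, ep2], [em2, em2, ep0, ep2, em2, ep0, ep0, ep0, ep0, ep0, ep0, em2, ep0, ep0, ep0, ep0, ep0, ep0, ep0, em2, ep6, ep0, ep0, ep2], [ep0, ep0, ep2, ep0, ep0, em2, ep2, em2, ep2, ep2, ep2, ep0, ep2, ep2, ep2, em2, ep2, em2, em2, ep0, ep0, ep2, em2, ep0], [em2, em2, ep0, ep2, em2, ep0, ep0, ep0, ep0, ep0, ep0, ep6, ep0, ep0, ep0, ep0, ep0, ep0, ep0, em2, em2, ep0, ep0, ep2], [ep0, ep0, em2, ep0, ep0, ep2, ep2, ep2, ep2, em2, ep2, ep0, ep2, ep2, em2, em2, em2, ep2, ep2, ep0, ep0, ep2,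 em2, ep0], [ep0, ep0, em2, ep0, ep0, em2, ep2, ep2, em2, ep2, em2, ep0, em2, ep2, ep2, em2, ep2, ep2, ep2, ep0, ep0, ep2, ep2, ep0], [ep0, ep0, ep2, ep0, ep0, em2, em2, ep2, ep2, ep2, em2, ep0, ep2, ep2, em2, ep2, em2, ep2, em2, ep0, ep0, ep2, ep2, ep0], [ep0, ep0, ep2, ep0, ep0, em2, ep2, ep2, ep2, em2, ep2, ep0, em2, ep2, ep2, ep2, em2, em2, ep2, ep0, ep0, em2, ep2, ep0], [ep0, ep0, ep2, ep0, ep0, ep2, ep2, ep2, em2, ep2, em2, ep0, ep2, ep2, em2, ep2, ep2, em2, ep2, ep0, ep0, em2, em2, ep0], [ep0, ep0, ep2, ep0, ep0, ep2, em2, ep2, ep2, ep2, ep2, ep0, em2, em2, em2, em2, ep2, em2, ep2, ep0, ep0, ep2, ep2, ep0], [ep0, ep0, em2, ep0, ep0, ep2, ep2, em2, ep2, ep2, ep2, ep0, em2, ep2, em2, ep2, ep2, ep2, em2, ep0, ep0, em2, ep2, ep0], [ep0, ep0, ep2, ep0, ep0, ep2, ep2, em2, ep2, ep2, em2, ep0, em2, em2, ep2, ep2, em2, ep2, ep2, ep0, ep0,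 ep2, em2, ep0], [em2, em2, ep0, ep2, ep6, ep0, ep0, ep0, ep0, ep0, ep0, em2, ep0, ep0, ep0, ep0, ep0, ep0, ep0, em2, em2, ep0, ep0, ep2], [ep0, ep0, ep2, ep0, ep0, ep2, ep2, ep2, ep2, em2, em2, ep0, ep2, em2, ep2, em2, ep2, ep2, em2, ep0, ep0, em2, ep2, ep0], [ep0, ep0, ep2, ep0, ep0, em2, ep2, em2, em2, em2, ep2, ep0, ep2, em2, em2, ep2, ep2, ep2, ep2, ep0, ep0, ep2, ep2, ep0], [ep2, ep2, ep0, ep6, ep2, ep0, ep0, ep0, ep0, ep0, ep0, ep2, ep0, ep0, ep0, ep0, ep0, ep0, ep0, ep2, ep2, ep0, ep0, em2], [ep0, ep0, ep2, ep0, ep0, ep2, em2, ep2, em2, em2, ep2, ep0, em2, ep2, ep2, ep2, ep2, ep2, em2, ep0, ep0, ep2, em2, ep0], [ep0, ep0, ep2, ep0, ep0, ep2, em2, em2, em2, ep2, ep2, ep0, ep2, ep2, ep2, em2, em2, ep2, ep2, ep0, ep0, em2, ep2, ep0], [ep0, ep0, em2, ep0, ep0, ep2, em2, em2, ep2, em2, em2, ep0, ep2, ep2, ep2, ep2, ep2, em2, ep2, ep0,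 ep0, ep2, ep2, ep0], [ep0, ep0, em2, ep0, ep0, ep2, ep2, ep2, em2, ep2, ep2, ep0, ep2, em2, ep2, ep2, em2, em2, em2, ep0, ep0, ep2, ep2, ep0], [ep0, ep0, em2, ep0, ep0, em2, em2, ep2, ep2, ep2, ep2, ep0, ep2, em2, ep2, ep2, ep2, ep2, ep2, ep0, ep0, em2, em2, ep0], [ep2, ep2, ep0, em2, ep2, ep0, ep0, ep0, ep0, ep0, ep0, ep2, ep0, ep0, ep0, ep0, ep0, ep0, ep0, ep2, ep2, ep0, ep0, ep6]],
   [[ep6, em2, ep0, ep0, ep0, em2, em2, ep0, ep0, ep0, ep0, ep0, ep0, ep0, ep0, ep0, ep0, ep0, ep2, ep0, em2, ep0, em2, ep2], [em2, ep6, ep0, ep0, ep0, em2, em2, ep0, ep0, ep0, ep0, ep0, ep0, ep0, ep0, ep0, ep0, ep0, ep2, ep0, em2, ep0, em2, ep2], [ep0, ep0, ep2, em2, ep2, ep0, ep0, ep2, ep2, ep2, ep2, em2, em2, ep2, ep2, em2, em2, ep2, ep0, em2, ep0, ep2, ep0, ep0], [ep0, ep0, em2, ep2, em2, ep0, ep0, ep2, ep2, em2, em2, ep2, em2, ep2, ep2, ep2, em2, ep2,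 ep0, ep2, ep0, ep2, ep0, ep0], [ep0, ep0, em2, ep2, ep2, ep0, ep0, em2, em2, em2, ep2, ep2, ep2, ep2, ep2, em2, ep2, ep2, ep0, em2, ep0, ep2, ep0, ep0], [ep0, ep0, ep2, ep2, em2, ep0, ep0, em2, ep2, ep2, ep2, ep2, ep2, em2, em2, em2, em2, ep2, ep0, ep2, ep0, ep2, ep0, ep0], [ep0, ep0, ep2, ep2, ep2, ep0, ep0, ep2, em2, em2, ep2, em2, ep2, ep2, em2, ep2, em2, ep2, ep0, ep2, ep0, em2, ep0, ep0], [em2, em2, ep0, ep0, ep0, em2, em2, ep0, ep0, ep0, ep0, ep0, ep0, ep0, ep0, ep0, ep0, ep0, ep2, ep0, em2, ep0, ep6, ep2], [ep0, ep0, em2, em2, ep2, ep0, ep0, em2, ep2, ep2, ep2, ep2, em2, ep2, em2, ep2, ep2, ep2, ep0, ep2, ep0, em2, ep0, ep0], [ep0, ep0, ep2, em2, ep2, ep0, ep0, ep2, ep2, em2, em2, ep2, ep2, em2, ep2, em2, ep2, ep2, ep0, ep2, ep0, em2, ep0, ep0], [ep0, ep0, ep2, em2, em2, ep0, ep0, em2, em2, ep2, em2, em2, ep2, ep2, ep2, ep2, ep2,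 ep2, ep0, ep2, ep0, ep2, ep0, ep0], [ep0, ep0, ep2, em2, em2, ep0, ep0, ep2, ep2, em2, ep2, ep2, ep2, ep2, em2, ep2, ep2, em2, ep0, em2, ep0, ep2, ep0, ep0], [em2, em2, ep0, ep0, ep0, em2, ep6, ep0, ep0, ep0, ep0, ep0, ep0, ep0, ep0, ep0, ep0, ep0, ep2, ep0, em2, ep0, em2, ep2], [ep2, ep2, ep0, ep0, ep0, ep2, ep2, ep0, ep0, ep0, ep0, ep0, ep0, ep0, ep0, ep0, ep0, ep0, ep6, ep0, ep2, ep0, ep2, em2], [em2, em2, ep0, ep0, ep0, em2, em2, ep0, ep0, ep0, ep0, ep0, ep0, ep0, ep0, ep0, ep0, ep0, ep2, ep0, ep6, ep0, em2, ep2], [ep0, ep0, em2, ep2, ep2, ep0, ep0, ep2, ep2, ep2, em2, em2, ep2, ep2, em2, em2, ep2, em2, ep0, ep2, ep0, ep2, ep0, ep0], [ep0, ep0, ep2, ep2, ep2, ep0, ep0, em2, ep2, em2, ep2, em2, em2, em2, ep2, ep2, ep2, em2, ep0, ep2, ep0, ep2, ep0, ep0], [ep0, ep0, ep2, ep2, em2, ep0, ep0, ep2, em2, ep2, ep2, ep2, em2, ep2, ep2, em2,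 ep2, em2, ep0, ep2, ep0, em2, ep0, ep0], [ep0, ep0, ep2, ep2, ep2, ep0, ep0, ep2, em2, ep2, em2, ep2, em2, em2, em2, ep2, ep2, ep2, ep0, em2, ep0, ep2, ep0, ep0], [ep0, ep0, em2, ep2, em2, ep0, ep0, ep2, ep2, ep2, ep2, em2, ep2, em2, ep2, ep2, ep2, ep2, ep0, em2, ep0, em2, ep0, ep0], [em2, em2, ep0, ep0, ep0, ep6, em2, ep0, ep0, ep0, ep0, ep0, ep0, ep0, ep0, ep0, ep0, ep0, ep2, ep0, em2, ep0, em2, ep2], [ep0, ep0, ep2, ep2, ep2, ep0, ep0, em2, ep2, ep2, em2, ep2, ep2, ep2, ep2, ep2, em2, em2, ep0, em2, ep0, em2, ep0, ep0], [ep0, ep0, em2, em2, ep2, ep0, ep0, ep2, em2, ep2, ep2, ep2, ep2, em2, ep2, ep2, em2, em2, ep0, ep2, ep0, ep2, ep0, ep0], [ep2, ep2, ep0, ep0, ep0, ep2, ep2, ep0, ep0, ep0, ep0, ep0, ep0, ep0, ep0, ep0, ep0, ep0, em2, ep0, ep2, ep0, ep2, ep6]]]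

/-- The packed columns. -/
def cols : List (List ℤ) :=
  [[5954262829429611642215560878044715966113191682744485797281214636234569980736016475547470347117086806509192678902441330590671420322945695750, 5954262829429611642215560878044715966113191682744485797281214636234569980736016475547470347117086806509192678902441330590671420322954084350, 5678432948929925167058370334845234784543191589948998113270904957107613278460618079610597483816232420516500632727607028952818157355008, -5678422118188932497774823557566208172552706868186863637273128306022636198096416906956348383846232307385636980304501798659597262651392, 5954262829429611642215560878044715966113191682744485812822565774040402548091711730135621600256341518926308848916940608501905701964613681150, -5678432948929925167058360940674903697754220027566345947558537205272872466079303004023430314017186027089443794386486485994642700500992,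 5678432948929925157207868785755573968986090925438964760703330741281946658301047463169175715746371619319987957189416748154516152516608, 5678432948929925167058360940683862668178991248868840725045069231496644213836855378558660608149637532432545980740691136858829732446208, 5678422118188932507625325106664827975622475041366672426487408197428491495690668170893817882849707348445952061344341072279933821124608, -5678432948929925157207868785746614981473423416769189324056625065715237967055434229678056769581097066746087741603183818550361762824192, 5954262829429611662873559902739984683360545058768580791918860978868358083381291327872651323251816363546355505143543982077896796104925642750, 5678432948929925157207859391585242865109223075689031935830789340090788929098108468693113313481859230101531729549873147054628492279808, -5678422118188932497774814163404836056188506527106706249047292580411667133472654205892719495080979562132086580000278968877708625313792,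 5678432948929925167058370334854193772055842802330962874028920485122294668014518221251900610035011699303624585474702914723041937195008, 5954262829429611642215560878044715966113191682744485797281214636234569980736016475547470347117097956881791944214012098449807744503698685950, 5678422118188932507625325106673786963135126253748637187245423725429692911910992992637787501524966178082432367355018499937134033502208, -5678422118188932507625315712503455859258274700286515038261572471804042457733342409897182413651811654631800281630910349244641356808192, -5678422118188932497774814163395877085763751602092022147449450701753402660740390243104638528438543779746686712825281490366830835924992, 5954262829429611642215560878044715966113191682744485797281229457621992357209030692633551459169292025067229880894638381161424433203539607550, 5678432948929925157207859391576283894684468150674347834232947461446004429699419825802365854382922629218842950457346112487883494391808,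 5678422118188932497774823557575167160065374376856639073919833981602824862675605460344800837555006041482530693576838395887757985579008, -5954262829429611642215560878044715966113191682744485797281214636220435204217789400910803967111143458382572807727436378925698570712604737534, 5678422118188932507625315712494496888833503478984020260775040445593750683309365355259285627062880598459624151616794273661498853163008, 17862788488288834947304681658829416615586928424257552402022656210516618212163806676005158002671517709785873629091688787935390405843499352066],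
   [5954262829429611647380060634218533145425034298720507315808125745107214350743449089934231076347168586671318607839437624271901084384487276550, 5954262829429611647380060634218533145425034298720507315808125745107214350743449089934231076347168586671318607839437624271901084384495665150, -5954262829429611647380060634218533145425017210824219948527466584933564994326532268298052223125009010338456030081631379147500900687791783934, 5678422118194096997530987980575188919835779479926908728978243588840200735148071037533936720405928437419009149761542800047563664785408, 5678432948935089666814534757854215531826256053545137859620981454954187677318837140794546161764686973291298014033775951249704335966208, 5678432948924760667302187123504550834106955222890048812982624981815329015452837855812101878750052968390580314754170864538874185515008, 5678432948935089656964042602934885803058118803273851342232123628368744732708728257598473907713756276992310394125668834454416033579008,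 -5678422118183768007869151289485516141550439015387880514424963947747176284451146294075336949114426045684826770310616127983779726753792, 5954262829429611647380060634218533145425034298720507331349476882913046918099144344522382329486423299088434777853936902183135366026155261950, -5678432948924760667302187123495591855138244006047819036449664560902865033464916243294200232237023901160506798092805256330581158920192, 5678432948924760657451694968567303147401395538934302742527832178628439892647765695224777517823226499195611985802130946320686810923008, 5954262829429611647380060634218533145425034298720507315808125745107214350743449089934231076347168586681952431805716951255131540866730033150, 5954262829429611647380060634218533145425034298736803603618801633797361916250724115222642823496496076676407731434272674670007778033954455550, -5678422118183767998018640346225524222116478649271819667518499693324869059064985671439440243323108994581610824199216873267200725614592,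 5678422118194097007381498923844139818238451062885199337596280841798498928305054931623047964629869474374889057638022301943995362705408, 5678422118194097007381498923853098797207162279727429099307867975111008110295022775336981144936770385544844552351451622809642056286208, -5678432948935089656964042602925926824089407586431621565699149072679762523646169978688874304753953366545432403522323769528335458107392, 5678432948924760657451694968576262126370106755776532519060806734317422088854807360086435976237818580791342484764059403831233172471808, 5954262829429611647380060634218533145425034298720507315808125745107214364223422423509550973680676130181133944658009835542187324936292401150, 5678432948935089666814534757863174510794967270387367636153941875866651646451242139287890689929799658361482977034372366522891274027008, -5678422118194096997530987980584147898804490696769138490689816587376191702918894308975459234589532600670873257227452925040928376225792,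 -5678422118183767998018640346216565243147767432429589905806926694788878104149654494093820993265687479937200846104324927548920369774592, 5678422118183768007869151289494475120519150232230110276136551081059685479296606231908557419744804052153495371061337270273072491921408, 17862788488288834942140181902655599436275085808281530883495745101643973842156374061618397273441435929623747700154692494254160741781957771266],
   [5954262829429611642215555952793941416803290147864473283214830491061941211012810247876356338364870416785695609450329535478349065380528390150, 5954262829429611642215555952793941416803290147864473283214830491061941211012810247876356338364870416785695609450329535478349065380536778750, 5954262829429611642215575653797039614042896287384523355021733030931576443736144222023058461225756165391001316583456977936169468694523543550, 5954262829429611662873554977489210134050643523888568277852476833695729313658085100201537314499599973822858435691432186965574441162508337150,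 -5678422118188932502700074332124477053056306245687065128484912718299340510288346361800262784181174144230839558484255461414369274888192, 5954262829429611642215555952793941416803290147864473283214830491061941224492783581451676235698377960295510946268901746748635305932333514750, -5678422118188932502700064937945186987298631614613859207163519179418544601058043229532120864065840641436613426120148218791949492027392, 5678432948929925162133119560304883870520962789816896489883747856352571461786847107243148393645288202234172473679590592368099519889408, 5678432948929925162133110166134552766644111236347003665331000753831502273519214652095505199633196903684728985790484292687028769783808, 5678422118188932502700074332115518074087595028852606042342235568658768289462997056885065666459983851376499949549228749924991403819008, -5678432948929925162133110166134552766644103088210868995544857817755930869415749195156268721998289225015241240371270925557973586542592,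 5678432948929925162133119560295924891552251572966896037781877451768170531489823569962759815993112122194001093890924498339690769809408, 5678422118188932502700064937954145966267342831448318308127583751435589848955982969642984404439943567391841810272083128170280342519808, -5678422118188932502700064937945186987298623466462183201060971967928608742991712368831803291435573102935589954193118479567924328660992, 5954262829429611642215555952793941416803290147864473283214830491061941211012810247876356338364870416785695609450339206884905982413926039550, 5678422118188932502700064937954145966267334683312183638341454950136536659071649825011831676967838369129539820394769919961469663838208, 5678432948929925162133119560304883870520970937953031144848503370051669864528718577177927932136095116389440068984529070509458569822208, -5954262829429611642215555952793941416803290147864473283214830491061941211012810247876356338364870416785695609450329535469125693343673614334,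 -5678422118188932502700074332115518074087586880700930021418300934792359404324088020965100600235955804455089092099614121014539679956992, 5678422118188932502700074332124477053056298097550930473520171339376760347476615912317411382223817989410736217540746770069578588356608, 5678432948929925162133119560295924891552259721118572058705826220411097630847864918190808610079197450991974565346721013504433306206208, 5678432948929925162133110166125593787675400019512544564366936181814457038476779266056563863594801350292908905944982399230700377079808, -5678432948929925162133110166125593787675391871360868558264374835548002940480307384904318132130337853926098038120804600579337530376192, 17862788488288834947304686584080191164896829959137564916089040355689246981887012903676272011423734099509370698543800583047712760785916657666],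
   [5954257151002078082786728461457163926243314711377134392687788850941920288917015328627000439488949456584190685341113183599697127149135724550, 5954257151002078082786728461457163926243314711377134392687788850941920288917015328627000439488949456584190685341113183599697127149144113150, 5415370496324791271839545372988137855724284438510045496690398969927951187998785485176131934228107970401402882172761454682308608, 5415370496334641773388643992791207623897464247299259776581804825212689934908651032470799712530438984652593700162565655922475008, 5415370496324791271839545372996681803867968078839625590582472177486566105951362756505685975532307266967155387438882801642897408, 5415370496334641773388643992791207615749312571278335841947938416340406530226802989608911381222246874615321709483926342974046208, -5415370496324791271839536414017713092651125849063092616026783195277503559932429175842935686711982235648015825807737875744161792,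 5954279864712212320502058127826160426385013262669655871377172647510644683894768872312104382959284261695614459169913379417757550105436618750, -5415370496324791271839536414009169144507442208733512536269486505945963266386255891516520257937532267406079795523767951050145792, -5415370496324791271839536414009169152655578343403298665070785559135847599530887044243992363135794569395957108731976761728827392, 5415370496334641773388643992799751572041147887628839870473864552797971289801295297219921110886077679848608394868996187785003008, 5415370496324791271839536414017713100799261983732878758962858766694462517483476007597795424262604807011139194175216296140996608, 5954257151002078082786728461457163926243314711377134392687788850941920288917015328627000439488949456594824509307392510582927583631378481150, -5954257151002078082786728461438375585581124045554018547913474154722914828525748769661342111716691784383273817793403591612618977524880244734,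 5954257151002078103444727486152432643490668087401229387325435193575708391562290180952181415623679013621353511582215835086922502931115671550, 5415370496334641773388635033820782852676153981846204348706685634730842412921661398984540554527251625067213219278916306975326208, 5415370496334641773388635033820782860824305657852306895918175570601764235876469311834395651937705732156844404018489697352286208, -5415370496324791271839545372988137863872420573165010252204098068317837555114648342510287044403533937176530196700631674956808192, 5415370496324791271839545372996681812016104213494590331961394757649377848660809934834754198553903587510572365080149365891268608, -5415370496334641773388635033812238904532470341516624254814625907145561058029005442211170136349001988821768925948641106137710592, 5954257151002078082786728461457163926243314711377134392687788850941920288917015328627000439488949456584190695482317985425532339122761367550,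 -5415370496334641773388643992799751563892996211607915921705221625698613236193102921498724158690503489174679129403909671686766592, 5415370496334641773388635033812238912680622017522726816160892361243557529910157687942634599845368799689593103747292468984414208, 17862794166716368506733514075416968655456805395624903806616081995809267903982807822925627910299655059710875622653016934926364699017309323266]]

/-- The packed columns of the transposes. -/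
def colsT : List (List ℤ) :=
  [[5954262829435027017876390350736450150462886820653004875909894644929967384219100052865424036783721899006995782896244317108219545232336748550, 5954262829435027017876390350736450150462886820653004875909894644929967384219100052865424036783721899006995782896244317108219545232345137150, 5678427533564593327247515291759516855203274747791362408573490594035317808059488344640827802885889668062638147316040508895272745566208, 5678427533554264337585669206499512981585030873473852374616453591376370488466255651133252789980784064361383939585062458639022615953408, -5678427533564593327247515291759516846659326604107722078993410836738628476519194798467543476470460893612669905380001001544515103752192, 5678427533564593327247515291750557876234571679093037977395568958093843977120506155576796017371524292740122331089299802198539824529408,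 5678427533554264327735167657391934199546551483451813823690600701448004209290248529759189561562044547339106940994729123243201509982208, 5954262829435027017876390350736450150462886820653004891451245782735799951574795307453575289922976611424111952910743595019453826874004733950, -5678427533554264327735167657391934191002603339768173494110506809374796650675318317205899280648116553752652123339174730099485722017792, 5678427533564593337098016840858136649729086629143625537674039365549966637281604980015830233706039289584182132322376640549430396715008, 5678427533554264337585669206499512973041082729790212045036373834093161130259537424868993973057139729328552177754173588733920341393408, 5678427533564593337098016840858136658273034772827265867254119122833175995488310946327454136617463981186426170341536048062043424555008, -5954262829413365535891071484645993789649268979219907711258521077936448012495548323898192586603722098959307192442358448272583579827422887934,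 5954262829435027017876390350755238491125077486476120720684209341148972844610366611831082364555979571207912650443953909095297694856592228350, 5954262829435027017876390350736450150462886820653004875909894644929967384219100052865424036783721899006995782896253988514776462265734397950, -5678427533554264327735167657400893178515270848437948930757212484954985315254506870594351734356890287839404631809685492106876726280192, 5678427533564593337098016840849177679304331704128941436076197486891702164549341017227749267063603507188641060345562550198615836459008, -5678427533554264337585669206490554002616311508487717267549841807869389382501985050333763678924688223985449991399968937869733309448192, -5678427533554264337585669206490553994072363364804076937969747915809661797220642417642133843815509511777342519197012917194931455393792, 5678427533554264327735167657400893169971322704754308601177132727658295983714225584397086348150975603511283071008854422207176961425408,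 5954262829435027017876390350736450150462886820653004875909894644929967384219112908369778108705926234703734512197064494732169807575019159550, -5678427533564593327247515291750557867690623535409397647815475066020636418505588202999524676667110389275514194568935399744216017928192, 5678427533564593337098016840849177670760383560445301106496103594831974579267986124583484517942205151549945864330858620404843212177408, 17862788488283419571643852186137682431237233286349033323393976201821220808680723098687204313004882617288070525097885801417842280934108299266],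
   [5954262829429611647380060634213836060259482360294730588632389037629511985627589046093745933246220713452622721705841175468365109482166943750, 5954262829429611647380060634213836060259482360294730588632389037629511985627589046093745933246220713452622721705841175468365109482175332350, -5678422118194097007381494226758974266300017138006347579964868505566974183122305410559981950532622731567344603739604137058641318510592, 5678422118194097007381494226758974266300025286150252925319907290537964334171244834025543824629933646820531773164552745810415486763008, 5678432948935089656964037905849720251119684878402770260169607141032638721615948348989811096893588631304476124494627654179448535646208, 5678432948924760667302191820589716386045380999617224549690102684180444875496678340955202826623271664276713911202974400513776505847808, 5954262829429611647380060634213836060259482360294730588632389037629511999107562379669065830579728256962438058524413386738651350033972068350,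 -5678432948924760657451690271482137595462961614055450999717807264773388161682089995309436781833670926813842526480814584535235891822592, 5678432948935089666814539454939381083764681830280084271897355006214722271452647238392050301764622800845655288835848173838287669035008, -5678422118183768007869146592409309568580716307359029208895422016100052482420912404411946814143194443657512084007625227509941709832192, 5678422118183767998018645043301730795086193209164536318083300246049412698283476851655652060376490174277916537853089268807451340177408, 5954262829429611647380060634232624400921673026117846433406703733848517446018855605059404261018478385653539589253550767455443259106422423550, 5678422118194096997530992677669313450742924621640219572752333074712297701156169863512199852224376106894718287120145071666804197163008, -5678432948924760657451690271482137595462969762199356330251458627367905298513943337662946450712423804854896303724763938607152383393792,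 5954262829429611647380060634213836060259482360294730588632389037629511985627589046093745944938233812099846067335319837198629266729627287550, 5954262829429611647380060634213836060259482360294730588632389037643646762145816120730412313252164061579242592880846127133337959092507901950, -5954262829429611647380060634213836060259482360294730588632389037629511985627589046093745933246220713452622721705841175468365100686073921534, 5678432948924760667302191820589716386045389147761129880223754046774961999473027329236790291166338437422574342726702313074772785758208, 5678432948935089656964037905849720251119693026546675605524645926003628872664887772455372959840537581106176797676865298479513713246208, 5678432948935089666814539454939381083764689978423989617252393791185712409646082307785689960375864378104230076986711029548534944759808, -5678422118194096997530992677669313450742916473496314227397294289741307562962734794118560182462751296557006853676256461015830696558592,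 -5678422118183767998018645043301730795086201357308441648616951608643929822259825839937239513769173714324357914480158202747847853473792, 5678422118183768007869146592409309568580724455502934539429073378694569619252765746765456471871585356267361774612533734298170171588608, 17862788488288834942140181902660296521440637746707307610671481809121676207272234105458882416542383802842443586288288943057696716684278104066],
   [5954262829429611647380060634218533149904519511106117967055514488373227462629322968710418343962315652897071274319928400456697224472763039750, 5954262829429611647380060634218533149904519511106117967055514488373227462629322968710418343962315652897071274319928400456697224472771428350, -5678432948935089656964033208760075213968873491016576459149967576660218253603349804160364882716570818121246221296652523865274677460992, -5954262829429611647380060634218533131986561573683684282595976243825673237656158990833222064762402845186736304878640837409677278299906113534,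 5954262829429611647380060634218533149904519511106117982596865626179060029985018223298569597101570365314187444334427678367931506114431025150, -5678422118183767998018640346221044736904093038620572278775233680212983185186209484171825096256883241915130333423032077127112449851392, -5678422118194097007381498923848619303450828525392541380984508069939394651134891695425101237598773677974357294792703760542804310228992, 5678432948924760657451694968571782632613781149585550131271098191740325766526541882492392664889452251862092476578315742460775086686208, 5678422118194096997530987980579668405048165090578156117721509601952086609026847224801551867472154190085489640537727596187651940548608, 5678432948924760667302187123500071340350621468555161094659279211420233783367343442280227925910555479956579632914947111445827533406208, 5678432948924760667302196517670402444227481170161188574176781827640401361521355273255055381188623820708207098404836888918892119851008,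 5954262829429611647380060634218533149904519511106117967055514488373227462629322968710418343962315652897071284461133202282532436446388682750, 5678432948935089666814534757858695025582589807880025577944327225349282909404319294373785200591964818294710972061261018587020979601408, -5678432948924760657451685574401451545824817735346803310913769224876575092338661876287173140603000212347980947726337014427636299988992, 5678432948935089666814544152029026112371553222118772413123043614589506584953781027607442712662620299111918119797473054756967974699008, 5678432948935089656964042602930406317845733192622603953488857615256858858829952070330858760647530524325829903349484038314327757815808, 5678422118194096997530997374749999508925024792184183597239012218172254200036351149883974611125414368231546015172648279877780250820608, 5678422118183768007869151289489995635306772769722768232748323852918789743611265114034581942440203109824726304057625304494887464337408,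 5678422118194097007381489529678288216661865111153794560627179103075643989802528303256130855909268477055041638686660299465648670507008, 5954262829429611647380060634218533149904519511106117967055514488373227462629322968710418343962315652897071274319928400456697233268856061950, 5954262829429611647380060634218533149904519511106117967055514488373227462629322968710418343962315652897071274319928400465920596509617815550, -5678422118183768007869141895319664531429913068116740738409433814322149151240179461900337184805423776036382794561044323440491539464192, -5678422118183767998018649740391375823693056452859319113953950069453206873591163311513077874402006629244075807422523207778726148308992, 17862788488288834942140181902655599431795600595895920232248356358377960730270500182842210005826288863397995033674201718069364601693682008066],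
   [5954262829429611642215560878044715966113191682744485797281222046921213780713410046772177713140217741724901344311037380043561501958072172550, 5954262829429611642215560878044715966113191682744485797281222046921213780713410046772177713140217741724901344311037380043561501958080561150, -5678422118188932507625315712494496880289563483444285269139298694691555869316645504745303898073998296067135370690413411407053709115392, -5678422118188932497774814163395877077219795310264476479925018803299180557911473914777090110949729809072939682039459150926370876424192, 5678432948929925157207868785746614990017379708596734991581056964169460069884362817981624127279425127531540248722379536857869118865408, 5954262829429611662873559902739984683360545058768580791918868389555001883358684899097358689274947298762064170552140031530786877740052119550, 5954262829429611642215560878044715966113191682744485797281222046935348557231637121408844093146161089851521215486042331708534351568413130750,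 5678422118188932507625325106673786954591186258208902195609681974540978071251860721973774194091823968281316152107223283227215641182208, -5678422118188932497774823557575167151521418085029093406395402083135122786513101552143899972313178799174084698442936343501240839176192, 5678432948929925167058370334854193763511902806791227882393178734220099866877302724809841085381826135650577819856365281034675796574208, 5678422118188932507625315712503455867802214695826250029897314222706237258870545646386607024292777574864400528239335132398047207620608, 5678432948929925157207868785755573960442134633611419093178898842827724542616626780769705093921860909927081320699202850571924440875008, 5678432948929925167058360940674903689210280032026610955922795454384157638275675087431339210919740556027769613789547611667277920862208, -5678422118188932507625325106664827984166415036906407418123149948317206323494308347438543899959372462948355170554844467566206141857792,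 5678432948929925167058360940683862676722931244408575716680810982385359054495999909175308829594999385654108714998399204121300600619008, 5678432948929925167058370334845234793087131585488733104906646708009808092453325670171944298792895079468260485040423370230763574263808, -5678432948929925157207859391576283886140511858846802166708515562978302340681411563529542784805398648191237330276239388142759986593792, -5678432948929925157207859391585242873653179367516577603355221238558491005260600116917995238514172382277989838746750150150150990856192, -5954262829429611642215560878044715966113191682744485797281207225533791404240395829686096601088012523166864142318840329472808489077478260734, 5678422118188932497774814163404836064732462818934251916571724478865889249157087148268209057115004361656981102427517915733702798737408, 5954262829429611642215560878044715966113191682744485812822573184727046348069105301360328966279472454142017514325536657954795783599740157950,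 5678422118188932497774823557566208181096663160014409304797560204490338287114412909253152513214242198301537124152235144155265559953408, 5954262829429611642215560878044715966113191682744485797281222046921213780713410046772177713140228892097500609622608147902697826138825162750, 17862788488288834947304681658829416615586928424257552402022648799829974412186413104780450636648386774570164963683092738482500324208372875266]]

/-- The images of the generators. -/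
def imgs : List (List (List ℤ)) :=
  [[[ep2, em2, ep0, ep0, ep0, ep0, ep0, em2, ep0, ep0, ep0, ep0, ep2, em2, em2, ep0, ep0, ep0, ep0, ep0, em2, ep0, ep0, em2], [em2, ep2, ep0, ep0, ep0, ep0, ep0, em2, ep0, ep0, ep0, ep0, ep2, em2, em2, ep0, ep0, ep0, ep0, ep0, em2, ep0, ep0, em2], [em1, em1, ep1, ep1, ep1, ep1, em1, em1, em1, ep1, em1, em1, ep1, em1, em1, ep1, em1, em1, ep1, ep1, em1, ep1, ep1, em3], [em1, em1, ep1, em1, ep1, ep1, em1, em1, em1, em1, ep1, ep1, ep1, em1, em1, ep1, ep1, ep1, em1, ep1, em1, ep1, em1, em3], [em2, em2, ep0, ep0, ep0, ep0, ep0, em2, ep0, ep0, ep0, ep0, ep2, em2, ep2, ep0, ep0, ep0, ep0, ep0, em2, ep0, ep0, em2], [em1, em1, em1, ep1, ep1, ep1, ep1, em1, em1, ep1, ep1, ep1, ep1, em1, em1, ep1, em1, ep1, ep1, em1, em1, em1, em1, em3], [em1, em1, ep1, ep1, em1, em1, ep1, em1, em1, em1, ep1, em1, ep1, em1, em1,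 ep1, ep1, ep1, ep1, em1, em1, ep1, ep1, em3], [em1, em1, em1, ep1, em1, ep1, ep1, em1, ep1, em1, em1, ep1, ep1, em1, em1, ep1, em1, ep1, em1, ep1, em1, ep1, ep1, em3], [em1, em1, ep1, em1, ep1, em1, ep1, em1, ep1, em1, ep1, ep1, ep1, em1, em1, ep1, em1, em1, ep1, ep1, em1, em1, ep1, em3], [em1, em1, ep1, ep1, ep1, em1, ep1, em1, ep1, ep1, em1, em1, ep1, em1, em1, ep1, ep1, ep1, em1, ep1, em1, em1, em1, em3], [em2, em2, ep0, ep0, ep0, ep0, ep0, em2, ep0, ep0, ep0, ep0, ep2, em2, em2, ep0, ep0, ep0, ep0, ep0, ep2, ep0, ep0, em2], [em1, em1, ep1, em1, ep1, ep1, ep1, em1, ep1, ep1, ep1, em1, ep1, em1, em1, em1, em1, ep1, em1, em1, em1, ep1, ep1, em3], [em1, em1, em1, em1, em1, ep1, ep1, em1, ep1, ep1, ep1, em1, ep1, em1, em1, ep1, ep1, em1, ep1, ep1, em1, ep1, em1, em3], [em1, em1, em1, em1, ep1, em1, ep1, em1, em1, ep1, em1, ep1, ep1, em1,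 em1, em1, ep1, ep1, ep1, ep1, em1, ep1, ep1, em3], [em2, em2, ep0, ep0, ep0, ep0, ep0, ep2, ep0, ep0, ep0, ep0, ep2, em2, em2, ep0, ep0, ep0, ep0, ep0, em2, ep0, ep0, em2], [em1, em1, em1, ep1, ep1, ep1, em1, em1, ep1, em1, ep1, em1, ep1, em1, em1, em1, ep1, ep1, ep1, ep1, em1, em1, ep1, em3], [em1, em1, ep1, ep1, ep1, ep1, ep1, em1, ep1, em1, em1, ep1, ep1, em1, em1, em1, ep1, em1, ep1, em1, em1, ep1, em1, em3], [em1, em1, ep1, ep1, em1, em1, em1, em1, ep1, ep1, ep1, ep1, ep1, em1, em1, em1, em1, ep1, ep1, ep1, em1, ep1, em1, em3], [em2, em2, ep0, ep0, ep0, ep0, ep0, em2, ep0, ep0, ep0, ep0, ep2, ep2, em2, ep0, ep0, ep0, ep0, ep0, em2, ep0, ep0, em2], [em1, em1, em1, ep1, ep1, em1, em1, em1, ep1, ep1, ep1, ep1, ep1, em1, em1, ep1, ep1, em1, em1, em1, em1, ep1, ep1, em3], [em1, em1, ep1, em1, em1, ep1, em1, em1, ep1, ep1, em1, ep1, ep1,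 em1, em1, ep1, ep1, ep1, ep1, em1, em1, em1, ep1, em3], [ep0, ep0, ep0, ep0, ep0, ep0, ep0, ep0, ep0, ep0, ep0, ep0, ep4, ep0, ep0, ep0, ep0, ep0, ep0, ep0, ep0, ep0, ep0, em4], [em1, em1, ep1, ep1, em1, ep1, ep1, em1, em1, ep1, ep1, ep1, ep1, em1, em1, em1, ep1, em1, em1, ep1, em1, em1, ep1, em3], [ep0, ep0, ep0, ep0, ep0, ep0, ep0, ep0, ep0, ep0, ep0, ep0, ep0, ep0, ep0, ep0, ep0, ep0, ep0, ep0, ep0, ep0, ep0, ep0], [ep2, ep2, ep0, ep0, ep0, ep0, ep0, ep2, ep0, ep0, ep0, ep0, em2, ep2, ep2, ep0, ep0, ep0, ep0, ep0, ep2, ep0, ep0, ep6], [em1, em1, ep1, ep1, ep1, ep1, ep1, em1, ep1, ep1, ep1, ep1, ep3, em1, em1, ep1, ep1, ep1, ep1, ep1, em1, ep1, ep1, em1], [ep1, em1, ep1, ep1, em1, ep1, ep1, ep1, ep1, ep1, ep1, ep1, ep1, ep1, em1, em1, ep1, em1, ep1, ep1, em1, ep1, em1, ep3], [em1, ep1, em1, ep1, ep1, ep1, ep1, ep1, ep1, ep1, ep1, ep1,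 ep1, em1, em1, em1, ep3, em1, ep1, ep1, em1, ep1, ep1, ep1], [ep0, ep0, ep0, ep0, ep0, ep2, ep0, ep0, ep0, ep2, ep0, ep0, ep0, ep2, ep0, ep0, ep2, ep0, ep2, ep2, ep0, ep0, ep2, ep2], [ep0, ep0, ep0, ep0, ep0, ep0, ep0, ep0, ep0, ep2, ep2, ep2, ep2, ep2, ep0, ep0, ep2, ep0, ep0, ep2, ep0, ep2, ep0, ep0], [ep0, ep0, ep0, ep0, ep0, ep0, ep0, ep0, ep2, ep2, ep0, ep2, ep0, ep0, ep2, ep0, ep2, ep0, ep2, ep0, ep0, ep2, ep0, ep2], [ep0, ep0, ep0, ep0, ep0, ep0, ep0, ep2, ep0, ep2, ep0, ep2, ep2, ep2, ep0, ep0, ep0, ep2, ep2, ep0, ep0, ep0, ep0, ep2], [ep0, ep0, ep0, ep2, ep0, ep0, ep0, ep2, ep0, ep0, ep2, ep0, ep2, ep2, ep0, ep0, ep2, ep0, ep0, ep0, ep0, ep0, ep2, ep2], [em1, em1, em1, ep1, em1, ep1, em1, ep1, ep3, ep1, ep1, ep1, ep1, ep1, em1, ep1, ep1, ep1, ep1, ep1, em1, ep1, ep1, ep1], [ep0, ep0, ep0, ep0, ep2, ep0, ep0, ep0, ep2, ep0, ep0,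 ep2, ep2, ep2, ep0, ep0, ep2, ep0, ep2, ep0, ep0, ep0, ep2, ep0], [ep0, ep0, ep2, ep2, ep0, ep0, ep0, ep2, ep2, ep2, ep0, ep2, ep2, ep0, ep0, ep0, ep2, ep0, ep0, ep0, ep0, ep0, ep0, ep0], [ep0, ep0, ep0, ep0, ep0, ep2, ep0, ep2, ep2, ep0, ep0, ep0, ep2, ep0, ep0, ep0, ep2, ep0, ep2, ep0, ep2, ep0, ep0, ep2], [ep1, ep1, ep1, ep1, ep1, ep1, ep1, ep1, ep1, ep1, ep1, ep1, ep1, ep1, ep1, em3, ep1, ep1, ep1, ep1, ep1, ep1, ep1, ep1]],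
   [[ep2, em2, ep0, ep0, ep0, ep0, em2, ep0, ep0, ep0, ep0, em2, ep0, ep0, em2, em2, ep2, ep0, ep0, ep0, ep0, ep0, ep0, em2], [em2, ep2, ep0, ep0, ep0, ep0, em2, ep0, ep0, ep0, ep0, em2, ep0, ep0, em2, em2, ep2, ep0, ep0, ep0, ep0, ep0, ep0, em2], [ep0, ep0, ep0, ep0, ep0, ep0, ep0, ep0, ep0, ep0, ep0, ep0, ep0, ep0, ep0, ep0, ep4, ep0, ep0, ep0, ep0, ep0, ep0, em4], [em1, em1, ep1, ep1, ep1, ep1, em1, em1, ep1, ep1, em1, em1, ep1, ep1, em1, em1, ep1, em1, em1, em1, ep1, em1, ep1, em3], [em1, em1, em1, em1, ep1, ep1, em1, ep1, em1, ep1, ep1, em1, ep1, em1, em1, em1, ep1, em1, em1, ep1, ep1, ep1, ep1, em3], [em1, em1, ep1, ep1, ep1, em1, em1, em1, em1, ep1, ep1, em1, em1, ep1, em1, em1, ep1, ep1, em1, ep1, em1, ep1, ep1, em3], [em1, em1, em1, em1, em1, em1, em1, em1, ep1, ep1, ep1, em1, ep1, ep1, em1, em1, ep1, ep1, ep1, em1, ep1, ep1,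 ep1, em3], [em1, em1, ep1, ep1, ep1, em1, em1, ep1, ep1, em1, ep1, em1, ep1, em1, em1, em1, ep1, ep1, em1, em1, ep1, ep1, em1, em3], [em2, em2, ep0, ep0, ep0, ep0, em2, ep0, ep0, ep0, ep0, em2, ep0, ep0, ep2, em2, ep2, ep0, ep0, ep0, ep0, ep0, ep0, em2], [em1, em1, em1, ep1, ep1, ep1, em1, ep1, em1, ep1, ep1, em1, em1, ep1, em1, em1, ep1, ep1, ep1, em1, ep1, em1, em1, em3], [em1, em1, ep1, ep1, em1, ep1, em1, ep1, ep1, ep1, ep1, em1, em1, em1, em1, em1, ep1, em1, ep1, em1, em1, ep1, ep1, em3], [em2, em2, ep0, ep0, ep0, ep0, ep2, ep0, ep0, ep0, ep0, em2, ep0, ep0, em2, em2, ep2, ep0, ep0, ep0, ep0, ep0, ep0, em2], [em2, em2, ep0, ep0, ep0, ep0, em2, ep0, ep0, ep0, ep0, em2, ep0, ep0, em2, ep2, ep2, ep0, ep0, ep0, ep0, ep0, ep0, em2], [em1, em1, ep1, ep1, em1, ep1, em1, em1, em1, em1, ep1, em1, ep1, ep1, em1, em1, ep1, em1, ep1, ep1, ep1,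 ep1, em1, em3], [em1, em1, ep1, em1, ep1, em1, em1, ep1, ep1, em1, ep1, em1, em1, ep1, em1, em1, ep1, em1, ep1, ep1, ep1, em1, ep1, em3], [em1, em1, ep1, ep1, em1, em1, em1, ep1, em1, ep1, em1, em1, ep1, em1, em1, em1, ep1, ep1, ep1, ep1, ep1, em1, ep1, em3], [em1, em1, ep1, em1, em1, ep1, em1, ep1, ep1, ep1, ep1, em1, ep1, ep1, em1, em1, ep1, ep1, em1, ep1, em1, em1, em1, em3], [em1, em1, ep1, em1, ep1, ep1, em1, ep1, em1, em1, em1, em1, ep1, ep1, em1, em1, ep1, ep1, ep1, em1, em1, ep1, ep1, em3], [em2, em2, ep0, ep0, ep0, ep0, em2, ep0, ep0, ep0, ep0, ep2, ep0, ep0, em2, em2, ep2, ep0, ep0, ep0, ep0, ep0, ep0, em2], [em1, em1, em1, ep1, em1, ep1, em1, ep1, ep1, em1, em1, em1, em1, ep1, em1, em1, ep1, ep1, em1, ep1, ep1, ep1, ep1, em3], [em1, em1, em1, ep1, ep1, em1, em1, ep1, ep1, ep1, em1, em1, ep1, ep1, em1, em1, ep1, em1, ep1, ep1,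 em1, ep1, em1, em3], [em1, em1, ep1, em1, ep1, ep1, em1, em1, ep1, ep1, em1, em1, em1, em1, em1, em1, ep1, ep1, ep1, ep1, ep1, ep1, em1, em3], [em1, em1, em1, ep1, ep1, ep1, em1, em1, ep1, em1, ep1, em1, ep1, em1, em1, em1, ep1, ep1, ep1, ep1, em1, em1, ep1, em3], [ep0, ep0, ep0, ep0, ep0, ep0, ep0, ep0, ep0, ep0, ep0, ep0, ep0, ep0, ep0, ep0, ep0, ep0, ep0, ep0, ep0, ep0, ep0, ep0], [ep2, ep2, ep0, ep0, ep0, ep0, ep2, ep0, ep0, ep0, ep0, ep2, ep0, ep0, ep2, ep2, em2, ep0, ep0, ep0, ep0, ep0, ep0, ep6], [em1, em1, ep1, ep1, ep1, ep1, em1, ep1, ep1, ep1, ep1, em1, ep1, ep1, em1, em1, ep3, ep1, ep1, ep1, ep1, ep1, ep1, em1], [ep1, em1, ep1, em1, ep1, ep1, em1, ep1, ep1, em1, ep1, ep1, ep1, ep1, em1, ep1, ep1, ep1, ep1, ep1, em1, em1, ep1, ep3], [em1, ep1, ep1, ep1, em1, ep1, em1, ep1, ep1, em1, ep1, em1, ep1, ep1, em1, ep1, ep1, ep1, ep1,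 ep3, ep1, em1, ep1, ep1], [ep0, ep0, ep0, ep2, ep0, ep0, ep0, ep0, ep0, ep0, ep0, ep2, ep2, ep0, ep0, ep2, ep2, ep0, ep2, ep2, ep0, ep0, ep0, ep2], [em1, em1, ep1, ep1, ep1, ep3, em1, em1, ep1, em1, em1, ep1, ep1, ep1, em1, ep1, ep1, ep1, ep1, ep1, ep1, ep1, ep1, ep1], [ep0, ep0, ep0, ep0, ep0, ep2, ep0, ep2, ep0, ep0, ep0, ep0, ep2, ep2, ep0, ep2, ep0, ep0, ep0, ep2, ep0, ep2, ep0, ep2], [ep0, ep0, ep2, ep0, ep2, ep0, ep0, ep0, ep0, ep0, ep0, ep2, ep0, ep2, ep0, ep0, ep0, ep0, ep2, ep2, ep0, ep2, ep0, ep2], [ep0, ep0, ep0, ep0, ep0, ep0, ep0, ep0, ep2, ep0, ep0, ep2, ep0, ep0, ep0, ep0, ep0, ep2, ep2, ep2, ep2, ep0, ep2, ep2], [em1, em1, ep1, ep1, ep1, em1, em1, ep3, ep1, em1, em1, ep1, ep1, ep1, em1, ep1, ep1, ep1, ep1, ep1, ep1, ep1, ep1, ep1], [em1, em1, ep1, ep1, em1, ep1, em1, ep1, ep1, ep1, em1, ep1, ep1, ep1, ep1, em1, ep1, ep1,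 ep1, ep3, ep1, ep1, em1, ep1], [ep0, ep0, ep0, ep0, ep2, ep2, ep0, ep2, ep2, ep0, ep0, ep0, ep0, ep2, ep0, ep0, ep0, ep2, ep2, ep2, ep0, ep0, ep0, ep0], [ep0, ep0, ep2, ep0, ep0, ep0, ep0, ep2, ep2, ep2, ep0, ep0, ep0, ep0, ep0, ep2, ep0, ep0, ep2, ep2, ep0, ep0, ep0, ep2], [ep0, ep0, ep2, ep0, ep0, ep2, ep2, ep0, ep0, ep0, ep0, ep0, ep2, ep0, ep0, ep0, ep0, ep2, ep2, ep2, ep0, ep0, ep0, ep2]],
   [[ep2, em2, ep0, ep2, em2, ep0, ep0, ep0, ep0, ep0, ep0, em2, ep0, ep0, ep0, ep0, ep0, ep0, ep0, em2, em2, ep0, ep0, em2], [em2, ep2, ep0, ep2, em2, ep0, ep0, ep0, ep0, ep0, ep0, em2, ep0, ep0, ep0, ep0, ep0, ep0, ep0, em2, em2, ep0, ep0, em2], [em2, em2, ep0, ep2, em2, ep0, ep0, ep0, ep0, ep0, ep0, em2, ep0, ep0, ep0, ep0, ep0, ep0, ep0, ep2, em2, ep0, ep0, em2], [em2, em2, ep0, ep2, em2, ep0, ep0, ep0, ep0, ep0, ep0, em2, ep0, ep0, ep0, ep0,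 ep0, ep0, ep0, em2, ep2, ep0, ep0, em2], [em1, em1, ep1, ep1, em1, em1, ep1, em1, ep1, ep1, ep1, em1, ep1, ep1, ep1, em1, ep1, em1, em1, em1, em1, ep1, em1, em3], [em2, em2, ep0, ep2, em2, ep0, ep0, ep0, ep0, ep0, ep0, ep2, ep0, ep0, ep0, ep0, ep0, ep0, ep0, em2, em2, ep0, ep0, em2], [em1, em1, em1, ep1, em1, ep1, ep1, ep1, ep1, em1, ep1, em1, ep1, ep1, em1, em1, em1, ep1, ep1, em1, em1, ep1, em1, em3], [em1, em1, em1, ep1, em1, em1, ep1, ep1, em1, ep1, em1, em1, em1, ep1, ep1, em1, ep1, ep1, ep1, em1, em1, ep1, ep1, em3], [em1, em1, ep1, ep1, em1, em1, em1, ep1, ep1, ep1, em1, em1, ep1, ep1, em1, ep1, em1, ep1, em1, em1, em1, ep1, ep1, em3], [em1, em1, ep1, ep1, em1, em1, ep1, ep1, ep1, em1, ep1, em1, em1, ep1, ep1, ep1, em1, em1, ep1, em1, em1, em1, ep1, em3], [em1, em1, ep1, ep1, em1, ep1, ep1, ep1, em1, ep1, em1, em1, ep1, ep1, em1,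 ep1, ep1, em1, ep1, em1, em1, em1, em1, em3], [em1, em1, ep1, ep1, em1, ep1, em1, ep1, ep1, ep1, ep1, em1, em1, em1, em1, em1, ep1, em1, ep1, em1, em1, ep1, ep1, em3], [em1, em1, em1, ep1, em1, ep1, ep1, em1, ep1, ep1, ep1, em1, em1, ep1, em1, ep1, ep1, ep1, em1, em1, em1, em1, ep1, em3], [em1, em1, ep1, ep1, em1, ep1, ep1, em1, ep1, ep1, em1, em1, em1, em1, ep1, ep1, em1, ep1, ep1, em1, em1, ep1, em1, em3], [em2, em2, ep0, ep2, ep2, ep0, ep0, ep0, ep0, ep0, ep0, em2, ep0, ep0, ep0, ep0, ep0, ep0, ep0, em2, em2, ep0, ep0, em2], [em1, em1, ep1, ep1, em1, ep1, ep1, ep1, ep1, em1, em1, em1, ep1, em1, ep1, em1, ep1, ep1, em1, em1, em1, em1, ep1, em3], [em1, em1, ep1, ep1, em1, em1, ep1, em1, em1, em1, ep1, em1, ep1, em1, em1, ep1, ep1, ep1, ep1, em1, em1, ep1, ep1, em3], [ep0, ep0, ep0, ep4, ep0, ep0, ep0, ep0, ep0, ep0, ep0, ep0, ep0, ep0,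 ep0, ep0, ep0, ep0, ep0, ep0, ep0, ep0, ep0, em4], [em1, em1, ep1, ep1, em1, ep1, em1, ep1, em1, em1, ep1, em1, em1, ep1, ep1, ep1, ep1, ep1, em1, em1, em1, ep1, em1, em3], [em1, em1, ep1, ep1, em1, ep1, em1, em1, em1, ep1, ep1, em1, ep1, ep1, ep1, em1, em1, ep1, ep1, em1, em1, em1, ep1, em3], [em1, em1, em1, ep1, em1, ep1, em1, em1, ep1, em1, em1, em1, ep1, ep1, ep1, ep1, ep1, em1, ep1, em1, em1, ep1, ep1, em3], [em1, em1, em1, ep1, em1, ep1, ep1, ep1, em1, ep1, ep1, em1, ep1, em1, ep1, ep1, em1, em1, em1, em1, em1, ep1, ep1, em3], [em1, em1, em1, ep1, em1, em1, em1, ep1, ep1, ep1, ep1, em1, ep1, em1, ep1, ep1, ep1, ep1, ep1, em1, em1, em1, em1, em3], [ep0, ep0, ep0, ep0, ep0, ep0, ep0, ep0, ep0, ep0, ep0, ep0, ep0, ep0, ep0, ep0, ep0, ep0, ep0, ep0, ep0, ep0, ep0, ep0], [ep2, ep2, ep0, em2, ep2, ep0, ep0, ep0, ep0, ep0, ep0, ep2, ep0,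 ep0, ep0, ep0, ep0, ep0, ep0, ep2, ep2, ep0, ep0, ep6], [em1, em1, ep1, ep3, em1, ep1, ep1, ep1, ep1, ep1, ep1, em1, ep1, ep1, ep1, ep1, ep1, ep1, ep1, em1, em1, ep1, ep1, em1], [ep2, ep0, ep0, ep2, ep2, ep0, ep0, ep0, ep0, ep0, ep2, ep0, ep0, ep0, ep0, ep2, ep2, ep2, ep0, ep0, ep0, ep0, ep0, ep2], [em1, ep1, ep1, ep1, ep1, ep1, ep1, em1, ep1, ep1, ep1, em1, ep1, em1, ep1, ep1, ep1, ep3, ep1, em1, em1, em1, ep1, ep1], [ep0, ep0, ep0, ep0, ep0, ep2, ep0, ep0, ep2, ep0, ep0, ep0, ep0, ep0, ep2, ep2, ep2, ep2, ep0, ep2, ep0, ep0, ep0, ep2], [ep0, ep0, ep0, ep2, ep0, ep2, ep0, ep0, ep0, ep2, ep2, ep0, ep0, ep0, ep2, ep2, ep0, ep2, ep0, ep0, ep2, ep0, ep0, ep0], [ep1, ep1, ep1, ep1, ep1, ep1, ep1, em3, ep1, ep1, ep1, ep1, ep1, ep1, ep1, ep1, ep1, ep1, ep1, ep1, ep1, ep1, ep1, ep1], [ep0, ep0, ep0, ep2, ep2, ep2, ep0, ep0, ep0, ep0, ep0, ep2,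 ep0, ep0, ep2, ep2, ep0, ep0, ep0, ep0, ep0, ep2, ep0, ep2], [ep0, ep0, ep0, ep0, ep2, ep2, ep0, ep2, ep0, ep0, ep2, ep0, ep2, ep0, ep2, ep0, ep0, ep2, ep0, ep0, ep0, ep0, ep0, ep2], [ep0, ep0, ep0, ep2, ep2, ep2, ep0, ep0, ep0, ep0, ep0, ep0, ep0, ep2, ep2, ep0, ep2, ep2, ep0, ep0, ep0, ep0, ep2, ep0], [ep0, ep0, ep2, ep0, ep0, ep2, ep0, ep0, ep0, ep0, ep0, ep0, ep2, ep0, ep2, ep2, ep0, ep2, ep0, ep0, ep0, ep2, ep2, ep0], [ep0, ep0, ep0, ep2, ep2, ep0, ep0, ep0, ep0, ep0, ep2, ep0, ep2, ep0, ep2, ep2, ep0, ep0, ep2, ep0, ep0, ep0, ep2, ep0], [ep0, ep0, ep0, ep0, ep2, ep2, ep2, ep0, ep0, ep0, ep0, ep0, ep2, ep0, ep0, ep2, ep2, ep0, ep0, ep0, ep0, ep0, ep2, ep2], [ep1, ep1, ep1, ep1, ep1, ep1, ep1, ep1, ep1, ep1, ep1, ep1, ep1, em3, ep1, ep1, ep1, ep1, ep1, ep1, ep1, ep1, ep1, ep1]],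
   [[ep2, em2, ep0, ep0, ep0, em2, em2, ep0, ep0, ep0, ep0, ep0, ep0, ep0, ep0, ep0, ep0, ep0, ep2, ep0, em2, ep0, em2, em2], [em2, ep2, ep0, ep0, ep0, em2, em2, ep0, ep0, ep0, ep0, ep0, ep0, ep0, ep0, ep0, ep0, ep0, ep2, ep0, em2, ep0, em2, em2], [em1, em1, ep1, em1, ep1, em1, em1, ep1, ep1, ep1, ep1, em1, em1, ep1, ep1, em1, em1, ep1, ep1, em1, em1, ep1, em1, em3], [em1, em1, em1, ep1, em1, em1, em1, ep1, ep1, em1, em1, ep1, em1, ep1, ep1, ep1, em1, ep1, ep1, ep1, em1, ep1, em1, em3], [em1, em1, em1, ep1, ep1, em1, em1, em1, em1, em1, ep1, ep1, ep1, ep1, ep1, em1, ep1, ep1, ep1, em1, em1, ep1, em1, em3], [em1, em1, ep1, ep1, em1, em1, em1, em1, ep1, ep1, ep1, ep1, ep1, em1, em1, em1, em1, ep1, ep1, ep1, em1, ep1, em1, em3], [em1, em1, ep1, ep1, ep1, em1, em1, ep1, em1, em1, ep1, em1, ep1, ep1, em1, ep1, em1, ep1, ep1, ep1, em1, em1,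 em1, em3], [em2, em2, ep0, ep0, ep0, em2, em2, ep0, ep0, ep0, ep0, ep0, ep0, ep0, ep0, ep0, ep0, ep0, ep2, ep0, em2, ep0, ep2, em2], [em1, em1, em1, em1, ep1, em1, em1, em1, ep1, ep1, ep1, ep1, em1, ep1, em1, ep1, ep1, ep1, ep1, ep1, em1, em1, em1, em3], [em1, em1, ep1, em1, ep1, em1, em1, ep1, ep1, em1, em1, ep1, ep1, em1, ep1, em1, ep1, ep1, ep1, ep1, em1, em1, em1, em3], [em1, em1, ep1, em1, em1, em1, em1, em1, em1, ep1, em1, em1, ep1, ep1, ep1, ep1, ep1, ep1, ep1, ep1, em1, ep1, em1, em3], [em1, em1, ep1, em1, em1, em1, em1, ep1, ep1, em1, ep1, ep1, ep1, ep1, em1, ep1, ep1, em1, ep1, em1, em1, ep1, em1, em3], [em2, em2, ep0, ep0, ep0, em2, ep2, ep0, ep0, ep0, ep0, ep0, ep0, ep0, ep0, ep0, ep0, ep0, ep2, ep0, em2, ep0, em2, em2], [ep0, ep0, ep0, ep0, ep0, ep0, ep0, ep0, ep0, ep0, ep0, ep0, ep0, ep0, ep0, ep0, ep0, ep0, ep4, ep0, ep0,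 ep0, ep0, em4], [em2, em2, ep0, ep0, ep0, em2, em2, ep0, ep0, ep0, ep0, ep0, ep0, ep0, ep0, ep0, ep0, ep0, ep2, ep0, ep2, ep0, em2, em2], [em1, em1, em1, ep1, ep1, em1, em1, ep1, ep1, ep1, em1, em1, ep1, ep1, em1, em1, ep1, em1, ep1, ep1, em1, ep1, em1, em3], [em1, em1, ep1, ep1, ep1, em1, em1, em1, ep1, em1, ep1, em1, em1, em1, ep1, ep1, ep1, em1, ep1, ep1, em1, ep1, em1, em3], [em1, em1, ep1, ep1, em1, em1, em1, ep1, em1, ep1, ep1, ep1, em1, ep1, ep1, em1, ep1, em1, ep1, ep1, em1, em1, em1, em3], [em1, em1, ep1, ep1, ep1, em1, em1, ep1, em1, ep1, em1, ep1, em1, em1, em1, ep1, ep1, ep1, ep1, em1, em1, ep1, em1, em3], [em1, em1, em1, ep1, em1, em1, em1, ep1, ep1, ep1, ep1, em1, ep1, em1, ep1, ep1, ep1, ep1, ep1, em1, em1, em1, em1, em3], [em2, em2, ep0, ep0, ep0, ep2, em2, ep0, ep0, ep0, ep0, ep0, ep0, ep0, ep0, ep0, ep0, ep0, ep2, ep0,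 em2, ep0, em2, em2], [em1, em1, ep1, ep1, ep1, em1, em1, em1, ep1, ep1, em1, ep1, ep1, ep1, ep1, ep1, em1, em1, ep1, em1, em1, em1, em1, em3], [em1, em1, em1, em1, ep1, em1, em1, ep1, em1, ep1, ep1, ep1, ep1, em1, ep1, ep1, em1, em1, ep1, ep1, em1, ep1, em1, em3], [ep0, ep0, ep0, ep0, ep0, ep0, ep0, ep0, ep0, ep0, ep0, ep0, ep0, ep0, ep0, ep0, ep0, ep0, ep0, ep0, ep0, ep0, ep0, ep0], [ep2, ep2, ep0, ep0, ep0, ep2, ep2, ep0, ep0, ep0, ep0, ep0, ep0, ep0, ep0, ep0, ep0, ep0, em2, ep0, ep2, ep0, ep2, ep6], [em1, em1, ep1, ep1, ep1, em1, em1, ep1, ep1, ep1, ep1, ep1, ep1, ep1, ep1, ep1, ep1, ep1, ep3, ep1, em1, ep1, em1, em1], [ep1, em1, ep1, ep1, ep1, em1, ep1, ep1, em1, ep1, ep1, ep1, em1, em1, ep1, ep1, ep1, em1, ep1, ep1, ep1, ep1, em1, ep3], [em1, ep1, em1, ep1, ep1, em1, ep1, ep1, ep1, ep1, ep1, em1, ep1, em1, ep1, ep1, ep1, em1, ep3,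 ep1, ep1, ep1, em1, ep1], [ep0, ep0, ep0, ep0, ep2, ep2, ep2, ep2, ep0, ep2, ep0, ep0, ep0, ep0, ep0, ep0, ep0, ep0, ep2, ep0, ep0, ep2, ep0, ep2], [ep0, ep0, ep0, ep2, ep0, ep0, ep2, ep2, ep0, ep2, ep0, ep2, ep0, ep0, ep2, ep2, ep0, ep0, ep2, ep0, ep0, ep0, ep0, ep0], [ep0, ep0, ep0, ep2, ep0, ep2, ep2, ep0, ep0, ep0, ep2, ep0, ep0, ep0, ep2, ep0, ep2, ep0, ep2, ep0, ep0, ep0, ep0, ep2], [ep0, ep0, ep2, ep2, ep0, ep2, ep0, ep0, ep0, ep2, ep0, ep2, ep0, ep0, ep0, ep0, ep0, ep0, ep2, ep0, ep2, ep0, ep0, ep2], [ep0, ep0, ep0, ep2, ep2, ep0, ep0, ep2, ep0, ep2, ep0, ep0, ep2, ep0, ep0, ep2, ep0, ep0, ep0, ep0, ep2, ep0, ep0, ep2], [em2, em2, ep0, ep2, ep0, ep0, ep0, ep2, ep0, ep2, ep0, ep0, ep0, ep0, ep0, ep0, ep2, ep0, ep2, ep0, ep0, ep0, ep0, ep2], [ep0, ep0, ep0, ep2, ep2, ep2, ep0, ep0, ep2, ep2, ep0, ep0, ep0, ep0, ep0, ep2, ep2, ep0,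 ep2, ep0, ep0, ep0, ep0, ep0], [em1, em1, ep1, ep1, ep1, ep1, em1, ep1, ep1, ep1, ep1, ep1, ep1, em1, ep3, ep1, ep1, em1, ep1, ep1, ep1, em1, em1, ep1], [em1, em1, ep1, ep1, ep1, ep1, ep1, em1, ep1, ep1, em1, em1, ep1, ep1, ep1, ep1, ep1, em1, ep1, ep1, ep1, ep1, em1, ep3], [ep1, ep1, ep1, ep1, ep1, ep1, ep1, ep1, ep1, ep1, ep1, ep1, ep1, ep1, ep1, ep1, ep1, em3, ep1, ep1, ep1, ep1, ep1, ep1]]]

/-- The images of the generators under the transposes. -/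
def imgsT : List (List (List ℤ)) :=
  [[[ep2, em2, ep0, ep0, em2, ep0, ep0, ep0, ep0, ep0, em2, ep0, ep0, ep0, em2, ep0, ep0, ep0, em2, ep0, ep0, ep2, ep0, em2], [em2, ep2, ep0, ep0, em2, ep0, ep0, ep0, ep0, ep0, em2, ep0, ep0, ep0, em2, ep0, ep0, ep0, em2, ep0, ep0, ep2, ep0, em2], [em1, em1, ep1, ep1, em1, em1, ep1, em1, ep1, ep1, em1, ep1, em1, em1, em1, em1, ep1, ep1, em1, em1, ep1, ep1, ep1, em3], [em1, em1, ep1, em1, em1, ep1, ep1, ep1, em1, ep1, em1, em1, em1, em1, em1, ep1, ep1, ep1, em1, ep1, em1, ep1, ep1, em3], [em1, em1, ep1, ep1, em1, ep1, em1, em1, ep1, ep1, em1, ep1, em1, ep1, em1, ep1, ep1, em1, em1, ep1, em1, ep1, em1, em3], [em1, em1, ep1, ep1, em1, ep1, em1, ep1, em1, em1, em1, ep1, ep1, em1, em1, ep1, ep1, em1, em1, em1, ep1, ep1, ep1, em3], [em1, em1, em1, em1, em1, ep1, ep1, ep1, ep1, ep1, em1, ep1, ep1, ep1, em1,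 em1, ep1, em1, em1, em1, em1, ep1, ep1, em3], [em2, em2, ep0, ep0, em2, ep0, ep0, ep0, ep0, ep0, em2, ep0, ep0, ep0, ep2, ep0, ep0, ep0, em2, ep0, ep0, ep2, ep0, em2], [em1, em1, em1, em1, em1, em1, em1, ep1, ep1, ep1, em1, ep1, ep1, em1, em1, ep1, ep1, ep1, em1, ep1, ep1, ep1, em1, em3], [em1, em1, ep1, em1, em1, ep1, em1, em1, em1, ep1, em1, ep1, ep1, ep1, em1, em1, em1, ep1, em1, ep1, ep1, ep1, ep1, em3], [em1, em1, em1, ep1, em1, ep1, ep1, em1, ep1, em1, em1, ep1, ep1, em1, em1, ep1, em1, ep1, em1, ep1, em1, ep1, ep1, em3], [em1, em1, em1, ep1, em1, ep1, em1, ep1, ep1, em1, em1, em1, em1, ep1, em1, em1, ep1, ep1, em1, ep1, ep1, ep1, ep1, em3], [ep0, ep0, ep0, ep0, ep0, ep0, ep0, ep0, ep0, ep0, ep0, ep0, ep0, ep0, ep0, ep0, ep0, ep0, ep0, ep0, ep0, ep4, ep0, em4], [em2, em2, ep0, ep0, em2, ep0, ep0, ep0, ep0, ep0, em2, ep0, ep0, ep0,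 em2, ep0, ep0, ep0, ep2, ep0, ep0, ep2, ep0, em2], [em2, em2, ep0, ep0, ep2, ep0, ep0, ep0, ep0, ep0, em2, ep0, ep0, ep0, em2, ep0, ep0, ep0, em2, ep0, ep0, ep2, ep0, em2], [em1, em1, ep1, ep1, em1, ep1, ep1, ep1, ep1, ep1, em1, em1, ep1, em1, em1, em1, em1, em1, em1, ep1, ep1, ep1, em1, em3], [em1, em1, em1, ep1, em1, em1, ep1, em1, em1, ep1, em1, em1, ep1, ep1, em1, ep1, ep1, em1, em1, ep1, ep1, ep1, ep1, em3], [em1, em1, em1, ep1, em1, ep1, ep1, ep1, em1, ep1, em1, ep1, em1, ep1, em1, ep1, em1, ep1, em1, em1, ep1, ep1, em1, em3], [em1, em1, ep1, em1, em1, ep1, ep1, em1, ep1, em1, em1, em1, ep1, ep1, em1, ep1, ep1, ep1, em1, em1, ep1, ep1, em1, em3], [em1, em1, ep1, ep1, em1, em1, em1, ep1, ep1, ep1, em1, em1, ep1, ep1, em1, ep1, em1, ep1, em1, em1, em1, ep1, ep1, em3], [em2, em2, ep0, ep0, em2, ep0, ep0, ep0, ep0, ep0, ep2, ep0, ep0,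 ep0, em2, ep0, ep0, ep0, em2, ep0, ep0, ep2, ep0, em2], [em1, em1, ep1, ep1, em1, em1, ep1, ep1, em1, em1, em1, ep1, ep1, ep1, em1, em1, ep1, ep1, em1, ep1, em1, ep1, em1, em3], [em1, em1, ep1, em1, em1, em1, ep1, ep1, ep1, em1, em1, ep1, em1, ep1, em1, ep1, em1, em1, em1, ep1, ep1, ep1, ep1, em3], [ep0, ep0, ep0, ep0, ep0, ep0, ep0, ep0, ep0, ep0, ep0, ep0, ep0, ep0, ep0, ep0, ep0, ep0, ep0, ep0, ep0, ep0, ep0, ep0], [ep2, ep2, ep0, ep0, ep2, ep0, ep0, ep0, ep0, ep0, ep2, ep0, ep0, ep0, ep2, ep0, ep0, ep0, ep2, ep0, ep0, em2, ep0, ep6], [em1, em1, ep1, ep1, em1, ep1, ep1, ep1, ep1, ep1, em1, ep1, ep1, ep1, em1, ep1, ep1, ep1, em1, ep1, ep1, ep3, ep1, em1], [ep2, ep0, ep0, ep0, ep2, ep0, ep2, ep0, ep0, ep0, ep0, ep0, ep0, ep2, ep0, ep2, ep0, ep0, ep0, ep0, ep2, ep2, ep0, ep2], [em1, ep1, ep1, ep1, ep1, em1, ep1, ep1, ep1, ep1, em1, em1,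 ep1, ep1, em1, ep1, em1, em1, ep1, ep1, ep1, ep3, ep1, ep1], [ep0, ep0, ep2, ep0, ep0, ep0, ep2, ep0, ep2, ep0, ep2, ep0, ep0, ep0, ep0, ep0, ep0, ep0, ep2, ep0, ep2, ep2, ep0, ep2], [ep0, ep0, ep2, ep0, ep0, ep0, ep2, ep2, ep0, ep0, ep0, ep0, ep0, ep2, ep0, ep2, ep0, ep2, ep2, ep0, ep0, ep2, ep0, ep0], [ep0, ep0, ep0, ep2, ep0, ep0, ep0, ep0, ep0, ep2, ep2, ep0, ep0, ep2, ep0, ep2, ep0, ep0, ep2, ep0, ep0, ep2, ep0, ep2], [em1, em1, ep1, ep1, ep1, ep1, ep1, ep1, em1, em1, ep1, ep1, ep1, ep1, em1, ep1, ep1, ep1, ep1, em1, ep1, ep1, em1, ep3], [ep0, ep0, ep2, ep0, ep2, ep0, ep2, ep2, ep2, ep0, ep0, ep0, ep2, ep2, ep0, ep0, ep0, ep0, ep0, ep0, ep0, ep0, ep0, ep2], [em1, em1, ep1, ep1, ep1, ep1, ep1, ep1, ep1, ep1, ep1, em1, ep1, ep1, ep1, ep1, em1, ep1, em1, em1, ep1, ep3, em1, ep1], [em1, em1, ep1, ep1, em1, em1, ep1, ep1, ep1, ep1, ep1,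 em1, ep3, ep1, em1, ep1, ep1, ep1, ep1, ep1, ep1, ep1, em1, ep1], [em1, em1, ep1, ep1, ep1, em1, ep1, ep1, em1, ep1, ep1, ep1, ep1, ep3, em1, ep1, em1, ep1, em1, ep1, ep1, ep1, ep1, ep1], [ep0, ep0, ep0, ep2, ep2, ep0, ep2, ep0, ep0, ep0, ep2, ep0, ep2, ep0, ep0, ep0, ep0, ep0, ep0, ep2, ep0, ep2, ep0, ep2], [ep0, ep0, ep0, ep2, ep0, ep0, ep2, ep2, ep0, ep0, ep0, ep0, ep0, ep2, ep0, ep0, ep0, ep0, ep2, ep2, ep2, ep0, ep0, ep2]],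
   [[ep2, em2, ep2, ep0, ep0, ep0, ep0, ep0, em2, ep0, ep0, em2, em2, ep0, ep0, ep0, ep0, ep0, em2, ep0, ep0, ep0, ep0, em2], [em2, ep2, ep2, ep0, ep0, ep0, ep0, ep0, em2, ep0, ep0, em2, em2, ep0, ep0, ep0, ep0, ep0, em2, ep0, ep0, ep0, ep0, em2], [em1, em1, ep1, ep1, em1, ep1, em1, ep1, em1, em1, ep1, em1, em1, ep1, ep1, ep1, ep1, ep1, em1, em1, em1, ep1, em1, em3], [em1, em1, ep1, ep1, em1, ep1, em1, ep1, em1, ep1, ep1, em1, em1, ep1, em1, ep1, em1, em1, em1, ep1, ep1, em1, ep1, em3], [em1, em1, ep1, ep1, ep1, ep1, em1, ep1, em1, ep1, em1, em1, em1, em1, ep1, em1, em1, ep1, em1, em1, ep1, ep1, ep1, em3], [em1, em1, ep1, ep1, ep1, em1, em1, em1, em1, ep1, ep1, em1, em1, ep1, em1, em1, ep1, ep1, em1, ep1, em1, ep1, ep1, em3], [em2, em2, ep2, ep0, ep0, ep0, ep0, ep0, em2, ep0, ep0, ep2, em2, ep0, ep0, ep0, ep0, ep0, em2, ep0, ep0, ep0,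 ep0, em2], [em1, em1, ep1, em1, ep1, em1, em1, ep1, em1, ep1, ep1, em1, em1, em1, ep1, ep1, ep1, ep1, em1, ep1, ep1, em1, em1, em3], [em1, em1, ep1, ep1, em1, em1, ep1, ep1, em1, em1, ep1, em1, em1, em1, ep1, em1, ep1, em1, em1, ep1, ep1, ep1, ep1, em3], [em1, em1, ep1, ep1, ep1, ep1, ep1, em1, em1, ep1, ep1, em1, em1, em1, em1, ep1, ep1, em1, em1, em1, ep1, ep1, em1, em3], [em1, em1, ep1, em1, ep1, ep1, ep1, ep1, em1, ep1, ep1, em1, em1, ep1, ep1, em1, ep1, em1, em1, em1, em1, em1, ep1, em3], [em2, em2, ep2, ep0, ep0, ep0, ep0, ep0, em2, ep0, ep0, em2, em2, ep0, ep0, ep0, ep0, ep0, ep2, ep0, ep0, ep0, ep0, em2], [em1, em1, ep1, ep1, ep1, em1, ep1, ep1, em1, em1, em1, em1, em1, ep1, em1, ep1, ep1, ep1, em1, em1, ep1, em1, ep1, em3], [em1, em1, ep1, ep1, em1, ep1, ep1, em1, em1, ep1, em1, em1, em1, ep1, ep1, em1, ep1, ep1, em1, ep1, ep1,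 em1, em1, em3], [em2, em2, ep2, ep0, ep0, ep0, ep0, ep0, ep2, ep0, ep0, em2, em2, ep0, ep0, ep0, ep0, ep0, em2, ep0, ep0, ep0, ep0, em2], [em2, em2, ep2, ep0, ep0, ep0, ep0, ep0, em2, ep0, ep0, em2, ep2, ep0, ep0, ep0, ep0, ep0, em2, ep0, ep0, ep0, ep0, em2], [ep0, ep0, ep4, ep0, ep0, ep0, ep0, ep0, ep0, ep0, ep0, ep0, ep0, ep0, ep0, ep0, ep0, ep0, ep0, ep0, ep0, ep0, ep0, em4], [em1, em1, ep1, em1, em1, ep1, ep1, ep1, em1, ep1, em1, em1, em1, em1, em1, ep1, ep1, ep1, em1, ep1, em1, ep1, ep1, em3], [em1, em1, ep1, em1, em1, em1, ep1, em1, em1, ep1, ep1, em1, em1, ep1, ep1, ep1, em1, ep1, em1, em1, ep1, ep1, ep1, em3], [em1, em1, ep1, em1, ep1, ep1, em1, em1, em1, em1, em1, em1, em1, ep1, ep1, ep1, ep1, em1, em1, ep1, ep1, ep1, ep1, em3], [em1, em1, ep1, ep1, ep1, em1, ep1, ep1, em1, ep1, em1, em1, em1, ep1, ep1, ep1, em1, em1, em1, ep1,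 em1, ep1, em1, em3], [em1, em1, ep1, em1, ep1, ep1, ep1, ep1, em1, em1, ep1, em1, em1, ep1, em1, em1, em1, ep1, em1, ep1, ep1, ep1, em1, em3], [em1, em1, ep1, ep1, ep1, ep1, ep1, em1, em1, em1, ep1, em1, em1, em1, ep1, ep1, em1, ep1, em1, ep1, em1, em1, ep1, em3], [ep0, ep0, ep0, ep0, ep0, ep0, ep0, ep0, ep0, ep0, ep0, ep0, ep0, ep0, ep0, ep0, ep0, ep0, ep0, ep0, ep0, ep0, ep0, ep0], [ep2, ep2, em2, ep0, ep0, ep0, ep0, ep0, ep2, ep0, ep0, ep2, ep2, ep0, ep0, ep0, ep0, ep0, ep2, ep0, ep0, ep0, ep0, ep6], [em1, em1, ep3, ep1, ep1, ep1, ep1, ep1, em1, ep1, ep1, em1, em1, ep1, ep1, ep1, ep1, ep1, em1, ep1, ep1, ep1, ep1, em1], [ep2, ep0, ep2, ep0, ep0, ep0, ep2, ep0, ep2, ep0, ep0, ep0, ep0, ep0, ep0, ep2, ep0, ep2, ep0, ep0, ep0, ep0, ep2, ep2], [em1, ep1, ep3, ep1, ep1, ep1, ep1, em1, ep1, em1, em1, em1, ep1, ep1, ep1, ep1, ep1, ep1, em1,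 ep1, ep1, em1, ep1, ep1], [ep0, ep0, ep0, ep2, ep0, ep0, ep2, ep0, ep0, ep0, ep0, ep0, ep2, ep2, ep2, ep2, ep0, ep2, ep0, ep0, ep0, ep0, ep0, ep2], [ep0, ep0, ep0, ep0, ep0, ep2, ep2, ep0, ep0, ep0, ep0, ep0, ep0, ep2, ep0, ep2, ep0, ep2, ep0, ep2, ep2, ep0, ep2, ep0], [ep1, ep1, ep1, ep1, ep1, ep1, ep1, ep1, ep1, ep1, em3, ep1, ep1, ep1, ep1, ep1, ep1, ep1, ep1, ep1, ep1, ep1, ep1, ep1], [ep0, ep0, ep0, ep0, ep0, ep0, ep2, ep0, ep2, ep2, ep0, ep0, ep0, ep2, ep0, ep0, ep0, ep2, ep0, ep2, ep0, ep2, ep0, ep2], [em1, em1, ep1, em1, ep1, ep1, ep1, em1, ep1, em1, ep1, ep1, ep1, ep1, ep1, ep1, em1, ep1, em1, ep1, ep1, ep1, ep1, ep3], [em1, em1, ep1, em1, ep1, em1, ep1, ep1, ep1, ep1, em1, em1, ep1, ep1, ep1, ep3, ep1, ep1, em1, ep1, ep1, ep1, ep1, ep1], [ep0, ep0, ep2, ep0, ep0, ep0, ep2, ep0, ep0, ep0, ep0, ep0, ep2, ep2, ep2, ep0, ep0, ep0,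 ep0, ep2, ep2, ep2, ep0, ep0], [ep0, ep0, ep2, ep0, ep2, ep2, ep2, ep0, ep2, ep0, ep0, ep0, ep0, ep0, ep0, ep2, ep0, ep0, ep0, ep2, ep0, ep2, ep0, ep0], [ep0, ep0, ep2, ep0, ep2, ep0, ep2, ep2, ep2, ep0, ep0, ep0, ep2, ep2, ep0, ep0, ep0, ep0, ep0, ep0, ep0, ep0, ep0, ep2], [ep0, ep0, ep2, ep0, ep0, ep2, ep2, ep0, ep0, ep0, ep0, ep0, ep2, ep0, ep0, ep0, ep0, ep2, ep2, ep2, ep0, ep0, ep0, ep2]],
   [[ep2, em2, em2, em2, ep0, em2, ep0, ep0, ep0, ep0, ep0, ep0, ep0, ep0, em2, ep0, ep0, ep2, ep0, ep0, ep0, ep0, ep0, em2], [em2, ep2, em2, em2, ep0, em2, ep0, ep0, ep0, ep0, ep0, ep0, ep0, ep0, em2, ep0, ep0, ep2, ep0, ep0, ep0, ep0, ep0, em2], [em1, em1, em1, em1, ep1, em1, em1, em1, ep1, ep1, ep1, ep1, em1, ep1, em1, ep1, ep1, ep1, ep1, ep1, em1, em1, em1, em3], [ep0, ep0, ep0, ep0, ep0, ep0, ep0, ep0, ep0, ep0, ep0, ep0, ep0, ep0, ep0, ep0,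 ep0, ep4, ep0, ep0, ep0, ep0, ep0, em4], [em2, em2, em2, em2, ep0, em2, ep0, ep0, ep0, ep0, ep0, ep0, ep0, ep0, ep2, ep0, ep0, ep2, ep0, ep0, ep0, ep0, ep0, em2], [em1, em1, em1, em1, em1, em1, ep1, em1, em1, em1, ep1, ep1, ep1, ep1, em1, ep1, em1, ep1, ep1, ep1, ep1, ep1, em1, em3], [em1, em1, em1, em1, ep1, em1, ep1, ep1, em1, ep1, ep1, em1, ep1, ep1, em1, ep1, ep1, ep1, em1, em1, em1, ep1, em1, em3], [em1, em1, em1, em1, em1, em1, ep1, ep1, ep1, ep1, ep1, ep1, em1, em1, em1, ep1, em1, ep1, ep1, em1, em1, ep1, ep1, em3], [em1, em1, em1, em1, ep1, em1, ep1, em1, ep1, ep1, em1, ep1, ep1, ep1, em1, ep1, em1, ep1, em1, em1, ep1, em1, ep1, em3], [em1, em1, em1, em1, ep1, em1, em1, ep1, ep1, em1, ep1, ep1, ep1, ep1, em1, em1, em1, ep1, em1, ep1, em1, ep1, ep1, em3], [em1, em1, em1, em1, ep1, em1, ep1, em1, em1, ep1, em1, ep1, ep1, em1, em1,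 em1, ep1, ep1, ep1, ep1, em1, ep1, ep1, em3], [em2, em2, em2, em2, ep0, ep2, ep0, ep0, ep0, ep0, ep0, ep0, ep0, ep0, em2, ep0, ep0, ep2, ep0, ep0, ep0, ep0, ep0, em2], [em1, em1, em1, em1, ep1, em1, ep1, em1, ep1, em1, ep1, em1, em1, em1, em1, ep1, ep1, ep1, em1, ep1, ep1, ep1, ep1, em3], [em1, em1, em1, em1, ep1, em1, ep1, ep1, ep1, ep1, ep1, em1, ep1, em1, em1, em1, em1, ep1, ep1, ep1, ep1, em1, em1, em3], [em1, em1, em1, em1, ep1, em1, em1, ep1, em1, ep1, em1, em1, em1, ep1, em1, ep1, em1, ep1, ep1, ep1, ep1, ep1, ep1, em3], [em1, em1, em1, em1, em1, em1, em1, em1, ep1, ep1, ep1, em1, ep1, ep1, em1, em1, ep1, ep1, ep1, em1, ep1, ep1, ep1, em3], [em1, em1, em1, em1, ep1, em1, em1, ep1, em1, em1, ep1, ep1, ep1, em1, em1, ep1, ep1, ep1, ep1, em1, ep1, em1, ep1, em3], [em1, em1, em1, em1, em1, em1, ep1, ep1, ep1, em1, em1, em1, ep1, ep1,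 em1, ep1, ep1, ep1, ep1, ep1, em1, em1, ep1, em3], [em1, em1, em1, em1, em1, em1, ep1, ep1, em1, ep1, ep1, ep1, em1, ep1, em1, em1, ep1, ep1, em1, ep1, ep1, em1, ep1, em3], [em2, em2, ep2, em2, ep0, em2, ep0, ep0, ep0, ep0, ep0, ep0, ep0, ep0, em2, ep0, ep0, ep2, ep0, ep0, ep0, ep0, ep0, em2], [em2, em2, em2, ep2, ep0, em2, ep0, ep0, ep0, ep0, ep0, ep0, ep0, ep0, em2, ep0, ep0, ep2, ep0, ep0, ep0, ep0, ep0, em2], [em1, em1, em1, em1, ep1, em1, ep1, ep1, ep1, em1, em1, ep1, em1, ep1, em1, em1, ep1, ep1, ep1, em1, ep1, ep1, em1, em3], [em1, em1, em1, em1, em1, em1, em1, ep1, ep1, ep1, em1, ep1, ep1, em1, em1, ep1, ep1, ep1, em1, ep1, ep1, ep1, em1, em3], [ep0, ep0, ep0, ep0, ep0, ep0, ep0, ep0, ep0, ep0, ep0, ep0, ep0, ep0, ep0, ep0, ep0, ep0, ep0, ep0, ep0, ep0, ep0, ep0], [ep2, ep2, ep2, ep2, ep0, ep2, ep0, ep0, ep0, ep0, ep0, ep0, ep0,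 ep0, ep2, ep0, ep0, em2, ep0, ep0, ep0, ep0, ep0, ep6], [em1, em1, em1, em1, ep1, em1, ep1, ep1, ep1, ep1, ep1, ep1, ep1, ep1, em1, ep1, ep1, ep3, ep1, ep1, ep1, ep1, ep1, em1], [ep2, ep0, ep0, ep0, ep0, ep0, ep0, ep2, ep0, ep0, ep0, ep0, ep0, ep0, ep0, ep2, ep2, ep0, ep0, ep2, ep2, ep0, ep2, ep2], [em1, ep1, ep1, em1, ep1, em1, em1, ep1, ep1, ep1, ep1, em1, ep1, em1, em1, ep1, ep1, ep1, ep1, ep1, ep3, ep1, ep1, ep1], [ep0, ep0, ep0, ep2, ep0, ep0, ep0, ep0, ep2, ep2, ep2, ep0, ep0, ep0, ep0, ep0, ep2, ep0, ep0, ep2, ep2, ep0, ep0, ep2], [ep0, ep0, ep2, ep0, ep0, ep0, ep2, ep2, ep2, ep0, ep0, ep0, ep0, ep0, ep0, ep0, ep2, ep2, ep0, ep2, ep2, ep0, ep0, ep0], [em1, em1, ep1, ep1, ep1, em1, ep1, ep1, ep1, em1, ep1, em1, ep1, em1, ep1, ep1, ep1, ep1, ep1, ep1, ep1, em1, ep1, ep3], [ep0, ep0, ep0, ep2, ep0, ep0, ep2, ep2, ep0, ep0, ep0, ep0,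 ep0, ep2, ep0, ep0, ep0, ep0, ep2, ep2, ep2, ep0, ep0, ep2], [ep0, ep0, ep2, ep0, ep0, ep0, ep0, ep2, ep0, ep2, ep0, ep0, ep0, ep2, ep0, ep0, ep2, ep0, ep0, ep0, ep2, ep2, ep0, ep2], [em1, em1, ep1, ep1, em1, em1, ep1, ep1, ep1, ep1, ep1, em1, em1, ep1, em1, ep1, ep1, ep1, ep1, ep1, ep1, ep1, ep3, ep1], [em1, em1, ep1, ep1, ep1, em1, ep1, ep1, ep1, ep1, ep1, ep1, ep1, ep1, em1, em1, ep1, ep1, ep1, em1, ep3, em1, ep1, ep1], [em1, em1, ep1, ep1, ep1, em1, em1, ep3, ep1, em1, em1, ep1, ep1, ep1, em1, ep1, ep1, ep1, ep1, ep1, ep1, ep1, ep1, ep1], [ep0, ep0, ep0, ep2, ep2, ep0, ep0, ep0, ep0, ep0, ep0, ep0, ep0, ep0, ep0, ep0, ep2, ep0, ep2, ep0, ep2, ep2, ep2, ep2], [ep0, ep0, ep0, ep0, ep0, ep2, ep0, ep2, ep2, ep0, ep0, ep0, ep2, ep0, ep0, ep0, ep2, ep0, ep2, ep0, ep2, ep0, ep0, ep2]],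
   [[ep2, em2, ep0, ep0, ep0, ep0, ep0, em2, ep0, ep0, ep0, ep0, em2, ep2, em2, ep0, ep0, ep0, ep0, ep0, em2, ep0, ep0, em2], [em2, ep2, ep0, ep0, ep0, ep0, ep0, em2, ep0, ep0, ep0, ep0, em2, ep2, em2, ep0, ep0, ep0, ep0, ep0, em2, ep0, ep0, em2], [em1, em1, ep1, em1, em1, ep1, ep1, em1, em1, ep1, ep1, ep1, em1, ep1, em1, em1, ep1, ep1, ep1, em1, em1, ep1, em1, em3], [em1, em1, em1, ep1, ep1, ep1, ep1, em1, em1, em1, em1, em1, em1, ep1, em1, ep1, ep1, ep1, ep1, ep1, em1, ep1, em1, em3], [em1, em1, ep1, em1, ep1, em1, ep1, em1, ep1, ep1, em1, em1, em1, ep1, em1, ep1, ep1, em1, ep1, em1, em1, ep1, ep1, em3], [em2, em2, ep0, ep0, ep0, ep0, ep0, em2, ep0, ep0, ep0, ep0, em2, ep2, em2, ep0, ep0, ep0, ep0, ep0, ep2, ep0, ep0, em2], [em2, em2, ep0, ep0, ep0, ep0, ep0, em2, ep0, ep0, ep0, ep0, ep2, ep2, em2, ep0, ep0, ep0, ep0, ep0, em2, ep0,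 ep0, em2], [em1, em1, ep1, ep1, em1, em1, ep1, em1, em1, ep1, em1, ep1, em1, ep1, em1, ep1, em1, ep1, ep1, ep1, em1, em1, ep1, em3], [em1, em1, ep1, ep1, em1, ep1, em1, em1, ep1, ep1, em1, ep1, em1, ep1, em1, ep1, ep1, em1, em1, ep1, em1, ep1, em1, em3], [em1, em1, ep1, em1, em1, ep1, em1, em1, ep1, em1, ep1, em1, em1, ep1, em1, ep1, em1, ep1, ep1, ep1, em1, ep1, ep1, em3], [em1, em1, ep1, em1, ep1, ep1, ep1, em1, ep1, em1, em1, ep1, em1, ep1, em1, em1, ep1, ep1, em1, ep1, em1, em1, ep1, em3], [em1, em1, em1, ep1, ep1, ep1, em1, em1, ep1, ep1, em1, ep1, em1, ep1, em1, em1, em1, ep1, ep1, em1, em1, ep1, ep1, em3], [em1, em1, em1, em1, ep1, ep1, ep1, em1, em1, ep1, ep1, ep1, em1, ep1, em1, ep1, em1, em1, em1, ep1, em1, ep1, ep1, em3], [em1, em1, ep1, ep1, ep1, em1, ep1, em1, ep1, em1, ep1, ep1, em1, ep1, em1, ep1, em1, ep1, em1, em1, em1,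 ep1, em1, em3], [em1, em1, ep1, ep1, ep1, em1, em1, em1, em1, ep1, ep1, em1, em1, ep1, em1, em1, ep1, ep1, em1, ep1, em1, ep1, ep1, em3], [em1, em1, em1, ep1, em1, em1, ep1, em1, ep1, em1, ep1, ep1, em1, ep1, em1, em1, ep1, em1, ep1, ep1, em1, ep1, ep1, em3], [em1, em1, em1, em1, ep1, em1, em1, em1, ep1, ep1, ep1, ep1, em1, ep1, em1, ep1, ep1, ep1, ep1, ep1, em1, em1, em1, em3], [em1, em1, ep1, ep1, ep1, ep1, ep1, em1, ep1, ep1, ep1, em1, em1, ep1, em1, em1, em1, em1, ep1, ep1, em1, em1, em1, em3], [ep0, ep0, ep0, ep0, ep0, ep0, ep0, ep0, ep0, ep0, ep0, ep0, ep0, ep4, ep0, ep0, ep0, ep0, ep0, ep0, ep0, ep0, ep0, em4], [em1, em1, em1, ep1, em1, ep1, ep1, em1, ep1, ep1, ep1, em1, em1, ep1, em1, ep1, ep1, ep1, em1, em1, em1, em1, ep1, em3], [em2, em2, ep0, ep0, ep0, ep0, ep0, em2, ep0, ep0, ep0, ep0, em2, ep2, ep2, ep0, ep0, ep0, ep0, ep0,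 em2, ep0, ep0, em2], [em1, em1, ep1, ep1, ep1, ep1, em1, em1, em1, em1, ep1, ep1, em1, ep1, em1, ep1, ep1, em1, ep1, em1, em1, em1, ep1, em3], [em2, em2, ep0, ep0, ep0, ep0, ep0, ep2, ep0, ep0, ep0, ep0, em2, ep2, em2, ep0, ep0, ep0, ep0, ep0, em2, ep0, ep0, em2], [ep0, ep0, ep0, ep0, ep0, ep0, ep0, ep0, ep0, ep0, ep0, ep0, ep0, ep0, ep0, ep0, ep0, ep0, ep0, ep0, ep0, ep0, ep0, ep0], [ep2, ep2, ep0, ep0, ep0, ep0, ep0, ep2, ep0, ep0, ep0, ep0, ep2, em2, ep2, ep0, ep0, ep0, ep0, ep0, ep2, ep0, ep0, ep6], [em1, em1, ep1, ep1, ep1, ep1, ep1, em1, ep1, ep1, ep1, ep1, em1, ep3, em1, ep1, ep1, ep1, ep1, ep1, em1, ep1, ep1, em1], [ep2, ep0, ep0, ep0, ep2, ep0, ep0, ep2, ep0, ep2, ep2, ep0, ep0, ep2, ep0, ep0, ep0, ep0, ep0, ep2, ep0, ep0, ep0, ep2], [em1, ep1, em1, ep1, ep1, em1, ep1, ep1, ep1, ep1, ep3, ep1, em1, ep1, em1, ep1, ep1, ep1, em1,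 ep1, em1, ep1, ep1, ep1], [ep0, ep0, ep0, ep0, ep0, ep0, ep2, ep2, ep0, ep0, ep2, ep2, ep0, ep2, ep2, ep0, ep0, ep0, ep0, ep0, ep0, ep2, ep0, ep2], [ep0, ep0, ep0, ep2, ep2, ep2, ep2, ep2, ep0, ep0, ep2, ep0, ep0, ep2, ep0, ep2, ep0, ep0, ep0, ep0, ep0, ep0, ep0, ep0], [ep0, ep0, ep0, ep0, ep2, ep0, ep2, ep0, ep2, ep2, ep2, ep0, ep0, ep0, ep2, ep2, ep0, ep0, ep0, ep0, ep0, ep0, ep0, ep2], [ep0, ep0, ep2, ep2, ep2, ep0, ep0, ep0, ep0, ep0, ep2, ep0, ep0, ep2, ep2, ep0, ep0, ep0, ep0, ep0, ep2, ep0, ep0, ep2], [ep0, ep0, ep0, ep2, ep0, ep0, ep0, ep2, ep0, ep0, ep2, ep0, ep2, ep2, ep0, ep0, ep2, ep0, ep0, ep0, ep0, ep0, ep2, ep2], [ep0, ep0, ep0, ep2, ep0, ep0, ep2, ep0, ep0, ep2, ep2, ep0, ep0, ep2, ep2, ep0, ep0, ep0, ep0, ep2, ep0, ep0, ep2, ep0], [ep0, ep0, ep0, ep2, ep0, ep0, ep0, ep0, ep2, ep0, ep2, ep2, ep0, ep2, ep2, ep2, ep2, ep0,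 ep0, ep0, ep0, ep0, ep0, ep0], [em1, em1, ep1, ep1, ep1, ep1, em1, ep1, ep1, ep1, ep3, em1, em1, ep1, ep1, ep1, ep1, ep1, ep1, ep1, em1, em1, ep1, ep1], [ep0, ep0, ep0, ep0, ep2, ep0, ep0, ep0, ep0, ep0, ep2, ep2, ep0, ep0, ep2, ep0, ep2, ep0, ep0, ep2, ep0, ep0, ep2, ep2], [ep0, ep0, ep0, ep2, ep2, ep0, ep0, ep2, ep2, ep0, ep2, ep2, ep0, ep0, ep0, ep0, ep0, ep0, ep2, ep0, ep0, ep0, ep0, ep2]]]

/-- The unitary matrices. -/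
def us : List (List (List ℕ)) :=
  [[[2, 7, 7, 7], [3, 5, 0, 3], [1, 4, 1, 0], [1, 2, 6, 6]],
   [[3, 3, 2, 2], [8, 6, 8, 8], [0, 0, 4, 8], [6, 8, 8, 8]],
   [[4, 5, 0, 0], [7, 8, 0, 0], [0, 0, 8, 5], [0, 0, 5, 8]],
   [[4, 5, 0, 0], [7, 8, 0, 0], [0, 0, 8, 4], [0, 0, 8, 8]]]

/-- The lattice points. -/
def lefts : List (List (List ℤ)) :=
  [[[ep2, ep0, ep2, ep0, ep2, ep2, ep2, ep0, ep0, ep0, ep2, ep2, ep0, ep0, ep0, ep0, ep0, ep0, ep0, ep0, ep0, ep0, ep0, ep2], [ep2, ep0, ep0, ep2, ep0, ep0, ep0, ep0, ep0, ep2, ep2, ep2, ep2, ep0, ep2, ep0, ep0, ep0, ep0, ep0, ep0, ep0, ep0, ep2], [ep2, ep0, ep2, ep2, ep0, ep0, ep0, ep2, ep0, ep0, ep0, ep2, ep0, ep2, ep0, ep2, ep0, ep0, ep0, ep0, ep0, ep0, ep0, ep2], [ep2, ep0, ep2, ep0, ep0, ep0, ep0, ep2, ep2, ep0, ep2, ep0, ep0, ep0, ep2, ep0, ep2, ep0, ep0, ep0, ep0, ep0, ep0, ep2], [ep2, ep0, ep0,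 ep0, ep0, ep0, ep0, ep0, ep2, ep2, ep0, ep0, ep2, ep2, ep0, ep2, ep2, ep0, ep0, ep0, ep0, ep0, ep0, ep2], [ep2, ep0, ep0, ep0, ep2, ep0, ep0, ep0, ep2, ep0, ep0, ep2, ep0, ep2, ep2, ep0, ep0, ep2, ep0, ep0, ep0, ep0, ep0, ep2], [ep2, ep0, ep0, ep0, ep0, ep2, ep2, ep2, ep0, ep0, ep0, ep0, ep0, ep2, ep0, ep0, ep2, ep2, ep0, ep0, ep0, ep0, ep0, ep2], [ep2, ep0, ep0, ep2, ep2, ep0, ep0, ep0, ep0, ep0, ep2, ep0, ep0, ep0, ep0, ep2, ep2, ep2, ep0, ep0, ep0, ep0, ep0, ep2], [ep2, ep0, ep0, ep2, ep2, ep2, ep0, ep0, ep0, ep0, ep0, ep0, ep2, ep2, ep0, ep0, ep0, ep0, ep2, ep0, ep0, ep0, ep0, ep2], [ep2, ep0, ep2, ep0, ep0, ep0, ep2, ep0, ep0, ep2, ep0, ep0, ep0, ep2, ep2, ep0, ep0, ep0, ep2, ep0, ep0, ep0, ep0, ep2], [ep2, ep0, ep0, ep0, ep0, ep0, ep2, ep2, ep0, ep0, ep2, ep0, ep2, ep0, ep0, ep2, ep0, ep0, ep2, ep0, ep0, ep0, ep0, ep2], [ep2, ep0,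 ep0, ep0, ep0, ep2, ep0, ep0, ep2, ep2, ep2, ep0, ep0, ep0, ep0, ep0, ep0, ep2, ep2, ep0, ep0, ep0, ep0, ep2], [ep2, ep0, ep0, ep0, ep2, ep0, ep0, ep2, ep0, ep2, ep2, ep0, ep0, ep2, ep0, ep0, ep0, ep0, ep0, ep2, ep0, ep0, ep0, ep2], [ep2, ep0, ep0, ep2, ep0, ep2, ep2, ep0, ep0, ep2, ep0, ep0, ep0, ep0, ep0, ep2, ep0, ep0, ep0, ep2, ep0, ep0, ep0, ep2], [ep2, ep0, ep2, ep0, ep2, ep0, ep0, ep0, ep0, ep0, ep0, ep0, ep2, ep0, ep2, ep2, ep0, ep0, ep0, ep2, ep0, ep0, ep0, ep2], [ep2, ep0, ep0, ep2, ep0, ep0, ep0, ep2, ep2, ep0, ep0, ep0, ep2, ep0, ep0, ep0, ep0, ep2, ep0, ep2, ep0, ep0, ep0, ep2], [ep2, ep0, ep2, ep0, ep0, ep0, ep0, ep0, ep0, ep2, ep0, ep2, ep0, ep0, ep0, ep0, ep2, ep2, ep0, ep2, ep0, ep0, ep0, ep2], [ep2, ep0, ep0, ep0, ep0, ep2, ep0, ep2, ep0, ep0, ep0, ep2, ep0, ep0, ep2, ep0, ep0, ep0, ep2, ep2, ep0, ep0, ep0, ep2], [ep2,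 ep0, ep0, ep0, ep2, ep0, ep2, ep0, ep2, ep0, ep0, ep0, ep0, ep0, ep0, ep0, ep2, ep0, ep2, ep2, ep0, ep0, ep0, ep2], [ep2, ep0, ep0, ep0, ep0, ep0, ep2, ep2, ep2, ep2, ep0, ep2, ep0, ep0, ep0, ep0, ep0, ep0, ep0, ep0, ep2, ep0, ep0, ep2], [ep2, ep0, ep2, ep2, ep0, ep0, ep2, ep0, ep0, ep0, ep0, ep0, ep2, ep0, ep0, ep0, ep2, ep0, ep0, ep0, ep2, ep0, ep0, ep2], [ep2, ep0, ep0, ep0, ep2, ep2, ep0, ep0, ep0, ep2, ep0, ep0, ep0, ep0, ep2, ep0, ep2, ep0, ep0, ep0, ep2, ep0, ep0, ep2], [ep2, ep0, ep0, ep0, ep0, ep2, ep0, ep0, ep0, ep0, ep0, ep2, ep2, ep0, ep0, ep2, ep0, ep2, ep0, ep0, ep2, ep0, ep0, ep2], [ep2, ep0, ep0, ep2, ep0, ep0, ep0, ep0, ep2, ep0, ep0, ep0, ep0, ep0, ep2, ep2, ep0, ep0, ep2, ep0, ep2, ep0, ep0, ep2], [ep2, ep0, ep0, ep0, ep0, ep0, ep0, ep0, ep0, ep0, ep2, ep2, ep0, ep2, ep0, ep0, ep2, ep0, ep2, ep0, ep2, ep0, ep0, ep2],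 [ep2, ep0, ep2, ep0, ep2, ep0, ep0, ep2, ep0, ep0, ep0, ep0, ep0, ep0, ep0, ep0, ep0, ep2, ep2, ep0, ep2, ep0, ep0, ep2], [ep2, ep0, ep2, ep0, ep0, ep2, ep0, ep0, ep2, ep0, ep0, ep0, ep0, ep2, ep0, ep0, ep0, ep0, ep0, ep2, ep2, ep0, ep0, ep2], [ep2, ep0, ep0, ep0, ep0, ep0, ep2, ep0, ep0, ep0, ep2, ep0, ep0, ep0, ep2, ep0, ep0, ep2, ep0, ep2, ep2, ep0, ep0, ep2], [ep2, ep0, ep2, ep2, ep2, ep0, ep0, ep0, ep2, ep2, ep0, ep0, ep0, ep0, ep0, ep0, ep0, ep0, ep0, ep0, ep0, ep2, ep0, ep2], [ep2, ep0, ep0, ep0, ep0, ep2, ep2, ep0, ep2, ep0, ep0, ep0, ep2, ep0, ep2, ep0, ep0, ep0, ep0, ep0, ep0, ep2, ep0, ep2], [ep2, ep0, ep0, ep0, ep2, ep0, ep0, ep2, ep0, ep0, ep0, ep2, ep2, ep0, ep0, ep0, ep2, ep0, ep0, ep0, ep0, ep2, ep0, ep2], [ep2, ep0, ep2, ep0, ep0, ep0, ep0, ep0, ep0, ep0, ep2, ep0, ep2, ep2, ep0, ep0, ep0, ep2, ep0, ep0, ep0, ep2, ep0,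 ep2]],
    [[ep2, ep0, ep0, ep0, ep0, ep0, ep0, ep2, ep0, ep2, ep0, ep0, ep0, ep0, ep2, ep2, ep0, ep2, ep0, ep0, ep0, ep2, ep0, ep2], [ep2, ep0, ep2, ep0, ep0, ep2, ep0, ep0, ep0, ep0, ep0, ep0, ep0, ep0, ep0, ep2, ep2, ep0, ep2, ep0, ep0, ep2, ep0, ep2], [ep2, ep0, ep0, ep2, ep0, ep0, ep2, ep0, ep0, ep0, ep0, ep2, ep0, ep0, ep0, ep0, ep0, ep2, ep2, ep0, ep0, ep2, ep0, ep2], [ep2, ep0, ep0, ep0, ep0, ep0, ep0, ep0, ep2, ep0, ep2, ep2, ep0, ep0, ep0, ep2, ep0, ep0, ep0, ep2, ep0, ep2, ep0, ep2], [ep2, ep0, ep0, ep2, ep0, ep0, ep0, ep0, ep0, ep0, ep0, ep0, ep0, ep2, ep2, ep0, ep2, ep0, ep0, ep2, ep0, ep2, ep0, ep2], [ep2, ep0, ep0, ep2, ep0, ep2, ep0, ep2, ep0, ep0, ep2, ep0, ep0, ep0, ep0, ep0, ep0, ep0, ep0, ep0, ep2, ep2, ep0, ep2], [ep2, ep0, ep0, ep0, ep2, ep0, ep2, ep0, ep0, ep0, ep0, ep0, ep0, ep2, ep0, ep2, ep0, ep0, ep0, ep0, ep2,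 ep2, ep0, ep2], [ep2, ep0, ep0, ep0, ep0, ep0, ep0, ep0, ep0, ep2, ep0, ep0, ep2, ep0, ep0, ep0, ep0, ep0, ep2, ep2, ep2, ep2, ep0, ep2], [ep2, ep0, ep2, ep0, ep0, ep2, ep0, ep2, ep0, ep2, ep0, ep0, ep2, ep0, ep0, ep0, ep0, ep0, ep0, ep0, ep0, ep0, ep2, ep2], [ep2, ep0, ep0, ep2, ep2, ep0, ep2, ep2, ep0, ep0, ep0, ep0, ep0, ep0, ep2, ep0, ep0, ep0, ep0, ep0, ep0, ep0, ep2, ep2], [ep2, ep0, ep0, ep0, ep0, ep2, ep0, ep0, ep0, ep0, ep2, ep0, ep0, ep2, ep2, ep2, ep0, ep0, ep0, ep0, ep0, ep0, ep2, ep2], [ep2, ep0, ep0, ep2, ep0, ep2, ep0, ep0, ep2, ep0, ep0, ep2, ep0, ep0, ep0, ep0, ep2, ep0, ep0, ep0, ep0, ep0, ep2, ep2], [ep2, ep0, ep2, ep0, ep0, ep0, ep2, ep0, ep2, ep0, ep0, ep0, ep0, ep0, ep0, ep2, ep0, ep2, ep0, ep0, ep0, ep0, ep2, ep2], [ep2, ep0, ep0, ep0, ep2, ep0, ep0, ep0, ep0, ep2, ep0, ep2, ep0, ep0, ep0, ep2, ep0, ep0, ep2, ep0,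 ep0, ep0, ep2, ep2], [ep2, ep0, ep0, ep0, ep0, ep0, ep0, ep0, ep0, ep0, ep0, ep0, ep2, ep0, ep2, ep0, ep2, ep2, ep2, ep0, ep0, ep0, ep2, ep2], [ep2, ep0, ep0, ep0, ep0, ep0, ep2, ep0, ep0, ep0, ep0, ep2, ep2, ep2, ep0, ep0, ep0, ep0, ep0, ep2, ep0, ep0, ep2, ep2], [ep2, ep0, ep2, ep2, ep0, ep0, ep0, ep0, ep0, ep0, ep2, ep0, ep0, ep0, ep0, ep0, ep0, ep0, ep2, ep2, ep0, ep0, ep2, ep2], [ep2, ep0, ep0, ep0, ep2, ep0, ep0, ep0, ep2, ep0, ep2, ep0, ep2, ep0, ep0, ep0, ep0, ep0, ep0, ep0, ep2, ep0, ep2, ep2], [ep2, ep0, ep0, ep2, ep0, ep0, ep0, ep0, ep0, ep2, ep0, ep0, ep0, ep2, ep0, ep0, ep0, ep2, ep0, ep0, ep2, ep0, ep2, ep2], [ep2, ep0, ep0, ep0, ep0, ep0, ep0, ep2, ep0, ep0, ep0, ep0, ep0, ep0, ep0, ep2, ep2, ep0, ep0, ep2, ep2, ep0, ep2, ep2], [ep2, ep0, ep0, ep0, ep0, ep0, ep2, ep0, ep0, ep2, ep2, ep0, ep0, ep0, ep0, ep0, ep2, ep0, ep0,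 ep0, ep0, ep2, ep2, ep2], [ep2, ep0, ep0, ep0, ep0, ep0, ep0, ep2, ep2, ep0, ep0, ep0, ep0, ep2, ep0, ep0, ep0, ep0, ep2, ep0, ep0, ep2, ep2, ep2], [ep2, ep0, ep0, ep0, ep2, ep2, ep0, ep0, ep0, ep0, ep0, ep0, ep0, ep0, ep0, ep0, ep0, ep2, ep0, ep2, ep0, ep2, ep2, ep2], [ep2, ep0, ep2, ep0, ep0, ep0, ep0, ep0, ep0, ep0, ep0, ep2, ep0, ep0, ep2, ep0, ep0, ep0, ep0, ep0, ep2, ep2, ep2, ep2], [ep1, em1, ep1, ep1, ep1, ep1, ep1, ep1, ep1, ep1, em1, ep1, ep1, em1, ep1, ep1, ep1, ep1, ep1, em1, em1, em1, em1, ep3], [ep1, em1, em1, ep1, ep1, ep1, ep1, ep1, ep1, em1, ep1, ep1, ep1, ep1, ep1, ep1, ep1, em1, em1, ep1, ep1, em1, em1, ep3], [ep1, em1, ep1, ep1, ep1, em1, ep1, em1, ep1, ep1, ep1, ep1, ep1, ep1, em1, ep1, em1, ep1, ep1, ep1, ep1, em1, em1, ep3], [ep1, em1, ep1, ep1, em1, ep1, em1, ep1, em1, ep1, ep1, em1, ep1, ep1, ep1, ep1, ep1, ep1,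 ep1, ep1, ep1, em1, em1, ep3], [ep1, em1, ep1, ep1, em1, ep1, ep1, ep1, ep1, ep1, ep1, ep1, ep1, ep1, em1, em1, ep1, em1, ep1, ep1, em1, ep1, em1, ep3], [ep1, em1, ep1, ep1, ep1, ep1, ep1, ep1, ep1, em1, ep1, em1, em1, ep1, ep1, ep1, em1, ep1, ep1, ep1, em1, ep1, em1, ep3], [ep1, em1, em1, em1, ep1, ep1, ep1, em1, em1, ep1, ep1, ep1, ep1, ep1, ep1, ep1, ep1, ep1, ep1, ep1, em1, ep1, em1, ep3], [ep1, em1, ep1, ep1, em1, ep1, ep1, em1, ep1, ep1, ep1, ep1, em1, ep1, ep1, ep1, ep1, ep1, em1, em1, ep1, ep1, em1, ep3]],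
    [[ep1, em1, ep1, em1, ep1, ep1, em1, ep1, ep1, ep1, ep1, ep1, ep1, ep1, ep1, ep1, em1, em1, ep1, em1, ep1, ep1, em1, ep3], [ep1, em1, em1, ep1, ep1, em1, ep1, ep1, ep1, ep1, ep1, em1, ep1, ep1, ep1, em1, ep1, ep1, ep1, em1, ep1, ep1, em1, ep3], [ep1, em1, ep1, ep1, ep1, ep1, ep1, ep1, em1, ep1, em1, ep1, ep1, ep1, ep1, em1, em1, ep1, em1, ep1, ep1, ep1, em1, ep3], [ep1, em1, ep1, em1, ep1, ep1, ep1, ep1, ep1, ep1, ep1, em1, ep1, em1, em1, ep1, ep1, ep1, em1, ep1, ep1, ep1, em1, ep3], [ep1, em1, ep1, ep1, ep1, em1, ep1, ep1, em1, ep1, ep1, ep1, em1, em1, ep1, ep1, ep1, em1, ep1, ep1, ep1, ep1, em1, ep3], [ep1, em1, ep1, ep1, ep1, ep1, em1, em1, ep1, em1, ep1, ep1, ep1, em1, ep1, em1, ep1, ep1, ep1, ep1, ep1, ep1, em1, ep3], [ep1, em1, em1, ep1, ep1, ep1, em1, ep1, ep1, ep1, em1, ep1, em1, ep1, em1, ep1, ep1, ep1, ep1, ep1, ep1, ep1,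 em1, ep3], [ep1, em1, ep1, em1, em1, em1, ep1, ep1, ep1, em1, em1, ep1, ep1, ep1, ep1, ep1, ep1, ep1, ep1, ep1, ep1, ep1, em1, ep3], [ep1, em1, ep1, ep1, ep1, ep1, ep1, em1, ep1, ep1, ep1, em1, ep1, ep1, ep1, em1, ep1, ep1, em1, ep1, em1, em1, ep1, ep3], [ep1, em1, ep1, em1, ep1, ep1, em1, ep1, ep1, em1, ep1, ep1, ep1, ep1, em1, ep1, ep1, ep1, ep1, ep1, em1, em1, ep1, ep3], [ep1, em1, em1, ep1, em1, em1, ep1, ep1, ep1, ep1, ep1, ep1, em1, ep1, ep1, ep1, ep1, ep1, ep1, ep1, em1, em1, ep1, ep3], [ep1, em1, ep1, em1, ep1, em1, ep1, ep1, em1, ep1, ep1, ep1, ep1, ep1, ep1, ep1, ep1, ep1, em1, em1, ep1, em1, ep1, ep3], [ep1, em1, ep1, ep1, ep1, ep1, ep1, ep1, ep1, ep1, ep1, em1, em1, ep1, em1, ep1, ep1, em1, ep1, em1, ep1, em1, ep1, ep3], [ep1, em1, ep1, ep1, em1, ep1, ep1, ep1, ep1, em1, ep1, ep1, ep1, ep1, ep1, em1, em1, ep1, ep1, em1, ep1,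 em1, ep1, ep3], [ep1, em1, ep1, ep1, ep1, ep1, em1, ep1, ep1, ep1, ep1, ep1, em1, em1, ep1, ep1, em1, ep1, em1, ep1, ep1, em1, ep1, ep3], [ep1, em1, ep1, ep1, ep1, em1, em1, ep1, ep1, ep1, em1, ep1, ep1, ep1, ep1, em1, ep1, em1, ep1, ep1, ep1, em1, ep1, ep3], [ep1, em1, ep1, em1, em1, ep1, ep1, em1, ep1, ep1, ep1, ep1, ep1, em1, ep1, ep1, ep1, em1, ep1, ep1, ep1, em1, ep1, ep3], [ep1, em1, em1, em1, ep1, ep1, ep1, ep1, ep1, ep1, em1, em1, ep1, ep1, ep1, ep1, em1, ep1, ep1, ep1, ep1, em1, ep1, ep3], [ep1, em1, em1, ep1, ep1, ep1, ep1, ep1, em1, ep1, ep1, ep1, ep1, em1, em1, em1, ep1, ep1, ep1, ep1, ep1, em1, ep1, ep3], [ep1, em1, ep1, ep1, ep1, ep1, ep1, em1, em1, em1, em1, ep1, em1, ep1, ep1, ep1, ep1, ep1, ep1, ep1, ep1, em1, ep1, ep3], [ep1, em1, em1, ep1, ep1, ep1, ep1, ep1, ep1, ep1, ep1, ep1, ep1, ep1, em1, ep1, em1, ep1, em1, em1,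 em1, ep1, ep1, ep3], [ep1, em1, ep1, ep1, ep1, em1, ep1, em1, ep1, em1, ep1, ep1, ep1, ep1, ep1, ep1, ep1, em1, ep1, em1, em1, ep1, ep1, ep3], [ep1, em1, ep1, ep1, ep1, ep1, em1, ep1, em1, ep1, ep1, ep1, em1, ep1, ep1, em1, ep1, ep1, ep1, em1, em1, ep1, ep1, ep3], [ep1, em1, ep1, em1, ep1, ep1, ep1, ep1, ep1, ep1, em1, ep1, em1, ep1, ep1, ep1, ep1, em1, em1, ep1, em1, ep1, ep1, ep3], [ep1, em1, ep1, ep1, em1, ep1, ep1, ep1, em1, em1, ep1, ep1, ep1, em1, ep1, ep1, ep1, ep1, em1, ep1, em1, ep1, ep1, ep3], [ep1, em1, em1, ep1, ep1, ep1, em1, ep1, ep1, ep1, ep1, em1, ep1, em1, ep1, ep1, ep1, em1, ep1, ep1, em1, ep1, ep1, ep3], [ep1, em1, ep1, em1, ep1, em1, ep1, ep1, ep1, ep1, ep1, ep1, ep1, em1, ep1, em1, em1, ep1, ep1, ep1, em1, ep1, ep1, ep3], [ep1, em1, ep1, ep1, em1, ep1, em1, em1, ep1, ep1, em1, ep1, ep1, ep1, ep1, ep1, em1, ep1, ep1,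 ep1, em1, ep1, ep1, ep3], [ep1, em1, ep1, ep1, ep1, em1, ep1, ep1, em1, ep1, em1, em1, ep1, ep1, em1, ep1, ep1, ep1, ep1, ep1, em1, ep1, ep1, ep3], [ep1, em1, ep1, ep1, ep1, ep1, em1, ep1, ep1, em1, em1, em1, ep1, ep1, ep1, ep1, ep1, ep1, em1, em1, ep1, ep1, ep1, ep3], [ep1, em1, em1, ep1, em1, ep1, ep1, ep1, em1, ep1, em1, ep1, ep1, ep1, ep1, ep1, ep1, em1, ep1, em1, ep1, ep1, ep1, ep3], [ep1, em1, ep1, ep1, ep1, ep1, ep1, em1, em1, ep1, ep1, em1, ep1, em1, ep1, ep1, em1, ep1, ep1, em1, ep1, ep1, ep1, ep3]],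
    [[ep1, em1, ep1, em1, ep1, ep1, ep1, em1, ep1, ep1, em1, ep1, ep1, ep1, em1, em1, ep1, ep1, ep1, em1, ep1, ep1, ep1, ep3], [ep1, em1, ep1, ep1, em1, em1, em1, ep1, ep1, ep1, ep1, ep1, ep1, em1, em1, ep1, ep1, ep1, ep1, em1, ep1, ep1, ep1, ep3], [ep1, em1, em1, em1, ep1, ep1, ep1, ep1, ep1, em1, ep1, ep1, em1, em1, ep1, ep1, ep1, ep1, ep1, em1, ep1, ep1, ep1, ep3], [ep1, em1, ep1, ep1, em1, em1, ep1, ep1, ep1, ep1, ep1, em1, ep1, ep1, ep1, ep1, em1, em1, em1, ep1, ep1, ep1, ep1, ep3], [ep1, em1, ep1, ep1, ep1, ep1, em1, em1, em1, ep1, ep1, ep1, ep1, ep1, em1, ep1, ep1, em1, em1, ep1, ep1, ep1, ep1, ep3], [ep1, em1, ep1, ep1, ep1, em1, ep1, ep1, ep1, em1, ep1, ep1, em1, ep1, em1, em1, ep1, ep1, em1, ep1, ep1, ep1, ep1, ep3], [ep1, em1, em1, em1, em1, ep1, em1, ep1, ep1, ep1, ep1, ep1, ep1, ep1, ep1, em1, ep1, ep1, em1, ep1, ep1, ep1,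 ep1, ep3], [ep1, em1, em1, ep1, ep1, em1, ep1, em1, ep1, ep1, em1, ep1, ep1, em1, ep1, ep1, ep1, ep1, em1, ep1, ep1, ep1, ep1, ep3], [ep1, em1, em1, ep1, ep1, ep1, ep1, em1, ep1, ep1, ep1, ep1, em1, ep1, ep1, em1, em1, em1, ep1, ep1, ep1, ep1, ep1, ep3], [ep1, em1, ep1, ep1, ep1, ep1, ep1, ep1, ep1, em1, em1, ep1, ep1, em1, em1, ep1, em1, em1, ep1, ep1, ep1, ep1, ep1, ep3], [ep1, em1, ep1, em1, ep1, ep1, ep1, ep1, em1, em1, ep1, em1, ep1, ep1, ep1, em1, ep1, em1, ep1, ep1, ep1, ep1, ep1, ep3], [ep1, em1, ep1, em1, em1, ep1, ep1, ep1, em1, ep1, ep1, ep1, em1, ep1, em1, ep1, em1, ep1, ep1, ep1, ep1, ep1, ep1, ep3], [ep1, em1, em1, ep1, ep1, em1, em1, ep1, em1, em1, ep1, ep1, ep1, ep1, ep1, ep1, em1, ep1, ep1, ep1, ep1, ep1, ep1, ep3], [ep1, em1, ep1, ep1, em1, ep1, ep1, ep1, ep1, ep1, em1, em1, em1, em1, ep1, em1, ep1, ep1, ep1, ep1, ep1,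 ep1, ep1, ep3], [ep1, em1, em1, ep1, em1, ep1, ep1, em1, ep1, em1, ep1, em1, ep1, ep1, em1, ep1, ep1, ep1, ep1, ep1, ep1, ep1, ep1, ep3], [ep1, em1, ep1, em1, ep1, em1, em1, em1, ep1, ep1, ep1, em1, em1, ep1, ep1, ep1, ep1, ep1, ep1, ep1, ep1, ep1, ep1, ep3], [ep4, ep0, ep0, ep0, ep0, ep0, ep0, ep0, ep0, ep0, ep0, ep0, ep0, ep0, ep0, ep0, ep0, ep0, ep0, ep0, ep0, ep0, ep0, ep4], [ep0, ep4, ep0, ep0, ep0, ep0, ep0, ep0, ep0, ep0, ep0, ep0, ep0, ep0, ep0, ep0, ep0, ep0, ep0, ep0, ep0, ep0, ep0, ep4], [ep1, ep1, ep1, ep1, ep1, ep1, ep1, ep1, ep1, ep1, ep1, ep1, ep1, ep1, ep1, ep1, ep1, ep1, ep1, ep1, ep1, ep1, ep1, ep5]]]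

/-- The isotropic points. -/
def rights : List (List (List ℕ)) :=
  [[[1, 4, 0, 0], [1, 5, 0, 0], [1, 7, 0, 0], [1, 8, 0, 0], [1, 1, 1, 0], [1, 2, 1, 0], [1, 3, 1, 0], [1, 6, 1, 0], [1, 1, 2, 0], [1, 2, 2, 0], [1, 3, 2, 0], [1, 6, 2, 0], [1, 1, 3, 0], [1, 2, 3, 0], [1, 3, 3, 0], [1, 6, 3, 0], [1, 0, 4, 0], [0, 1, 4, 0], [1, 0, 5, 0], [0, 1, 5, 0], [1, 1, 6, 0], [1, 2, 6, 0], [1, 3, 6, 0], [1, 6, 6, 0], [1, 0, 7, 0], [0, 1, 7, 0], [1, 0, 8, 0], [0, 1, 8, 0], [1, 1, 0, 1], [1, 2, 0, 1], [1, 3, 0, 1], [1, 6, 0, 1]],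
    [[1, 0, 1, 1], [0, 1, 1, 1], [1, 0, 2, 1], [0, 1, 2, 1], [1, 0, 3, 1], [0, 1, 3, 1], [1, 4, 4, 1], [1, 5, 4, 1], [1, 7, 4, 1], [1, 8, 4, 1], [1, 4, 5, 1], [1, 5, 5, 1], [1, 7, 5, 1], [1, 8, 5, 1], [1, 0, 6, 1], [0, 1, 6, 1], [1, 4, 7, 1], [1, 5, 7, 1], [1, 7, 7, 1], [1, 8, 7, 1], [1, 4, 8, 1], [1, 5, 8, 1], [1, 7, 8, 1], [1, 8, 8, 1], [1, 1, 0, 2], [1, 2, 0, 2], [1, 3, 0, 2], [1, 6, 0, 2], [1, 0, 1, 2], [0, 1, 1, 2], [1, 0, 2, 2], [0, 1, 2, 2]],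
    [[1, 0, 3, 2], [0, 1, 3, 2], [1, 4, 4, 2], [1, 5, 4, 2], [1, 7, 4, 2], [1, 8, 4, 2], [1, 4, 5, 2], [1, 5, 5, 2], [1, 7, 5, 2], [1, 8, 5, 2], [1, 0, 6, 2], [0, 1, 6, 2], [1, 4, 7, 2], [1, 5, 7, 2], [1, 7, 7, 2], [1, 8, 7, 2], [1, 4, 8, 2], [1, 5, 8, 2], [1, 7, 8, 2], [1, 8, 8, 2], [1, 1, 0, 3], [1, 2, 0, 3], [1, 3, 0, 3], [1, 6, 0, 3], [1, 0, 1, 3], [0, 1, 1, 3], [1, 0, 2, 3], [0, 1, 2, 3], [1, 0, 3, 3], [0, 1, 3, 3], [1, 4, 4, 3], [1, 5, 4, 3]],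
    [[1, 7, 4, 3], [1, 8, 4, 3], [1, 4, 5, 3], [1, 5, 5, 3], [1, 7, 5, 3], [1, 8, 5, 3], [1, 0, 6, 3], [0, 1, 6, 3], [1, 4, 7, 3], [1, 5, 7, 3], [1, 7, 7, 3], [1, 8, 7, 3], [1, 4, 8, 3], [1, 5, 8, 3], [1, 7, 8, 3], [1, 8, 8, 3], [1, 0, 0, 4], [0, 1, 0, 4], [0, 0, 1, 4], [1, 4, 1, 4], [1, 5, 1, 4], [1, 7, 1, 4], [1, 8, 1, 4], [1, 4, 2, 4], [1, 5, 2, 4], [1, 7, 2, 4], [1, 8, 2, 4], [1, 4, 3, 4], [1, 5, 3, 4], [1, 7, 3, 4], [1, 8, 3, 4], [1, 1, 4, 4]],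
    [[1, 2, 4, 4], [1, 3, 4, 4], [1, 6, 4, 4], [1, 1, 5, 4], [1, 2, 5, 4], [1, 3, 5, 4], [1, 6, 5, 4], [1, 4, 6, 4], [1, 5, 6, 4], [1, 7, 6, 4], [1, 8, 6, 4], [1, 1, 7, 4], [1, 2, 7, 4], [1, 3, 7, 4], [1, 6, 7, 4], [1, 1, 8, 4], [1, 2, 8, 4], [1, 3, 8, 4], [1, 6, 8, 4], [1, 0, 0, 5], [0, 1, 0, 5], [0, 0, 1, 5], [1, 4, 1, 5], [1, 5, 1, 5], [1, 7, 1, 5], [1, 8, 1, 5], [1, 4, 2, 5], [1, 5, 2, 5], [1, 7, 2, 5], [1, 8, 2, 5], [1, 4, 3, 5], [1, 5, 3, 5]],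
    [[1, 7, 3, 5], [1, 8, 3, 5], [1, 1, 4, 5], [1, 2, 4, 5], [1, 3, 4, 5], [1, 6, 4, 5], [1, 1, 5, 5], [1, 2, 5, 5], [1, 3, 5, 5], [1, 6, 5, 5], [1, 4, 6, 5], [1, 5, 6, 5], [1, 7, 6, 5], [1, 8, 6, 5], [1, 1, 7, 5], [1, 2, 7, 5], [1, 3, 7, 5], [1, 6, 7, 5], [1, 1, 8, 5], [1, 2, 8, 5], [1, 3, 8, 5], [1, 6, 8, 5], [1, 1, 0, 6], [1, 2, 0, 6], [1, 3, 0, 6], [1, 6, 0, 6], [1, 0, 1, 6], [0, 1, 1, 6], [1, 0, 2, 6], [0, 1, 2, 6], [1, 0, 3, 6], [0, 1, 3, 6]],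
    [[1, 4, 4, 6], [1, 5, 4, 6], [1, 7, 4, 6], [1, 8, 4, 6], [1, 4, 5, 6], [1, 5, 5, 6], [1, 7, 5, 6], [1, 8, 5, 6], [1, 0, 6, 6], [0, 1, 6, 6], [1, 4, 7, 6], [1, 5, 7, 6], [1, 7, 7, 6], [1, 8, 7, 6], [1, 4, 8, 6], [1, 5, 8, 6], [1, 7, 8, 6], [1, 8, 8, 6], [1, 0, 0, 7], [0, 1, 0, 7], [0, 0, 1, 7], [1, 4, 1, 7], [1, 5, 1, 7], [1, 7, 1, 7], [1, 8, 1, 7], [1, 4, 2, 7], [1, 5, 2, 7], [1, 7, 2, 7], [1, 8, 2, 7], [1, 4, 3, 7], [1, 5, 3, 7], [1, 7, 3, 7]],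
    [[1, 8, 3, 7], [1, 1, 4, 7], [1, 2, 4, 7], [1, 3, 4, 7], [1, 6, 4, 7], [1, 1, 5, 7], [1, 2, 5, 7], [1, 3, 5, 7], [1, 6, 5, 7], [1, 4, 6, 7], [1, 5, 6, 7], [1, 7, 6, 7], [1, 8, 6, 7], [1, 1, 7, 7], [1, 2, 7, 7], [1, 3, 7, 7], [1, 6, 7, 7], [1, 1, 8, 7], [1, 2, 8, 7], [1, 3, 8, 7], [1, 6, 8, 7], [1, 0, 0, 8], [0, 1, 0, 8], [0, 0, 1, 8], [1, 4, 1, 8], [1, 5, 1, 8], [1, 7, 1, 8], [1, 8, 1, 8], [1, 4, 2, 8], [1, 5, 2, 8], [1, 7, 2, 8], [1, 8, 2, 8]],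
    [[1, 4, 3, 8], [1, 5, 3, 8], [1, 7, 3, 8], [1, 8, 3, 8], [1, 1, 4, 8], [1, 2, 4, 8], [1, 3, 4, 8], [1, 6, 4, 8], [1, 1, 5, 8], [1, 2, 5, 8], [1, 3, 5, 8], [1, 6, 5, 8], [1, 4, 6, 8], [1, 5, 6, 8], [1, 7, 6, 8], [1, 8, 6, 8], [1, 1, 7, 8], [1, 2, 7, 8], [1, 3, 7, 8], [1, 6, 7, 8], [1, 1, 8, 8], [1, 2, 8, 8], [1, 3, 8, 8], [1, 6, 8, 8]]]

/-- The tables. -/
def tab : List ℕ :=
  [0x4e952b66dd7a847b48a5e2482b9bca0ae67eb2311593c33642b944cb6377269af61729b1c8d62ccb24d5149362b69a5453ec56beb26fdeec48383d42ed3173a39eafe5c436714aadc7d929984d5eaa908b1f3087a8f5625c7e70b7220b739bf108e97cba18cb5b4d6ace9e6cad2dafb76401ecddc1520e8d18e31116795fa697c8f6b3430d60853892a8891596117489d19671ab64f99f75a9a06d561be4aa048c7c3b542d4995bed0879a2f28918c1b571520673054f0f3b602289db732a3ac23bbd10ceb7d411775c8bb5d2539875fdbd434061e58a8b855a808d4fcae197e702ea4936b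33028e7f88d49c9718cac1878197b61c6ea57cc2a96b9faae4f3ba653e4acb5252e9d789339558a594216ee9bbd4055b3c51bb9def1782b92d4da8a718e98c4de666a6bed266e7555252bb85a0bfde6f781a8a0ca09e9c8e27027860046619178544b0184c6e151993434091d81822240618c722514908d41b2b0fc944c2b938d65336994d0441a814805d0b8808e510c904d826231bcc43d140045e1415840a0641a0f0903000148b00d020b82c1e1887c100f13874140e308b4b6602482c702116154a81c119640e671d1b8b83e22888b412348d8865f,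
   0x41e8aae64d09396042cbebaf96de1d12d6a959e72beb942e328c8ed5998ef4eaf0f4f2a63e977599a2aab08b56b90ec8f524e9f96fb1d0d6182884a2470a982c5e33d5c229fd503c611e74777615bd2da8c05aa9ea03c2d769a347e2a8e86cf17aed99c9988c5b2e25c4cdc026d2d7740b72bd5b9aacaed1392a12127555da258d9b627d4488c43fdca9aa23a2ff8670bd172eaa7dc6af3f5a5ba19188dc3a64b374d059f7052a6120c8952b2b4d075a9ef4dd7c30e634d7ab7dcca143c3e428688cb95efd9bc596c80bc3ded5626d39d32ca95d4eea933bcf9415446d999cfb51b1904f6ae2deaaa89b3b2e78a6bc016b5fc0ca5251a5d482491789308fd02a41f2f903845e5a97e69c117f3ba4c15a2953dc898074835ecfad2a5306c37d6c32ee8a94a52eda973fce14d6441c5239278f60cf2e0a731d22e3399c8e2700896c0a691108cce68288f43a0d0b968703e168e81c16299889c2c0d800a05f17950d84a1c8a4aa0105134b02a23908ae13100988044049ac6e3f01178c64b090d88a0b07820b22b37124a42e240c062072309c381a3698020191090cde151a8903c3c27970180420998ca062e8cc64252b18430641407cd43b018509834,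
   0x24da0f2b0b8e0f29564fd39747d22d087b40365612181bb240ba51d29e2dc9bb8584e7b7b96cd0141a190e7c67aca32f3784416ca757ccaef22835a51f2a60cda255c8fdba84d14db629b0984402315e74b8266d35e3aed7627ac2eed3e6aaa5bd4986c1248813f2b6592f51592f945722ad90956d40ab29f71576233b4a583108d461fcf181a5aa16ac5a042a995276b4a836abed9e6296ac5e10a8e3ba22db53522e6d14663a41633cc3c69aec67ddce6aa0b839a1f829c36e8f17bf2de750ea4539fad69ede6b743535b1d513b94d1bf1bc524594893d32d69157fa95a9518ece55580773255d71afa797efc86311327941626c75a82ace617b8b5d69e9a61ba228c04e9f514dd5c3befebba247aa12b4948ef4f48e28598feb2e16af567caf65d839349f0cf89425d9cf6aab357d257bcb53154c21d4ec74399c8e27007058d815088f8cc40188b44e502887866231c988ce1b2703096522d1108613228600a493793c8c4709064203a1b0dcc86a179a04c5734800846b29868c0652c804400a1705c083b0581c060f308e0824a15074bc5f14094b029068d0a8630416c48212e8acaa6e1a87cac30191209a09010187a3f0a088382c2e1b4983c,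
   0x38e0f29563357d257bb5d8cfbb9a8598feb2a35187f3c579d2e099d0d4d6c753c220b653d1eb50565ad22aff835a51f2a52b52a31d45a10f6805ecbb072687e0a70db74451809d62d02154c8441248dd5c3befe9f7157622ad96539fad69ec7edd42689e5056680be251314b562f097673daaa85471dd114a78b726f45722ad912f51592f8bba247aa09b6c5361371afa797ee5bcd6d0686439f16730bdc5a27729a37e5a98aa612d14663a427e9cba3eb034b542d5a6bc75daed523bd549dad2a0c2eed3e6a9f514c19b44ab93955601dc9165616af17bf365612181cd54170733b240ba51d59f2a96f5261b75a7a69877db3b255c893d2be6577913f218c44cade750ea4402316da9a9172e16139edf27c3204fd2b49255b502acd89eaf48e4ed2960c4626c71bc533d651979ac679878d24da0f2b09d4ec74399c8e2700a8349c5e1417ca8161c940541d28990ae00211a4d0290992cce63188dc4c2f12960a44331198d636350cc681b260ac7e5d24134a6600d050642c36818dc65200045a0e2c8447c20051103c0c1189cd85a1c020b61702008384f0495474051d82cac21230f08a3d2481cc203251041e2e081703222120c03012378d48e1f]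

/-- Level 0. -/
def lev0 : StabCert.Lev :=
  ⟨115, [0, 1, 2, 3],
   [[], [0], [0, 0], [1, 0], [3, 0], [0, 0, 0], [1, 0, 0], [2, 0, 0], [3, 0, 0], [0, 1, 0], [1, 1, 0], [2, 1, 0], [3, 1, 0], [0, 3, 0], [1, 3, 0], [2, 3, 0], [3, 3, 0], [0, 0, 0, 0], [1, 0, 0, 0], [2, 0, 0, 0], [3, 0, 0, 0], [0, 1, 0, 0], [1, 1, 0, 0], [2, 1, 0, 0], [3, 1, 0, 0], [0, 2, 0, 0], [1, 2, 0, 0], [2, 2, 0, 0], [0, 3, 0, 0], [1, 3, 0, 0], [2, 3, 0, 0], [3, 3, 0, 0], [0, 0, 1, 0], [2, 0, 1, 0], [3, 0, 1, 0], [0, 1, 1, 0], [2, 1, 1, 0], [3, 1, 1, 0], [0, 2, 1, 0], [2, 2, 1, 0], [3, 2, 1, 0], [1, 3, 1, 0], [2, 3, 1, 0], [3, 3, 1, 0], [1, 0, 3, 0], [2, 0, 3, 0], [3, 0, 3, 0], [0, 1, 3, 0], [1, 1, 3, 0], [2, 1, 3, 0], [3, 1, 3, 0], [0, 3, 3, 0], [2, 3, 3, 0], [3, 3, 3, 0], [0, 0, 0, 0, 0], [1, 0, 0, 0, 0], [2, 0, 0, 0, 0], [3, 0, 0, 0, 0], [0, 1, 0, 0, 0], [1, 1, 0,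 0, 0], [2, 1, 0, 0, 0], [3, 1, 0, 0, 0], [0, 2, 0, 0, 0], [1, 2, 0, 0, 0], [2, 2, 0, 0, 0], [3, 2, 0, 0, 0], [0, 3, 0, 0, 0], [1, 3, 0, 0, 0], [3, 3, 0, 0, 0], [0, 0, 1, 0, 0], [2, 0, 1, 0, 0], [3, 0, 1, 0, 0], [0, 1, 1, 0, 0], [1, 1, 1, 0, 0], [2, 1, 1, 0, 0], [1, 2, 1, 0, 0], [3, 2, 1, 0, 0], [0, 3, 1, 0, 0], [2, 3, 1, 0, 0], [3, 3, 1, 0, 0], [0, 0, 2, 0, 0], [1, 0, 2, 0, 0], [2, 0, 2, 0, 0], [0, 1, 2, 0, 0], [1, 1, 2, 0, 0], [3, 1, 2, 0, 0], [2, 2, 2, 0, 0], [3, 2, 2, 0, 0], [0, 0, 3, 0, 0], [1, 0, 3, 0, 0], [2, 0, 3, 0, 0], [0, 1, 3, 0, 0], [1, 1, 3, 0, 0], [2, 1, 3, 0, 0], [0, 2, 3, 0, 0], [1, 2, 3, 0, 0], [2, 2, 3, 0, 0], [0, 3, 3, 0, 0], [2, 3, 3, 0, 0], [1, 0, 0, 1, 0], [3, 0, 0, 1, 0], [2, 2, 0, 1, 0], [0, 3, 0, 1, 0], [1, 3, 0, 1, 0], [2, 3, 0, 1, 0], [0, 0, 1, 1, 0], [1, 0, 1, 1, 0], [2, 0, 1, 1, 0], [3, 0, 1, 1, 0], [2, 2,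 1, 1, 0], [3, 2, 1, 1, 0], [0, 3, 1, 1, 0], [1, 3, 1, 1, 0], [2, 3, 1, 1, 0], [3, 3, 1, 1, 0], [0, 0, 2, 1, 0], [1, 0, 2, 1, 0], [3, 0, 2, 1, 0], [1, 2, 2, 1, 0], [2, 2, 2, 1, 0], [0, 3, 2, 1, 0], [2, 1, 3, 1, 0], [0, 2, 3, 1, 0], [1, 2, 3, 1, 0], [2, 2, 3, 1, 0], [0, 3, 3, 1, 0], [0, 1, 0, 3, 0], [1, 1, 0, 3, 0], [2, 1, 0, 3, 0], [3, 1, 0, 3, 0], [0, 2, 0, 3, 0], [2, 2, 0, 3, 0], [3, 2, 0, 3, 0], [0, 3, 0, 3, 0], [2, 3, 0, 3, 0], [3, 3, 0, 3, 0], [0, 0, 1, 3, 0], [1, 0, 1, 3, 0], [2, 0, 1, 3, 0], [3, 0, 1, 3, 0], [2, 2, 1, 3, 0], [0, 3, 1, 3, 0], [1, 3, 1, 3, 0], [0, 2, 3, 3, 0], [0, 0, 0, 0, 0, 0], [2, 0, 0, 0, 0, 0], [0, 1, 0, 0, 0, 0], [3, 1, 0, 0, 0, 0], [0, 2, 0, 0, 0, 0], [1, 2, 0, 0, 0, 0], [3, 2, 0, 0, 0, 0], [0, 3, 0, 0, 0, 0], [1, 3, 0, 0, 0, 0], [2, 3, 0, 0, 0, 0], [3, 3, 0, 0, 0, 0], [1, 0, 1, 0, 0, 0], [2, 0, 1, 0, 0, 0],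 [0, 1, 1, 0, 0, 0], [1, 1, 1, 0, 0, 0], [2, 1, 1, 0, 0, 0], [3, 1, 1, 0, 0, 0], [2, 2, 1, 0, 0, 0], [2, 3, 1, 0, 0, 0], [3, 3, 1, 0, 0, 0], [1, 0, 2, 0, 0, 0], [3, 0, 2, 0, 0, 0], [2, 1, 2, 0, 0, 0], [1, 2, 2, 0, 0, 0], [2, 2, 2, 0, 0, 0], [3, 2, 2, 0, 0, 0], [0, 3, 2, 0, 0, 0], [1, 0, 3, 0, 0, 0], [3, 0, 3, 0, 0, 0], [1, 1, 3, 0, 0, 0], [2, 1, 3, 0, 0, 0], [3, 1, 3, 0, 0, 0], [3, 3, 3, 0, 0, 0], [0, 0, 0, 1, 0, 0], [0, 3, 0, 1, 0, 0], [0, 0, 1, 1, 0, 0], [2, 0, 1, 1, 0, 0], [3, 0, 1, 1, 0, 0], [0, 1, 1, 1, 0, 0], [2, 1, 1, 1, 0, 0], [3, 1, 1, 1, 0, 0], [3, 2, 1, 1, 0, 0], [0, 1, 2, 1, 0, 0], [2, 1, 2, 1, 0, 0], [1, 3, 2, 1, 0, 0], [2, 3, 2, 1, 0, 0], [0, 0, 3, 1, 0, 0], [1, 0, 3, 1, 0, 0], [2, 0, 3, 1, 0, 0], [3, 0, 3, 1, 0, 0], [0, 2, 3, 1, 0, 0], [1, 2, 3, 1, 0, 0], [0, 3, 3, 1, 0, 0], [2, 3, 3, 1, 0, 0], [3, 3, 3, 1, 0, 0], [0, 0,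 0, 2, 0, 0], [1, 0, 0, 2, 0, 0], [3, 0, 0, 2, 0, 0], [2, 1, 0, 2, 0, 0], [3, 1, 0, 2, 0, 0], [0, 2, 0, 2, 0, 0], [1, 0, 1, 2, 0, 0], [3, 1, 1, 2, 0, 0], [0, 3, 1, 2, 0, 0], [0, 3, 2, 2, 0, 0], [0, 0, 0, 3, 0, 0], [3, 1, 0, 3, 0, 0], [2, 2, 0, 3, 0, 0], [3, 2, 0, 3, 0, 0], [0, 0, 1, 3, 0, 0], [1, 1, 1, 3, 0, 0], [2, 1, 1, 3, 0, 0], [2, 2, 1, 3, 0, 0], [3, 0, 2, 3, 0, 0], [0, 1, 2, 3, 0, 0], [1, 1, 2, 3, 0, 0], [3, 1, 2, 3, 0, 0], [0, 2, 2, 3, 0, 0], [0, 0, 3, 3, 0, 0], [1, 0, 3, 3, 0, 0], [3, 0, 3, 3, 0, 0], [2, 2, 3, 3, 0, 0], [0, 1, 0, 0, 1, 0], [1, 1, 0, 0, 1, 0], [0, 3, 0, 0, 1, 0], [1, 3, 0, 0, 1, 0], [0, 2, 2, 0, 1, 0], [2, 2, 2, 0, 1, 0], [3, 2, 2, 0, 1, 0], [1, 0, 3, 0, 1, 0], [3, 0, 3, 0, 1, 0], [1, 2, 3, 0, 1, 0], [2, 2, 3, 0, 1, 0], [0, 0, 0, 1, 1, 0], [1, 0, 0, 1, 1, 0], [2, 0, 0, 1, 1, 0], [0, 3, 0, 1, 1, 0], [0, 2, 2, 1,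 1, 0], [3, 2, 2, 1, 1, 0], [2, 3, 2, 1, 1, 0], [1, 0, 3, 1, 1, 0], [3, 0, 3, 2, 1, 0], [0, 2, 1, 3, 1, 0], [0, 1, 2, 3, 1, 0], [0, 0, 3, 3, 1, 0], [2, 0, 3, 3, 1, 0], [1, 0, 1, 0, 3, 0], [2, 1, 1, 0, 3, 0], [1, 2, 1, 0, 3, 0], [3, 0, 2, 0, 3, 0], [1, 0, 3, 0, 3, 0], [0, 2, 3, 0, 3, 0], [3, 3, 3, 0, 3, 0], [2, 3, 0, 1, 3, 0], [0, 2, 2, 1, 3, 0], [0, 1, 3, 1, 3, 0], [3, 0, 2, 3, 3, 0], [1, 0, 0, 0, 0, 0, 0], [3, 3, 1, 0, 0, 0, 0], [2, 0, 2, 0, 0, 0, 0], [3, 1, 2, 0, 0, 0, 0], [3, 0, 3, 0, 0, 0, 0], [2, 1, 3, 0, 0, 0, 0], [3, 3, 3, 0, 0, 0, 0], [0, 0, 1, 1, 0, 0, 0], [2, 2, 1, 1, 0, 0, 0], [3, 2, 1, 1, 0, 0, 0], [0, 2, 2, 2, 0, 0, 0], [3, 0, 3, 2, 0, 0, 0], [2, 1, 1, 3, 0, 0, 0], [2, 2, 1, 3, 0, 0, 0], [0, 3, 1, 3, 0, 0, 0], [3, 2, 0, 1, 1, 0, 0], [1, 3, 1, 1, 1, 0, 0], [3, 3, 0, 3, 1, 0, 0], [2, 0, 0, 0, 2, 0, 0]],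
   [(1, []), (2, []), (5, []), (9, []), (13, []), (17, []), (21, []), (25, []), (28, []), (32, []), (35, []), (38, []), (10, [2, 3, 1, 3, 1, 1, 1, 3, 3]), (7, [3, 1, 3, 1, 1, 1, 2, 3, 2]), (47, []), (42, [3, 1, 3, 1, 2, 2, 2, 2]), (51, []), (54, []), (58, []), (62, []), (66, []), (69, []), (72, []), (18, [1, 2, 1, 3, 1, 3, 3]), (77, []), (80, []), (83, []), (15, [1, 2, 1, 1, 2, 1, 2, 2, 2, 3]), (88, []), (91, []), (94, []), (97, []), (71, [2, 2, 1, 3, 1, 1, 2, 2, 3, 3, 3, 2]), (56, [1, 2, 1, 2, 2, 1, 2, 3, 3, 3, 2, 2]), (102, []), (105, []), (73, [2, 3, 3, 1, 2, 1, 2, 2]), (111, []), (115, []), (0, [3, 2, 1, 3, 2]), (120, []), (43, [1, 1, 2, 1, 2, 1, 1, 2, 2, 2, 2, 2, 2]), (122, []), (125, []), (126, []), (130, []), (133, []), (136, []), (128, [3, 1, 2, 3, 1, 2, 2, 2, 3, 3]), (121, [3, 3, 1, 1, 2, 2, 2]), (141, []), (82, [1, 3, 1, 2,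 2, 2, 3, 3, 3, 2]), (143, []), (142, [2, 2, 1, 2, 1, 1, 2, 2, 3, 3, 3]), (144, []), (146, []), (148, []), (151, []), (23, [1, 2, 1, 1, 2, 2, 2, 3, 3, 3, 2]), (157, []), (12, [1, 2, 1, 3, 1, 1, 3, 2, 2, 2, 2, 2]), (103, [1, 3, 2, 2, 1, 1, 2]), (161, [2, 3, 2, 1, 2, 1, 3, 2, 2, 2, 2]), (96, [1, 3, 3, 1, 2, 1, 2, 2, 2, 2, 2, 2]), (163, [1, 2, 1, 3, 1, 2, 2, 2, 3]), (170, []), (70, [1, 1, 2, 2, 1, 1, 3, 3, 3, 2, 2]), (45, [2, 1, 1, 1, 3, 3, 2, 2, 2, 3]), (112, [3, 3, 1, 1, 3, 1, 2, 3, 3, 3]), (177, []), (61, [2, 2, 1, 1, 2, 1]), (178, []), (179, []), (182, []), (180, [2, 3, 1, 3]), (186, []), (92, [1, 2, 2, 3, 3, 1]), (190, []), (194, []), (196, []), (199, []), (30, [1, 1, 1, 3, 1, 3, 2, 2, 2, 2]), (204, []), (169, [3, 2, 2, 2, 1, 3, 2, 2, 2, 3, 3]), (109, [2, 3, 3, 1, 2, 1, 3, 3, 3, 2, 2, 2, 2]), (207, []), (39, [1, 3, 3, 2, 2, 1, 2, 2,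 3, 3, 3, 2]), (208, []), (209, []), (116, [3, 1, 2, 2, 1, 2]), (81, [3, 1, 1, 3, 1, 1]), (213, []), (181, [1, 2, 2, 3, 3, 1, 3, 3, 3, 2, 2]), (214, [2, 2, 3, 3, 1, 1, 1, 3, 3, 2, 2, 2, 3]), (24, [1, 2, 2, 3, 1, 2, 2, 2]), (218, []), (221, []), (222, []), (131, [2, 1, 1, 3, 1, 2, 2, 2, 3, 3, 3]), (226, []), (228, []), (230, []), (152, [2, 2, 3, 1, 2, 2, 2]), (68, [2, 3, 1, 1, 1, 2, 3, 3, 3, 2]), (149, [1, 2, 2, 1, 2, 1, 2, 3, 3, 3, 2, 2]), (237, []), (173, [2, 3, 2, 2, 1, 1, 3, 3, 2, 2]), (52, [2, 1, 1, 3, 1, 2, 2, 2, 2, 2, 2, 2]), (240, []), (241, []), (119, [2, 3, 2, 2, 2, 1, 1, 3, 3, 3, 2, 2, 2, 2]), (3, [2, 2, 1, 3, 2, 1, 2, 3, 2, 2, 2, 2]), (87, [2, 3, 3, 1, 3, 3, 2]), (243, [2, 2, 1, 1, 2, 1, 3, 2, 2, 2]), (176, [1, 2, 1, 1, 3, 3, 3, 2, 2, 2, 2]), (57, [3, 1, 1, 3, 2, 1, 1, 1, 3, 3, 3, 2, 2, 2]), (64, [3, 3, 1, 2, 3, 1]), (166, [2,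 1, 1, 3, 1, 2, 2, 2, 3, 2]), (140, [3, 3, 1, 2, 1, 2, 2, 2, 2, 2]), (174, [2, 3, 3, 1, 2, 1, 2, 2, 3, 3, 3]), (26, [2, 2, 1, 1, 2, 1, 3, 2, 2, 2, 3, 3]), (246, []), (224, [3, 2, 1, 3, 1, 2, 3, 2, 2]), (247, []), (206, [2, 2, 3, 2, 1, 3, 3, 3, 2, 2, 2, 2]), (248, []), (162, [1, 1, 2, 2, 2, 1, 1, 2, 3]), (11, [2, 3, 3, 3, 2, 1, 3, 2, 2]), (201, [1, 1, 2, 1, 2, 1, 2, 3, 3]), (55, [2, 1, 1, 1, 3, 1, 3, 3, 3, 2, 2]), (132, [1, 1, 2, 2, 1, 2, 1, 3, 3, 2, 2, 2, 2]), (139, [2, 3, 1, 3, 3, 2, 2]), (168, [3, 3, 3, 2, 1, 1, 1, 2, 3, 3, 3]), (250, [2, 2, 2, 1, 2, 2, 1, 2, 3, 2, 2, 2, 2, 2]), (255, []), (232, [3, 3, 1, 1, 2, 2, 2]), (22, [2, 3, 1, 3, 2, 2]), (31, [3, 2, 1, 2, 2, 2, 2, 2]), (159, [1, 2, 2, 1, 1, 3, 2, 2]), (4, [1, 3, 2, 1, 2, 3, 2, 2]), (258, []), (147, [1, 3, 1, 1, 1, 3, 2, 2]), (259, []), (107, [1, 1, 2, 2, 1, 1, 1, 2, 2, 2, 2, 2]),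 (86, [1, 3, 1, 3, 1, 3, 2]), (184, [2, 2, 1, 1, 1, 2, 3, 3, 3]), (256, [1, 3, 2, 1, 2, 2, 3, 3]), (67, [3, 1, 3, 3, 3, 1, 1, 2, 3, 2, 2, 2, 2, 2]), (34, [2, 2, 3, 2, 1, 2, 3]), (231, [2, 3, 3, 3, 2, 1, 2, 3, 3, 3, 2]), (220, [1, 1, 3, 2, 1, 1, 1, 2, 3]), (219, [2, 1, 2, 2, 1, 1, 1, 2, 2, 2, 3, 3, 3, 2]), (236, [2, 3, 3, 1, 2, 1, 2, 3, 2]), (6, [2, 2, 2, 2, 2, 1, 3, 3, 3, 2, 2, 2]), (175, [2, 1, 2, 1, 1, 2, 2, 2, 2]), (63, [2, 1, 2, 1, 1, 1]), (117, [2, 1, 2, 3, 1, 2, 3]), (268, []), (212, [1, 2, 2, 3, 2, 1, 2, 3, 3]), (239, [1, 3, 3, 3, 1, 1, 2, 3, 3]), (172, [3, 1, 2, 2, 1, 1, 3, 2, 2, 2, 2, 2]), (266, [3, 2, 2, 1, 3, 1, 2, 2, 2, 2, 2, 2]), (198, [2, 1, 3, 1, 2, 1, 3, 2, 2, 2, 3, 3]), (253, [1, 3, 2, 2, 2, 1, 2, 2, 2, 3, 3, 3]), (160, [3, 2, 1, 2, 3, 1, 2, 1, 3, 3, 3]), (156, [1, 1, 3, 2, 1, 3, 1, 2, 3, 2, 2]), (167, [1, 2, 2, 1, 1,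 1, 3, 3, 2, 2, 2, 2]), (270, [2, 2, 3, 3, 1, 1, 1, 2, 2, 3, 3, 3]), (271, []), (79, [1, 1, 2, 2, 1, 2, 1, 2, 2, 2, 3]), (235, [2, 2, 1, 2, 3, 2, 2, 2, 2]), (95, [3, 1, 3, 2, 2, 2, 3]), (150, [1, 2, 2, 2, 2, 2, 1, 2, 3, 2, 2, 2, 2]), (242, [1, 2, 2, 1, 2, 1, 2, 2, 2, 2, 2, 2]), (110, [1, 1, 2, 1, 2, 1, 1, 2, 3, 3, 3, 2, 2]), (275, []), (37, [1, 1, 3, 1, 2, 1, 1, 3, 2, 2, 2, 3]), (245, [2, 3, 1, 2, 1, 2, 2, 2, 3]), (114, [1, 2, 3, 1, 2, 1, 1, 3, 3, 2, 2, 2, 3]), (134, [2, 1, 2, 2, 1, 1, 3, 3, 3]), (233, [2, 1, 3, 2, 2, 1, 1, 2, 3, 3, 3, 2]), (76, [1, 2, 3, 3, 1, 3, 3, 2, 2, 2, 3]), (153, [1, 2, 1, 3, 1, 2, 2, 2, 3, 2]), (118, [2, 2, 1, 1, 3, 1, 3, 3, 2, 2]), (90, [2, 2, 1, 1, 3, 1, 2, 2, 3]), (210, [3, 2, 1, 3, 2, 1, 2, 2, 3, 3]), (16, [1, 1, 2, 3, 1, 2, 2, 2, 3, 3]), (29, [2, 1, 2, 3, 3, 1, 2, 3, 3, 3, 2]), (234, [2, 1, 3, 2, 1, 3, 3,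 2]), (269, [1, 3, 2, 1, 3, 1, 2, 2, 3, 3, 3, 2]), (145, [2, 3, 1, 2, 2, 2, 2, 2, 2, 2]), (165, [3, 3, 2, 2, 1, 2, 2, 2, 2, 2, 2]), (263, [1, 1, 3, 2, 1, 2, 3, 3, 3, 2, 2, 2]), (197, [1, 1, 2, 2, 1, 1, 3, 3, 2, 2, 2, 3]), (33, [1, 3, 2, 1, 3, 3, 2, 2, 2]), (272, [2, 3, 2, 2, 1, 1]), (193, [3, 1, 2, 2, 1, 2, 2, 3, 2]), (40, [3, 1, 2, 3, 1, 2, 1, 3, 2]), (164, [2, 3, 2, 2, 1, 2, 2, 2, 2]), (98, [1, 2, 2, 1, 3, 1, 1, 2, 2, 2, 3]), (229, [3, 3, 1, 2, 1, 1, 2, 3]), (223, [2, 2, 3, 3, 1, 1, 3, 2, 2, 2, 2, 2]), (113, [3, 1, 2, 1, 1, 1, 2, 2, 2, 3]), (14, [1, 3, 3, 1, 2, 1, 1, 3, 3, 2, 2, 2]), (138, [1, 3, 3, 2, 1, 1, 1, 2, 3, 2, 2, 2, 2, 2]), (205, [2, 1, 1, 2, 1, 1, 1, 2, 3, 3, 3, 2, 2, 2]), (59, [2, 3, 1, 3, 1, 1, 3, 3, 3, 2]), (252, [1, 2, 2, 2, 1, 2, 3, 3, 3]), (20, [1, 1, 3, 2, 1, 1, 1, 2, 2, 2, 2]), (137, [1, 1, 3, 1, 3, 1, 1, 3, 3, 2]),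 (135, [2, 3, 2, 2, 1, 1, 2, 3, 2]), (84, [2, 2, 1, 2, 2, 1, 2, 2, 2, 2, 2]), (251, [1, 2, 2, 3, 3, 1, 3, 3, 3, 2, 2, 2]), (104, [3, 1, 3, 2, 1, 3, 2, 2, 2]), (99, [2, 3, 1, 3, 3, 3]), (8, [3, 1, 2, 2, 1, 3, 3, 2, 2]), (262, [1, 1, 3, 1, 2, 2, 3]), (49, [1, 3, 3, 1, 2, 1, 1, 3, 3, 2, 2]), (171, [3, 2, 2, 1, 1, 1, 3, 3, 3, 2, 2, 2, 2]), (279, [2, 1, 3, 1, 2, 1, 2, 2, 3]), (44, [2, 3, 3, 1, 3, 3, 3, 2, 2, 2, 2]), (202, [1, 1, 2, 2, 2, 1, 1, 2, 2, 2]), (215, [2, 2, 1, 2, 2, 1, 3, 2, 2, 2, 2]), (260, [2, 2, 1, 1, 2, 1, 2, 3, 2, 2, 2, 2, 2]), (129, [2, 1, 3, 1, 3, 2]), (211, [1, 2, 1, 1, 3, 1, 3]), (53, [1, 3, 3, 3]), (192, [2, 2, 1, 1, 2, 1, 1, 2, 2, 2, 2]), (276, [2, 1, 3, 3, 3, 1, 1, 1, 2, 2, 3, 3, 3]), (191, [2, 1, 2, 3, 3, 1, 2, 3, 2, 2, 2, 2, 2]), (93, [2, 1, 3, 1, 2, 2, 3, 3, 3, 2]), (123, [2, 2, 1, 3, 2, 1, 3, 2]), (261, [1, 2, 1, 2,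 1, 3, 3, 3, 2, 2, 2]), (74, [2, 3, 3, 1]), (257, [2, 3, 1, 2, 1, 3, 2, 2, 2, 2, 2]), (60, [2, 1, 3, 1, 3, 1, 1, 3, 3, 2, 2, 2, 3]), (78, [2, 3, 1, 1, 2, 1, 3, 3, 3, 2, 2, 2]), (65, [3, 2, 1, 2, 3, 1, 2, 3, 3]), (127, [2, 2, 2, 1, 2, 2, 2, 3, 2]), (75, [1, 3, 3, 3, 1, 1, 3, 2, 2]), (264, [1, 2, 3, 1, 2, 1, 2, 3, 2, 2, 2]), (249, [3, 1, 1, 3, 2, 1, 1, 1, 2, 2, 3, 2]), (106, [1, 3, 3, 1, 2, 1, 1, 2]), (195, [2, 1, 3, 1, 1, 3, 2, 2, 2]), (216, [2, 1, 1, 3, 1, 3]), (36, [1, 3, 1, 2, 2, 2, 2]), (185, [1, 2, 2, 1, 1, 1, 3, 2, 2, 2, 2]), (187, [1, 2, 3, 1, 2, 1, 3, 3, 3, 2, 2]), (273, [1, 2, 2, 1, 1, 2, 2, 3]), (227, [3, 1, 2, 2, 1, 3, 3, 3, 2, 2]), (46, [2, 1, 3, 1, 2, 1, 1, 2, 2, 3, 3, 3]), (158, [1, 2, 2, 2, 2, 2, 1, 3, 3, 2, 2, 2, 2]), (274, [2, 1, 2, 2, 1, 2, 3, 2, 2, 2]), (254, [3, 3, 2, 2, 1, 3, 1, 2, 2, 2, 3, 3, 3]), (100, [2, 3, 1, 1,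 1, 3, 3, 2, 2, 2, 2]), (203, [1, 1, 3, 2, 1, 1, 1, 3, 2]), (27, [3, 1, 1, 2, 1, 2, 1, 1, 2, 2, 2, 2]), (188, [3, 1, 2, 1, 1, 1, 2, 2, 3, 3, 3]), (278, [2, 1, 3, 1, 2, 3, 2]), (101, [1, 1, 3, 1, 1, 2, 3, 2, 2, 2, 2, 2]), (108, [3, 3, 2, 2, 1, 2, 2]), (217, [2, 2, 2, 1, 3, 3, 2, 2, 2, 3]), (244, [1, 1, 3, 2, 1, 3, 1, 2, 2, 3, 2]), (225, [3, 3, 1, 2, 1, 2, 2, 3, 3, 3]), (267, [2, 3, 1, 1, 1, 3, 3, 2, 2, 2]), (277, [3, 2, 1, 1, 2, 2, 2, 2, 2, 2, 2]), (41, [3, 2, 1, 2, 1, 3, 3, 3]), (48, [3, 3, 1, 2, 1, 1, 1, 2, 3, 3, 3, 2]), (189, [3, 2, 2, 1, 1, 3, 2, 2, 2, 2, 2]), (265, [2, 3, 1, 3, 1, 1, 1, 2, 2, 3, 3]), (200, [1, 1, 3, 1, 3, 1, 1, 3, 3, 2]), (50, [3, 3, 1, 1, 2, 1, 3, 3, 2, 2]), (155, [3, 2, 1, 2, 3, 1, 3, 3, 3]), (19, [3, 1, 2, 1, 2, 3, 2, 2, 2, 2]), (183, [1, 2, 3, 1, 2, 1, 1, 2, 2, 2, 2, 2, 2, 2]), (154, [1, 3, 2, 1, 3, 2, 2]), (89,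 [1, 2, 3, 1, 1, 1, 2, 3, 2, 2, 2, 2]), (124, [2, 3, 2, 1, 2, 3, 2, 2, 2, 2, 2]), (85, [3, 3, 1, 1, 3, 1, 3, 3]), (238, [2, 3, 1, 2, 2, 3, 3]), (0, [1]), (3, []), (6, []), (10, []), (14, []), (18, []), (22, []), (26, []), (29, []), (7, [1, 1, 3, 2, 2, 1, 2, 3, 2]), (16, [2, 3, 2, 2, 1, 1, 3, 3, 3, 2, 2]), (37, [1, 3, 3, 1, 2, 1, 2, 3, 2, 2]), (41, []), (44, []), (48, []), (15, [1, 2, 2, 2, 2]), (1, [2, 2, 3, 1, 1, 3, 2, 2, 2, 2, 2]), (55, []), (59, []), (63, []), (67, []), (46, [1, 1, 2, 1, 2, 3, 2]), (73, []), (75, []), (70, [1, 1, 2, 2, 2, 1, 1, 2, 3, 2, 2, 2]), (81, []), (84, []), (32, [3, 1, 3, 3, 2, 2, 1, 2, 3, 3]), (89, []), (92, []), (95, []), (13, [1, 1, 2, 2, 1, 1, 2, 2, 3, 3, 3, 2]), (99, []), (98, [3, 2, 1, 1, 3, 1, 3, 2]), (103, []), (106, []), (43, [1, 1, 2, 3, 1, 2, 2, 2, 2, 2, 2]), (112, []), (116, []), (118, []), (42, [3,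 2, 1, 2, 3, 1, 2, 1, 2, 3, 2, 2, 2]), (49, [2, 1, 2, 1, 1, 3, 2, 2, 2]), (123, []), (36, [1, 2, 1, 1, 3, 1, 2, 3, 3, 3, 2, 2, 2]), (127, []), (104, [2, 2, 3, 3, 1, 1, 2, 3, 3, 3, 2, 2]), (47, [3, 1, 1, 2, 3, 1, 2, 2, 2, 3, 2]), (137, []), (109, [1, 2, 3, 1, 2, 2, 3, 3, 3, 2]), (110, [1, 2, 2, 3, 2, 1, 1, 2, 3, 3, 3, 2, 2, 2]), (142, []), (115, [2, 1, 3, 1, 1, 2, 3, 3, 3, 2]), (11, [1, 3, 3, 1, 2, 1, 1, 1, 2, 3, 2, 2]), (39, [3, 2, 1, 3, 2, 1, 3]), (19, [2, 1, 3, 3, 2, 1, 1, 1, 2, 2, 2, 3]), (135, [1, 2, 2, 1, 2, 1, 3, 2, 2, 2, 2]), (149, []), (152, []), (155, []), (158, []), (80, [1, 2, 1, 3, 1, 3, 2, 2, 2, 2]), (101, [1, 1, 1, 2, 1, 2]), (164, []), (93, [1, 2, 3, 1, 3, 1, 2, 3, 2, 2, 2, 2]), (167, []), (65, [1, 1, 2, 2, 1, 1, 2, 2, 2, 3, 2]), (171, []), (173, []), (166, [1, 1, 3, 3, 3, 1, 1, 2]), (86, [3, 2, 1, 2, 2, 1, 2, 2, 3, 2]),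 (61, [1, 1, 1, 2, 2, 1, 1, 2, 2, 2, 3, 3, 3, 2]), (175, [3, 3, 3, 2, 1, 1, 2, 3, 2]), (141, [2, 1, 3, 2, 2, 1, 1, 2, 3, 3, 3]), (2, []), (131, [2, 1, 3, 1, 2, 1, 1, 3, 2]), (102, [3, 2, 1, 2, 2, 1, 3, 3, 2, 2, 2, 2]), (188, []), (191, []), (195, []), (88, [2, 1, 2, 3, 1, 2, 1, 2, 2]), (200, []), (182, [3, 2, 2, 1, 3, 1, 3, 3, 2]), (97, [1, 1, 2, 2, 1, 1, 1, 3, 2, 2, 2, 2]), (205, []), (9, [2, 3, 2, 1, 3, 2, 2]), (145, [3, 3, 3, 1, 3, 2, 2]), (66, [2, 2, 1, 1, 2, 3, 3, 3]), (117, [2, 2, 1, 1, 1, 3, 3, 3, 2]), (154, [2, 1, 2, 3, 1, 2, 1, 3]), (176, [3, 3, 2, 1, 1, 2, 1, 2, 2, 2, 3]), (196, [1, 1, 2, 2, 1, 2, 3, 3, 3, 2, 2, 2]), (186, [3, 3, 1, 1, 1, 2]), (214, []), (54, [2, 1, 3, 3, 3, 1, 1, 1, 3, 2, 2, 2]), (209, [2, 3, 1, 3, 1, 1, 1, 2, 3, 3, 3]), (219, []), (74, [1, 3, 2, 1, 1, 2, 2, 3, 3]), (223, []), (128, [1, 2, 2, 3, 1, 3, 2]), (227,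 []), (229, []), (24, [3, 1, 3, 2, 2, 2]), (233, []), (189, [1, 2, 3, 1, 3, 1, 2, 3, 3, 3]), (235, []), (238, []), (136, [1, 2, 2, 3, 3, 1, 2]), (56, [2, 3, 2, 2, 1, 1, 2, 2, 2, 2, 2]), (203, [2, 3, 2, 1, 2, 1, 2, 2, 3, 3, 3, 2]), (4, [2, 1, 2, 2, 1, 1, 2, 3, 2, 2]), (12, [2, 1, 1, 2, 3, 1, 2, 3, 2, 2, 2]), (244, []), (52, [2, 2, 1, 2, 2, 2, 2, 2]), (53, [2, 3, 2, 1, 1, 2, 3, 3]), (243, [2, 3, 2, 1, 1, 3, 2, 2]), (62, [1, 2, 3, 3, 1, 2, 2, 2, 3, 3]), (58, [1, 1, 3, 1, 3, 1, 1, 2, 3, 2, 2, 2, 2, 2]), (224, [1, 1, 3, 1, 3, 1, 2, 2, 2, 3, 2]), (113, [1, 1, 3, 2, 2, 1, 2, 3, 2]), (50, [1, 2, 3, 3, 1, 2, 3, 2, 2, 2, 2, 2]), (201, [3, 3, 2, 2, 1, 3, 1, 3]), (114, [3, 3, 1, 2, 1, 1, 2, 2, 2, 3, 2]), (169, [1, 2, 3, 3, 3, 1, 2, 2, 3]), (140, [1, 1, 2, 2, 1, 2, 2, 2, 3, 3, 3]), (121, [2, 2, 3, 1, 1, 3, 3]), (91, [1, 1, 2, 2, 1, 1, 2, 2, 2]), (250,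 []), (31, [2, 3, 2, 1, 1, 2, 3, 3]), (252, []), (177, [1, 3, 3, 2, 1, 1, 3, 2, 2, 2, 2, 2]), (25, [3, 1, 3, 3, 2, 2, 2, 2]), (193, [3, 1, 3, 3, 2, 2, 1, 2, 2, 3, 3, 3]), (221, [2, 2, 1, 1, 1, 2, 3, 3, 3]), (254, []), (163, [2, 3, 3, 1, 1, 2, 1]), (174, [2, 3, 1, 2, 1, 3, 3, 2, 2, 2, 2]), (180, [1, 1, 3, 2, 1, 1, 1, 3, 2, 2, 2, 3]), (21, [1, 1, 1, 2, 2, 1, 1, 3, 3, 2, 2, 2]), (234, [1, 2, 2, 3, 2, 1, 1, 3, 3, 2, 2, 2, 2]), (126, [2, 1, 1, 2, 3, 1, 2, 3, 3, 3, 2, 2]), (40, [3, 3, 1, 1, 3, 1, 3, 2, 2, 2]), (208, [2, 1, 2, 1, 2, 3, 3, 3, 2, 2]), (242, [1, 1, 2, 1, 2, 2, 1, 2, 2, 2, 3, 3]), (190, [3, 3, 2, 1, 1, 1, 3, 3]), (261, []), (240, [3, 3, 1, 1, 1, 3, 2, 2, 2, 2, 2]), (120, [1, 3, 3, 1, 2, 1, 1, 2, 3, 3]), (185, [1, 2, 2, 1, 1, 2, 2]), (76, [2, 3, 2, 1, 3, 1, 3, 3, 3, 2, 2]), (206, [3, 1, 1, 3, 2, 1, 1, 1, 3, 3, 3, 2, 2]), (255, [3,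 1, 2, 2, 3, 3, 3]), (187, [2, 1, 2, 3, 1, 2, 1, 2, 2, 3, 2]), (147, [1, 3, 3, 1, 2, 1, 1]), (133, [1, 2, 2, 3, 1, 3, 3, 3, 2]), (225, [3, 1, 1, 2, 1, 3, 3, 2, 2, 2, 2]), (38, [1, 1, 3, 2, 1, 3, 1, 2, 2, 3]), (236, [3, 3, 1, 2, 3, 2, 2, 2]), (251, [3, 3, 1, 2, 1, 1, 1, 2]), (5, []), (264, [1, 3, 1, 2, 1, 1, 2, 3, 2, 2, 2]), (146, [1, 2, 3, 2, 2, 1, 1, 3, 3, 2, 2, 2]), (212, [1, 1, 1, 3, 2, 1, 3, 2, 2, 2, 2, 2]), (246, [2, 1, 1, 2, 3, 2, 2, 2]), (150, [2, 2, 3, 3, 1, 1, 1, 3, 2, 2, 2, 2]), (51, [3, 1, 3, 3, 2, 2, 1, 3, 3, 3, 2, 2]), (269, [2, 3, 3, 3, 2, 1, 2, 3, 2, 2]), (159, [1, 1, 2, 2, 2, 1, 1, 3, 3, 2, 2, 2, 3]), (108, [3, 3, 1, 1, 3, 1, 2, 2, 2, 2, 2]), (266, [1, 3, 1, 3, 2, 2, 2]), (211, [3, 1, 3, 3, 3, 1, 1, 2, 2, 2, 2, 2]), (82, [2, 1, 3, 1, 2, 3, 3, 3, 2, 2, 2]), (69, [1, 3, 2, 1, 3, 1, 3, 3]), (262, [1, 2, 1, 2, 1, 2, 2]), (270,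 [2, 2, 3, 3, 1, 2, 2, 2, 3, 3, 3, 2]), (17, [2, 2, 1, 2, 1, 2]), (218, [1, 3, 2, 1, 1, 2, 2, 2, 3, 3]), (274, [1, 2, 2, 3, 2, 1, 3, 2, 2, 2]), (83, [3, 1, 1, 2, 3, 1, 2, 3, 3, 3, 2, 2, 2]), (198, [3, 3, 3, 2, 1, 2, 2, 2, 2, 2]), (184, [1, 3, 2, 1, 1, 1, 2, 2, 2, 3]), (35, [1, 3, 1, 1, 1, 2, 2, 3, 3, 3, 2]), (85, [3, 2, 1, 3, 1, 2, 2, 2, 3, 2]), (130, [1, 1, 2, 1, 1, 2, 2]), (151, [3, 2, 1, 2, 3, 1, 2, 1, 2]), (277, []), (57, [2, 2, 3, 3, 1, 2, 2, 2, 3, 3, 3, 2]), (222, [1, 1, 3, 2, 1, 3, 1, 3, 2, 2]), (241, [2, 1, 1, 2, 2, 2, 2]), (237, [1, 2, 2, 2, 1, 3, 2, 2, 2, 2, 2]), (231, [3, 1, 3, 1, 1, 1, 2, 2, 2]), (168, [2, 1, 2, 3, 1, 2, 1, 2, 3, 3, 3, 2]), (111, [3, 3, 3, 2]), (157, [2, 3, 1, 2, 2, 2, 3, 2]), (96, [1, 1, 2, 2, 1, 1, 2, 3, 3, 3]), (94, [2, 3, 2, 2, 1, 3]), (178, [2, 1, 2, 3, 3, 1, 2, 2, 3, 3, 3, 2]), (256, [1, 1, 1, 2, 1, 3,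 2, 2, 2, 2, 2]), (258, [2, 2, 3, 3, 1, 2, 2]), (78, [1, 1, 2, 3, 1, 3, 2, 2]), (87, [1, 2, 2, 2, 1, 1, 3, 2, 2, 2, 3]), (215, [1, 3, 2, 1, 2, 2, 2, 3, 2]), (160, [2, 1, 3, 2, 2, 1, 1, 2, 2, 2, 3, 2]), (192, [2, 3, 1, 1, 2, 1, 2]), (64, [2, 1, 3, 2, 1, 3, 3, 2, 2, 2, 2]), (257, [2, 2, 1, 3, 1, 2, 3, 3, 3]), (129, [2, 3, 2, 2, 1, 1, 2, 3, 2, 2, 2]), (107, [3, 2, 1, 2, 3, 1, 2, 2, 2, 2, 2, 2]), (207, [1, 3, 1, 2, 2]), (217, [2, 3, 1, 1, 2]), (278, [2, 1, 3, 3, 2, 1, 1, 1, 2, 2, 3, 3, 3]), (139, [2, 2, 3, 1, 1, 1, 2, 2, 2, 2, 2, 2]), (248, [1, 3, 1, 1, 2, 2, 2, 3, 3, 3, 2]), (213, [2, 2, 3, 1, 1, 3, 2, 2]), (239, [1, 2, 1, 1, 3, 1, 2, 2, 3, 3, 3]), (8, []), (60, [2, 3, 3, 1, 3, 3, 3]), (273, [2, 3, 2, 1, 2, 2, 3, 3, 3]), (72, [1, 3, 1, 2, 2, 1, 1, 2, 3, 2]), (271, [1, 1, 2, 2, 2, 1, 1, 2, 3, 2, 2, 2, 2, 2]), (265, [1, 1, 3, 1, 3, 1, 1, 2,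 2, 2]), (172, [2, 3, 1, 2, 1, 3]), (263, [3, 2, 1, 1, 2, 2, 3, 3, 3, 2]), (125, [3, 3, 1, 1, 3, 1, 1, 2, 3, 3, 3, 2, 2]), (170, [2, 2, 3, 3, 1, 2, 2]), (199, [1, 1, 3, 2, 1, 1, 1, 3, 3, 2, 2, 2, 2]), (79, [2, 1, 1, 2]), (260, [2, 1, 1, 2, 1, 3]), (27, [1, 1, 3, 1, 1, 2, 2, 2, 3, 2]), (220, [1, 1, 2, 1, 2, 1, 1, 2, 2, 3]), (226, [1, 3, 1, 2, 1, 1, 2]), (105, [1, 2, 3, 1, 1, 1, 3, 2, 2, 2, 3, 3]), (34, [2, 2, 1, 1, 1, 3, 2]), (153, [1, 1, 2, 2, 2, 3, 2]), (23, [3, 1, 1, 3, 2, 1, 1, 1, 3, 3, 2, 2, 2, 2]), (162, [3, 1, 1, 2, 1, 2, 1, 1, 3, 3, 2, 2, 2]), (259, [2, 3, 3, 1, 3, 2, 2, 2, 3]), (156, [2, 3, 1, 2, 2, 2, 3, 2]), (148, [1, 1, 2, 2, 1, 1, 3, 2, 2, 2, 3, 3]), (275, [1, 2, 1, 1, 3, 1, 3, 2, 2, 2, 2, 2]), (161, [2, 1, 3, 1, 1, 1, 3, 3, 2]), (181, [2, 2, 3, 1, 1, 2, 2, 2, 2, 2, 2, 2]), (183, [1, 1, 1, 2, 1, 1, 3, 3, 3, 2, 2, 2, 2]), (119,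 [1, 3, 3, 2, 2, 1, 2, 2]), (124, [2, 1, 3, 2]), (77, [2, 2, 2, 3]), (90, [3, 1, 2, 2, 1, 2, 2, 2, 2, 2]), (138, [2, 3, 1, 1, 3, 3, 3, 2, 2, 2]), (249, [3, 2, 1, 2, 2, 3, 3, 3, 2]), (122, [1, 2, 3, 1]), (204, [1, 3, 1, 1, 1, 2, 3, 2, 2]), (210, [1, 1, 2, 1, 2, 1, 2, 2, 2, 2]), (202, [1, 2, 2, 2, 1, 3, 3, 3, 2]), (33, [2, 1, 2, 1, 1, 1, 2, 2, 2]), (179, [2, 1, 1, 1, 2, 2, 2, 2]), (232, [2, 1, 2, 1, 3, 2, 2, 2]), (134, [2, 2, 1, 1, 1, 2, 2, 3]), (245, [1, 3, 2, 1, 1, 2, 3]), (247, [1, 2, 2, 1, 1, 1, 3, 3, 3, 2, 2, 2, 2]), (268, [2, 2, 2, 2, 2, 2, 1, 2, 3, 2, 2, 2, 2]), (45, [2, 2, 3, 3, 1, 2, 3, 2, 2, 2, 2]), (100, [1, 2, 2, 3, 2, 1, 1, 3, 3, 2, 2, 2, 3]), (165, [2, 2, 2, 1, 2, 3, 3, 3, 2, 2, 2]), (228, [3, 1, 1, 3, 1, 1, 2, 3, 3, 3, 2]), (272, [3, 3, 1, 1, 1, 3, 2, 2, 2, 3, 3]), (68, [3, 1, 1, 2, 1, 2, 1, 1, 2, 2, 3, 2]), (30, [1, 3, 3,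 3, 1, 1, 1, 2, 3, 2, 2, 2, 2, 2]), (143, [2, 2, 3, 3, 1, 1, 2, 2, 2, 3, 3]), (216, [2, 1, 3, 3, 2, 1, 1, 1, 3, 3, 3, 2, 2, 2]), (276, [2, 1, 1, 1, 3, 1, 2, 2, 2, 3, 3, 3]), (144, [1, 2, 2, 1, 1]), (20, [1, 2, 3, 1, 2, 1, 1, 2, 2, 2, 2, 2, 2, 2]), (71, [2, 2, 1, 3, 1, 1, 3, 2, 2]), (132, [2, 1, 3, 3, 2, 1, 1, 1]), (279, [3, 2, 1, 1, 2, 1, 2, 3, 2, 2, 2]), (28, [1, 1, 3, 2, 1, 1, 3]), (230, [1, 1, 3, 3, 3, 1, 1, 2, 3, 2]), (197, [3, 1, 3, 3, 2, 2, 1, 2, 2, 2, 2, 2]), (253, [1, 1, 3, 2, 1, 3, 1, 2, 2, 2, 3, 3, 3, 2]), (194, [2, 3, 3, 1, 2, 1, 2, 3, 2, 2, 2, 2]), (267, [2, 2, 1, 2, 1, 1, 2, 2, 2, 2, 2, 2]), (0, [2]), (3, [3, 1, 3, 2, 1, 1, 3, 2]), (7, []), (11, []), (15, []), (19, []), (23, []), (27, []), (30, []), (33, []), (36, []), (39, []), (42, []), (45, []), (49, []), (43, [1, 1, 2, 1, 2, 1, 1, 3, 3, 3]), (52, []), (56, []), (60, []),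 (64, []), (8, [1, 1, 3, 2, 2, 1, 2, 2, 2, 3, 2]), (70, []), (74, []), (68, [1, 2, 3, 1, 2, 1, 3]), (78, []), (82, []), (13, [3, 3, 1, 2, 1, 1, 1, 2, 3, 3, 3, 2, 2, 2]), (86, []), (90, []), (93, []), (96, []), (98, []), (28, [2, 2, 2, 1, 1, 3, 2, 2, 2, 2]), (101, []), (104, []), (107, []), (109, []), (113, []), (91, [3, 3, 1, 3]), (119, []), (48, [2, 3, 1, 2, 1, 1, 3]), (121, []), (124, []), (16, [2, 3, 3, 3, 1, 3, 2, 2, 2, 3]), (128, []), (131, []), (134, []), (138, []), (53, [1, 1, 2, 1, 1, 3, 2]), (140, []), (14, [1, 1, 3, 2, 1, 2, 2, 2, 3, 2]), (137, [2, 3, 2, 1, 1, 2, 3, 3]), (12, [1, 1, 2, 1, 2, 1, 1, 3, 3, 3]), (1, [1, 1, 2, 1, 2, 2, 1, 3, 3, 3]), (145, []), (126, [2, 2, 1, 3, 3, 2]), (127, [2, 2, 2, 2, 2, 2, 1, 2, 2, 3, 3, 3, 2]), (153, []), (156, []), (159, []), (161, []), (162, []), (147, [1, 3, 1, 2, 1, 3, 2, 2, 2, 2, 2]), (166,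 []), (168, []), (31, [1, 1, 3, 2, 2, 1, 2, 2, 2, 3, 2]), (62, [1, 2, 1, 1, 1, 2, 2, 3, 3, 3, 2]), (174, []), (133, [2, 1, 2, 3, 1, 2, 2, 2, 3, 3, 3]), (176, [2, 1, 1, 1, 3, 1, 3, 3, 2, 2, 2, 3]), (105, [2, 3, 3, 1, 2, 1, 2, 3, 3, 3]), (55, [1, 3, 1, 1, 1, 2, 2, 2, 3]), (180, []), (183, []), (132, [1, 1, 3, 1, 3, 1, 1, 2, 2, 3, 3, 3, 2]), (187, []), (189, []), (192, []), (20, [1, 2, 3, 1, 2, 1, 3]), (197, []), (26, [3, 3, 2, 2, 1, 2, 2, 2, 3, 2]), (202, []), (149, [1, 3, 3, 3, 1, 1, 1, 3, 3, 3]), (54, [2, 1, 1, 2, 1, 1, 1, 2, 2, 2, 2, 2, 2]), (205, [2, 2, 1, 1, 2, 1, 3]), (175, [3, 1, 1, 2, 1, 3, 2, 2, 2]), (99, [2, 2, 2, 2, 1, 3, 3, 2]), (169, [3, 1, 2, 2, 2, 1, 2, 2, 2]), (179, [1, 3, 2, 2, 1, 3, 2, 2, 2, 2, 2]), (143, [3, 1, 3, 2, 1, 1, 3, 3, 3, 2, 2]), (211, []), (35, [3, 3, 2, 2, 1, 3, 3, 3, 2, 2]), (215, []), (216, []), (34, [3,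 3, 1, 2, 1, 3, 3, 3, 2, 2, 2, 2]), (24, [1, 2, 2, 2, 1, 3, 3, 3, 2, 2]), (146, [1, 3, 2, 2, 2, 1, 2, 3, 2, 2, 2, 2]), (212, [1, 1, 2, 3, 3, 3, 2, 2, 2]), (225, []), (76, [2, 1, 1, 2, 1, 1, 1, 2, 2, 2, 3, 3]), (83, [2, 1, 1, 2, 3, 1, 2, 2, 2, 3, 3]), (231, []), (214, [1, 3, 2, 1, 3, 1, 2, 2, 2, 2, 2, 2, 2]), (158, [1, 2, 1, 3, 2, 2, 2, 2, 2]), (236, []), (239, []), (190, [3, 3, 3, 1, 2, 2, 3, 3, 3, 2]), (18, [3, 3, 3, 1, 1, 1, 2, 2, 2, 2, 2]), (38, [1, 2, 1, 2, 1, 2, 2, 3]), (41, [3, 1, 1, 2, 1, 2, 1, 1, 2, 2, 3, 2]), (243, []), (17, [1, 1, 3, 2, 1, 1, 1, 3]), (110, [1, 1, 2, 1, 2, 1, 2, 2, 2, 2, 2]), (142, [2, 2, 1, 1, 3, 3, 3]), (112, [2, 2, 1, 1, 2, 2, 2, 3, 3]), (81, [2, 1, 2, 3, 3, 1, 2, 3, 3, 3, 2, 2, 2]), (79, [2, 3, 3, 1, 1, 2, 1, 3, 3, 2, 2]), (163, [2, 2, 3, 3, 1, 1, 3, 3, 3]), (10, [1, 3, 3, 3, 1, 1, 1, 3, 2, 2, 2]), (40, [1,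 1, 3, 3, 3, 1, 1, 2]), (117, [3, 1, 3, 1, 2, 2, 2]), (242, [1, 2, 1, 2, 1, 3, 2, 2, 2, 2]), (115, [3, 3, 3, 2, 1, 1, 2, 3, 3]), (37, [3, 1, 3, 2, 1, 1, 2, 3, 3, 3]), (4, [1, 2, 2, 1, 1, 1, 3, 3, 2, 2]), (249, []), (21, [2, 1, 3, 1, 1, 2, 2, 3, 3, 3, 2]), (251, []), (178, [2, 2, 1, 1, 1, 3, 2]), (203, [2, 3, 2, 2, 2, 1, 1, 3, 2, 2]), (154, [3, 1, 3, 1, 1, 3, 3, 3, 2, 2]), (84, [1, 2, 2, 1, 2, 2, 2, 3, 3, 3, 2]), (94, [3, 1, 2, 2, 1, 1, 2, 2, 3]), (182, [2, 3, 1, 3, 2, 1, 2, 3, 2, 2, 2, 2]), (75, [2, 2, 3, 1, 1, 3, 3, 3, 2]), (9, [1, 1, 2, 2, 1, 1, 1, 2, 3, 3, 3, 2, 2]), (170, [3, 2, 1, 1, 2, 1, 3, 3, 2]), (181, [2, 2, 3, 2, 1, 2, 3, 2, 2, 2, 2, 2]), (219, [1, 1, 3, 2, 1, 1, 1, 3, 2, 2, 2, 3]), (257, []), (50, [1, 2, 1, 2, 1, 2]), (116, [1, 3, 2, 2, 1, 1, 2, 3, 2, 2, 2, 2, 2]), (114, [2, 1, 2, 1, 1, 1, 3]), (6, [2, 3, 3, 1, 1, 2, 1, 3,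 3]), (228, [3, 1, 2, 1, 1, 2, 2, 2, 3, 3, 3, 2]), (224, [2, 2, 1, 2, 1]), (95, [1, 2, 3, 2, 1, 1, 3, 3, 3, 2]), (167, [1, 2, 1, 2, 1, 1, 3, 2, 2, 2]), (263, []), (171, [1, 3, 1, 2, 1, 1, 3, 2, 2, 2, 2, 2]), (196, [2, 1, 3, 1, 3, 1, 1, 2, 2, 3, 2]), (217, [3, 1, 1, 2, 1, 2, 1, 1, 2, 3, 3]), (266, []), (63, [3, 1, 1, 3, 1, 2, 2, 3, 3]), (248, [2, 1, 3, 2, 2, 2, 3]), (61, [3, 2, 1, 2, 2, 1, 3, 3]), (72, [3, 1, 2, 1, 1, 1, 2, 2, 2, 3, 2]), (135, [2, 2, 2, 2, 1, 3, 2, 2, 2, 3, 3]), (262, [3, 3, 1, 1, 2, 1, 3]), (269, []), (102, [3, 1, 3, 1, 1, 1, 3, 2, 2, 2, 3, 3]), (108, [3, 1, 3, 2, 2, 2, 2]), (227, [1, 3, 3, 3, 2, 1, 1, 3, 3, 3, 2]), (245, [1, 2, 3, 1, 2, 1, 3, 2, 2, 2, 2, 2]), (218, [3, 1, 1, 2, 1, 3, 3, 2, 2, 2]), (103, [1, 3, 2, 1, 1, 3, 3, 2, 2, 2, 3]), (58, [1, 1, 1, 2, 1, 1, 3, 2, 2, 2]), (165, [2, 2, 3, 3, 1, 1, 2, 3, 2]), (141,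 [1, 3, 3, 1, 2, 1, 1, 1, 2, 2, 2, 3, 3]), (69, [3, 1, 2, 2, 2, 1, 1, 3, 3, 3, 2, 2]), (226, [1, 2, 2, 3, 2, 1, 1, 3, 2, 2, 2, 3, 3]), (238, [2, 3, 1, 3, 1, 1, 1, 3, 3, 3, 2, 2, 2]), (71, [3, 3, 3, 2, 1, 2, 2]), (273, []), (274, []), (232, [1, 1, 1, 3, 1, 2, 2, 2, 2, 2, 2, 2]), (244, [1, 3, 1, 1, 1, 3, 3, 2, 2, 2]), (100, [2, 1, 3, 1, 3, 2, 2, 2, 3]), (129, [2, 2, 1, 2, 2, 2, 2, 2, 2]), (177, [2, 2, 3, 1, 3, 1, 1, 3, 3, 3]), (57, [3, 2, 2, 1, 1, 2, 3, 3, 3, 2]), (111, [2, 3, 2, 2, 1, 2, 3, 2, 2, 2]), (250, [2, 1, 3, 1, 2, 1, 1, 3, 2]), (261, [1, 1, 3, 2, 1, 1, 1, 2, 2, 2, 3, 2]), (259, [2, 1, 2, 3, 1, 2, 1, 3, 3, 3, 2, 2, 2]), (46, [1, 1, 3, 1, 3, 1, 1, 2, 2, 3, 3, 3, 2]), (210, [3, 1, 1, 1, 2, 2, 2, 2, 2]), (240, [3, 1, 2, 3, 1, 3, 3, 2]), (220, [2, 2, 3, 1, 1, 1, 2, 3, 3, 3, 2]), (195, [1, 1, 1, 2, 1, 1, 3, 3, 2]), (267, [2, 1, 3, 1,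 2, 1, 2, 2, 2, 2, 2, 2]), (258, [3, 2, 1, 2, 2, 2, 3]), (160, [1, 3, 2, 2, 2, 1]), (200, [1, 2, 2, 3, 2, 1, 3, 2, 2, 2, 2]), (80, [1, 1, 3, 2, 2, 1, 2, 3, 3, 3]), (2, [2, 2, 3, 1, 1, 1, 2, 3, 3, 3, 2]), (191, [2, 1, 1, 2, 1, 3, 2, 2, 2, 3, 3]), (5, [1, 2, 3, 1, 2, 1, 3]), (186, [1, 2, 1, 2, 1, 3, 3, 3, 2, 2, 2]), (279, []), (59, [3, 2, 1, 1, 2, 1, 2, 3, 3, 3, 2]), (67, [3, 3, 3, 2, 1, 1, 3, 2, 2]), (235, [2, 2, 1, 1, 1, 2, 3]), (92, [3, 3, 1, 2, 3, 1, 3, 3]), (65, [1, 2, 3, 3, 1, 3, 2]), (194, [1, 3, 3, 1, 2, 1, 1, 1, 3, 3, 2, 2, 2, 3]), (252, [2, 1, 2, 1, 3, 3, 3, 2, 2, 2, 2]), (118, [2, 2, 2, 1, 3, 3, 2, 2, 2, 2]), (73, [3, 1, 2, 3, 1, 2, 2, 2, 3, 3]), (32, [3, 3, 2, 2, 2]), (87, [2, 1, 2, 1, 1, 1, 2, 3, 2, 2]), (97, [2, 3, 1, 1, 3, 3, 3]), (275, [1, 3, 3, 2, 2, 1, 3, 2, 2, 2, 2]), (255, [2, 2, 1, 2, 2, 1, 2, 3, 3, 3]), (29, [1, 1,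 3, 3, 3, 1, 1, 3, 2, 2, 2]), (247, [2, 1, 3, 2, 1, 2, 3, 3, 3, 2, 2]), (77, [2, 3, 1, 2, 1, 2, 2, 2, 3, 3, 3, 2]), (256, [3, 1, 2, 3, 1, 2, 3, 2, 2]), (122, [3, 1, 3, 3, 2, 2, 2, 3]), (139, [2, 2, 2, 1, 2, 3, 3, 3, 2, 2]), (260, [1, 3, 3, 2, 1, 1, 1, 2, 3, 2, 2, 2, 2]), (150, [1, 1, 2, 2, 1, 2, 1, 2, 3, 2]), (22, [3, 2, 1, 2, 3, 1, 2, 2]), (164, [3, 2, 1, 2, 2, 3, 3, 3, 2]), (88, [1, 2, 3, 1, 2, 3, 2]), (188, [1, 1, 3, 1, 2, 1, 1, 2, 2, 2, 3]), (221, [2, 3, 3, 1, 2, 2, 3]), (120, [3, 2, 1, 1, 1, 2, 2, 2, 2]), (253, [3, 3, 1, 2, 1, 2]), (206, [1, 2, 1, 2, 2, 1, 2, 3, 3, 3]), (184, [3, 1, 3, 1, 1, 1, 2, 2, 2, 3]), (237, [1, 2, 1, 2, 1, 1, 2, 2, 2, 3, 3]), (229, [3, 2, 2, 2, 1, 1, 2, 3, 2, 2, 2, 2]), (199, [1, 1, 1, 2, 1, 2, 3, 2, 2, 2, 2]), (193, [3, 1, 2, 1, 2, 3, 3, 3]), (223, [3, 3, 1, 2, 1, 1, 3, 2]), (222, [3, 2, 1, 2, 3, 1, 2, 1,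 2, 2, 3, 3, 3, 2]), (265, [3, 3, 2, 2, 1, 2, 3, 3]), (130, [2, 1, 3, 1, 2, 1, 1, 3, 2, 2, 2, 2, 2]), (172, [3, 3, 1, 2, 2, 2, 2]), (213, [1, 2, 3, 2, 1, 1, 3, 2, 2, 2, 2]), (106, [1, 3, 1, 1, 2, 2, 2, 2, 2, 2]), (207, [2]), (123, [2, 1, 1, 1, 3, 1, 2, 3]), (198, [3, 2, 1, 2, 2]), (155, [1, 3, 2, 1, 3, 1, 3, 3, 3, 2, 2, 2]), (201, [2, 3, 1, 3, 3, 3, 2, 2, 2]), (44, [1, 1, 2, 1, 2, 2, 2, 2, 2, 2, 2]), (25, [2, 1, 3, 1, 3, 3, 3, 2, 2]), (152, [1, 2, 1, 3, 3, 2, 2, 2, 3]), (89, [3, 1, 2, 2, 2, 1, 3, 3, 3, 2, 2, 2, 2]), (51, [3, 1, 2, 1, 2]), (268, [1, 3, 3, 3, 1, 1, 3, 2, 2, 2, 3]), (276, [2, 3, 2, 1, 1, 3, 3, 3]), (254, [2, 3, 3, 3, 2, 1, 3, 3, 3, 2, 2]), (185, [1, 1, 2, 1, 2, 1, 1, 2, 2, 2, 2]), (246, [3, 3, 2, 1, 1, 2, 3]), (233, [1, 3, 1, 2, 2, 1, 1, 2, 2, 2, 2, 2, 2, 2]), (136, [3, 1, 3, 1, 1, 2, 3, 2, 2, 2, 2, 2]), (208, [2, 2, 2, 2,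 1, 3, 2, 2, 2, 2, 2]), (204, [1, 3, 2, 1, 1, 1, 2, 2, 2, 3, 3, 3, 2]), (277, [1, 2, 3, 2, 2]), (66, [2, 3, 1, 1, 2, 1, 3, 3, 3, 2]), (148, [1, 2, 2, 2, 1, 1, 2, 3, 3, 3]), (241, [2, 2, 1, 1, 3, 1, 2, 3]), (157, [2, 1, 2, 1, 2, 3, 3]), (144, [1, 3, 1, 2, 1, 1, 2, 2, 3, 3, 3, 2]), (173, [3, 1, 1, 3, 1, 3, 2]), (271, [2, 3, 2, 2, 2, 1, 1, 2, 3, 2, 2, 2]), (278, [2, 1, 1, 1, 2, 1, 3, 2, 2, 2, 2, 2]), (234, [3, 1, 3, 1, 1, 1, 3, 2, 2, 2, 3, 3]), (85, [3, 3, 1, 2, 1, 1, 1, 2, 2, 2, 2, 2, 2]), (264, [2, 3, 1, 1, 1, 2, 3, 3]), (272, [1, 2, 2, 3, 2, 1, 1, 3, 3, 3, 2, 2, 2]), (151, [2, 2, 3, 2, 1, 1, 3, 2, 2, 2, 2]), (209, [1, 2, 2, 3, 3, 1, 2, 2, 2, 2, 2, 2]), (125, [1, 1, 3, 2, 1, 2, 2, 2, 3]), (230, [2, 1, 1, 3, 1, 2, 2, 3, 2]), (270, [1, 3, 2, 2, 2, 1, 3, 2, 2, 2, 2, 2]), (47, [2, 3, 3, 1, 1, 1, 2, 3, 2, 2, 2]), (0, [3]), (4, []), (8, []),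 (12, []), (16, []), (20, []), (24, []), (19, [3, 1, 2, 2, 2, 1, 2, 2, 2]), (31, []), (34, []), (37, []), (40, []), (43, []), (46, []), (50, []), (42, [3, 1, 3, 2, 1, 1, 3, 2]), (53, []), (57, []), (61, []), (65, []), (68, []), (71, []), (26, [3, 1, 1, 3, 1, 3, 2, 2, 2, 3, 3]), (76, []), (79, []), (63, [1, 1, 3, 2, 1, 3, 1, 3, 3, 2, 2, 2, 3]), (85, []), (87, []), (88, [1, 3, 3, 1, 2, 1, 1, 2, 3, 3, 3, 2, 2, 2]), (77, [3, 3, 1, 1, 2, 2, 3, 2]), (64, [3, 1, 2, 2, 2, 1, 2, 2, 2]), (69, [1, 2, 2, 2, 2, 2, 1, 3, 2, 2, 2, 3, 3]), (100, []), (75, [3, 3, 2, 1, 2, 2, 2, 3]), (84, [2, 3, 1, 2, 2, 1, 3, 3, 3, 2]), (108, []), (110, []), (114, []), (117, []), (1, [1, 3, 3, 1, 2, 1, 2, 2, 3, 3]), (15, [1, 3, 3, 1, 2, 1, 2, 2, 3, 3]), (10, [1, 2, 1, 2, 1, 3, 2, 2, 2, 2]), (48, [2, 3, 1, 2, 1, 1, 3]), (11, [1, 1, 3, 3, 3, 1, 1, 2]), (129, []), (132, []),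 (135, []), (139, []), (3, [1, 3, 1, 2, 1]), (140, [2, 3, 3, 3, 1, 2, 2, 2, 2, 2]), (49, [2, 3, 3, 1, 1, 2, 1, 3, 3, 2, 2, 2, 3]), (58, [2, 3, 3, 3, 2, 1, 2, 2, 3, 3, 3]), (124, [3, 1, 3, 2, 1, 1, 3, 2]), (119, [3, 1, 3, 2, 1, 1, 3, 2]), (90, [1, 2, 2, 2, 1, 2, 2, 3, 3, 3]), (147, []), (150, []), (154, []), (149, [2, 1, 3, 1, 2, 1, 1, 2, 2, 2, 2, 2, 2]), (160, []), (38, [1, 2, 1, 1, 3, 1, 2, 2, 2, 2, 2, 2, 2]), (163, []), (165, []), (127, [2, 1]), (169, []), (23, [2, 1, 1, 2, 1, 1, 3]), (172, []), (175, []), (176, []), (99, [1, 2, 1, 1, 3, 1, 3]), (62, [2, 2, 3, 3, 1, 2, 3, 3, 3, 2, 2, 2]), (103, [3, 3, 3, 2, 1, 1, 1, 3, 3, 2, 2, 2, 2]), (181, []), (184, []), (185, []), (131, [1, 3, 3, 2, 1, 1, 2, 3, 2, 2, 2, 2, 2]), (116, [3, 2, 2, 1, 3, 1, 3, 3, 3, 2, 2]), (193, []), (189, []), (198, []), (201, []), (203, []), (152, [2, 1, 2, 1, 3, 2]),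 (179, [3, 2, 2, 1, 3, 1, 3, 3, 2, 2, 2, 2]), (206, []), (9, [1, 2, 1, 1, 3, 2, 2, 2, 2]), (143, [1, 1, 2, 3, 1, 3, 2, 2, 2]), (204, [1, 2, 2, 3, 2, 1, 1, 2, 2, 3, 3, 3]), (54, [3, 3, 3, 1, 2, 1, 2, 2, 3, 3, 3, 2]), (210, []), (212, []), (18, [1, 3, 3, 3, 1, 1, 1, 2, 2, 2, 3]), (178, [1, 1, 1, 3, 3, 3, 1, 1, 2, 3, 2, 2, 2]), (102, [3, 1, 3, 1, 1, 3, 3, 3, 2, 2, 2, 2]), (217, []), (220, []), (27, []), (224, []), (168, [3, 1, 2, 2, 2, 1, 2, 2, 2]), (95, [1, 2, 1, 2, 2, 1, 2, 3, 3, 3]), (145, [2, 1, 2, 3, 1, 2, 1, 2, 2, 2, 2, 2]), (232, []), (234, []), (66, [1, 3, 1, 1, 2, 3, 2, 2, 2, 2]), (187, [3, 3, 2, 1, 2, 2, 2, 3]), (158, [3, 1, 1, 1, 3, 2]), (238, [3, 2, 1, 2, 1, 3, 2, 2, 2]), (120, [3, 3, 3, 1, 2, 1, 2, 3, 2]), (155, [1, 1, 2, 1, 2, 2, 2, 3, 3, 3, 2]), (242, []), (142, [2, 2, 3, 1, 1, 3, 3, 2, 2, 2, 3]), (125, [1, 3, 3, 3, 1, 1, 1,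 3, 3, 2, 2]), (123, [3, 3, 2, 1, 1, 1, 3, 2, 2, 2, 3]), (243, []), (118, [2, 2, 2, 1, 2, 2, 2, 3, 3]), (164, [1, 2, 2, 2, 3, 3, 3]), (188, [3, 1, 1, 2, 1, 2, 1, 1, 3, 3, 2, 2, 2, 2]), (162, [2, 2, 3, 3, 1, 1, 3, 2, 2, 2, 3]), (121, [2, 3, 2, 1, 3, 2, 2]), (52, [1, 2, 2, 1, 1, 1, 3, 3, 2, 2]), (245, []), (112, [1, 2, 2, 3, 1, 2, 3, 3, 3]), (202, [3, 1, 2, 2, 1, 3, 3, 3]), (41, [1, 3, 1, 1, 2, 3]), (39, []), (248, [2, 1, 1, 1, 2, 1, 3, 2, 2, 2, 3, 3]), (105, [2, 3, 1, 1, 3, 2, 2]), (106, [2, 2, 3, 1, 3, 2, 2]), (215, [3, 3, 3, 2, 2, 1, 2, 2, 3, 3, 3, 2]), (223, [1, 2, 2, 2, 2, 2, 1, 2, 2, 3, 2]), (253, []), (151, [1, 2, 1, 3, 2, 2, 2, 2]), (157, [1, 3, 2, 1, 1, 3, 3, 2, 2]), (98, [2, 1, 1, 1, 2, 1, 3, 2, 2, 2, 3, 3]), (94, [3, 1, 2, 2, 1, 1, 2, 2, 3]), (256, []), (82, [3, 3, 1, 2, 1, 1, 1, 2, 3, 2, 2]), (136, [1, 2, 3, 1, 3, 2, 2]), (199,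 [3, 1, 3, 2, 1, 1, 2, 2, 2, 3, 2]), (73, [2, 2, 3, 3, 1, 2, 3, 2, 2, 2, 2]), (14, [3, 3, 2, 1, 1, 1, 2, 2, 2, 2, 2]), (146, [3, 2, 2, 1, 3, 1, 2, 2, 3, 2]), (109, [1, 2, 1, 1, 3, 1, 2, 2, 2, 3, 3]), (260, []), (171, [2, 1, 1, 2, 3, 1, 3, 2]), (209, [1, 3, 3, 1, 2, 1, 1, 3, 2]), (89, [3, 3, 1, 1, 1, 2, 3, 2, 2, 2, 2, 2]), (262, []), (263, [2, 2, 2, 1, 2, 2, 1, 2, 2, 2, 3, 3, 3, 2]), (264, []), (130, [1, 1, 3, 2, 1, 2, 3, 2]), (265, []), (56, [1, 2, 2, 3, 3, 1, 2, 3, 2, 2, 2, 2]), (196, [2, 1, 3, 1, 3, 1, 1, 2, 2, 3, 2]), (267, []), (227, [1, 3, 1, 2, 1, 1, 2, 3, 2, 2, 2]), (170, [3, 2, 1, 2, 3, 1, 2, 1, 2, 2, 3]), (268, [1, 2, 1, 1, 2, 1, 2, 2, 2, 3]), (167, [2, 1, 1, 2, 1, 1, 1, 3, 3, 2, 2]), (270, []), (216, [1, 1, 2, 2, 1, 2, 1, 2, 2, 2, 3, 3, 3, 2]), (107, [2, 2, 1, 3, 1, 1, 2, 3, 2, 2, 2]), (91, [2, 2, 2, 2, 1, 2, 2, 3, 3]), (60,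 [1, 1, 3, 2, 1, 1, 1, 3]), (44, [3, 1, 3, 3, 2, 2, 1, 2, 2, 2, 2, 2, 2, 2]), (21, [1, 1, 1, 2, 1, 1, 3, 3, 3, 2, 2, 2]), (266, [2, 1, 3, 3, 2, 1, 1, 1, 3, 2, 2, 2, 2]), (239, [2, 3, 2, 1, 3, 2, 2, 2, 2]), (86, [1, 1, 3, 2, 2, 1, 2, 2, 2, 3, 2]), (6, [2, 1, 1, 2, 1, 1, 3]), (272, []), (226, [2, 1, 1, 2, 1, 1, 3, 3, 3]), (70, [3, 3, 3, 2, 1, 2, 3, 2, 2, 2, 2]), (258, [3, 2, 1, 1, 3, 1, 2, 2, 3, 2]), (13, [2, 2, 1, 3, 2, 1, 2, 2, 2, 3, 2]), (134, [2, 2, 1, 3, 2, 1, 2, 2, 2, 3, 2]), (141, [1, 3, 3, 1, 2, 1, 1, 1, 2, 2, 2, 3, 3]), (211, [1, 2, 2, 1, 3, 2, 2, 2, 3]), (122, [2, 3, 1, 3, 1, 1, 3]), (275, [2, 3, 3, 3, 1, 3, 3, 3, 2, 2]), (276, []), (273, [2, 1, 2, 2, 1, 1, 1, 2, 2, 2, 3]), (30, [2, 2, 1, 1, 1, 2, 3, 3, 3, 2]), (47, [1, 1, 2, 1, 1, 1, 3, 3, 3]), (257, [1, 1, 2, 1, 1, 1, 3, 3, 3]), (271, [1, 3, 2, 1, 1, 1, 2, 2, 3, 3]), (2, [2,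 3, 1, 1, 3, 2, 2, 2, 2]), (229, [2, 1, 1, 1, 3, 1, 2, 2]), (250, [3, 3, 1, 2, 3, 1, 3, 2, 2, 2]), (244, [1, 1, 3, 1, 2, 1, 1, 3, 3, 3, 2]), (228, [2, 3, 2, 1, 2, 1, 2, 3, 2, 2]), (251, [1, 1, 3, 2, 2, 1, 2, 2, 3]), (214, [3, 2, 1, 2, 2, 2, 3]), (278, []), (236, [2, 3, 1, 3, 1, 1, 2, 2, 2, 3, 3, 3, 2]), (133, [3, 1, 2, 2, 1, 3, 3, 3, 2]), (190, [1, 3, 1, 3, 1, 2, 2]), (195, [1, 1, 1, 2, 1, 1, 3, 3, 2]), (182, [1, 1, 2, 3, 3, 3, 2, 2]), (208, [1, 3, 1, 2, 1, 2, 3, 3]), (29, [3, 2, 1, 2, 2, 1, 2, 3, 2, 2, 2]), (33, [2, 1, 2, 3, 3, 1, 2, 3, 2, 2, 2, 2, 2]), (128, [3, 3, 2, 1, 2, 1, 2, 2, 3, 3, 3, 2]), (247, [2, 1, 3, 1, 2, 3, 3]), (78, [2, 1, 1, 1, 2, 1, 2, 3, 2, 2, 2, 2]), (240, [3, 2, 1, 2, 3, 1, 2, 2, 2, 3, 3, 3, 2]), (237, [2, 3, 3, 1, 1, 1, 2, 3, 3]), (36, [2, 2, 2, 1, 2, 2, 1, 3, 2]), (261, [3, 1, 2, 3, 1, 3, 3, 3]), (97, [2, 1, 3,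 1, 2, 1, 2, 2, 3, 3, 3, 2]), (5, [3, 3, 1, 2, 3, 1, 3, 3, 3]), (32, [1, 2, 3, 3, 3, 1, 2, 3]), (83, [3, 1, 2, 2, 2, 1, 3, 3, 3, 2, 2]), (222, [2, 2, 1, 1, 3, 3, 3]), (269, [3, 1, 1, 2, 1, 3, 2, 2, 2]), (235, [1, 1, 2, 1, 2, 2, 1, 3, 3, 2, 2, 2, 2]), (159, [1, 3, 2, 1, 1, 2, 2, 3]), (252, [3, 3, 2, 1, 2, 1, 3, 3, 2]), (92, [3, 1, 1, 3, 1, 2, 2, 3]), (277, [1, 1, 2, 3, 1, 3, 2, 2]), (186, [2, 3, 3, 1, 1, 3, 3, 2, 2, 2, 3]), (180, [2, 3, 2, 1, 3, 1, 3, 3]), (67, [2, 2, 1, 3, 1, 1, 3, 3, 2, 2]), (81, [2, 2, 2, 1, 2, 2, 1, 3, 3]), (177, [2, 3, 1, 3, 1, 1, 1, 2, 2, 2, 3, 3, 3, 2]), (96, []), (111, [3, 3, 1, 1, 1, 2, 2, 2, 3, 3, 3]), (161, [3, 2, 1, 2, 3, 1, 2, 1, 3, 3, 3, 2, 2]), (156, [3, 3, 3, 1, 3, 3, 3, 2, 2, 2, 2]), (274, [1, 3, 1, 2, 1, 1, 2, 2, 3, 2]), (183, [1, 3, 3, 2, 1, 1, 1, 3, 3, 3, 2, 2]), (174, [1, 3, 3, 1, 2, 1, 1, 3, 2, 2]),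 (45, [2, 2, 2, 1, 2, 2, 1, 3, 3, 3, 2, 2, 2]), (219, [3, 3, 2, 2, 1, 3, 1, 2, 2, 2, 3, 2]), (59, [3, 2, 1, 3, 2, 1, 3, 2, 2, 2, 3, 3]), (218, [1, 1, 2, 3, 1, 3, 2, 2, 2]), (101, []), (22, [1, 1, 1, 3, 2, 1, 1, 3, 3]), (72, [2, 2, 1, 3, 3, 2, 2, 2, 3]), (55, [2, 3, 1, 2, 1, 3, 3, 3, 2]), (231, [1, 3, 3, 1, 2, 1, 1, 3, 2, 2, 2, 2]), (221, [1, 1, 2, 2, 1, 1, 1, 2, 3, 3, 3, 2]), (113, [2, 2, 2, 1, 2, 2, 1, 3, 2, 2]), (207, [2]), (225, [3, 3, 2, 1, 1, 2, 2, 2, 2, 2, 2]), (35, [3, 3, 1, 1, 2, 3, 3, 3, 2, 2, 2]), (104, [1, 1, 1, 2, 1, 2, 2, 3, 3, 3]), (115, [3, 3, 1, 1, 2, 1, 3, 2, 2, 2]), (191, [2, 2, 2, 2, 1, 2, 3, 2, 2]), (153, [2, 1, 3, 1, 2, 1, 3, 3, 3]), (7, [1, 2, 2, 2, 2, 2, 1, 2, 3, 2, 2, 2, 2]), (144, [2, 2, 3, 3, 1, 1, 2, 2, 2, 2, 2]), (213, [1, 3, 1, 3, 1, 3, 3, 3, 2, 2, 2, 2]), (137, [2, 1, 3, 1, 3, 1, 1, 3, 2, 2, 2, 3]), (254,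 [2, 2, 2, 1, 2, 2, 1, 2, 3, 2, 2, 2, 2]), (80, [2, 2, 2, 1, 2, 2, 1, 3, 3, 3, 2, 2]), (205, [1, 2, 3, 1, 3, 3]), (279, [3, 1, 3, 2, 1, 1, 2, 2, 2, 3, 2]), (166, [3, 3, 3, 2, 1, 1, 1, 3, 3, 2, 2, 2]), (138, [3, 2, 1, 1, 3, 1, 3, 3]), (197, [2, 3, 3, 1, 1, 2, 1, 3, 3]), (233, [2, 3, 1, 2, 2, 2, 2, 2, 2]), (126, [1, 2, 1, 1, 1, 2]), (148, [1, 3, 3, 2, 2, 1, 3, 3, 2, 2, 2, 3]), (17, [2, 1, 2, 3, 1, 3, 2, 2]), (255, [3, 3, 1, 2, 3, 1, 2, 2, 2, 2]), (241, [2, 1, 3, 2, 2, 1, 1, 2, 2, 2, 2, 2, 2, 2]), (51, [2, 1, 3, 2, 2, 1, 1, 2, 2, 3]), (194, [2, 3, 3, 3, 1, 1, 1, 2, 2, 2, 3]), (200, [1, 1, 1, 3, 2, 1, 1, 3, 3, 2, 2]), (93, [1, 1, 2, 2, 1, 2, 1, 2, 2, 2, 3, 3, 3, 2]), (246, [3, 1, 3, 2, 1, 1, 3, 2]), (249, [1, 2, 1, 2, 1, 2, 3, 3, 3]), (25, [3, 1, 3, 3, 3, 1, 1, 2, 3, 3, 3, 2, 2]), (74, [2, 3, 3, 3, 1, 3, 3, 3]), (28, [1, 2, 3, 2, 1, 2, 1,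 3, 2, 2, 2]), (173, [2, 1, 2, 2, 1, 1, 1, 2, 2, 2, 3]), (259, [3, 1, 2, 2, 2, 1, 1, 3, 3, 3, 2, 2, 2, 2]), (192, [3, 2, 2, 2, 2, 2]), (230, [2, 2, 1, 3, 3, 3])]⟩

/-- Level 1. -/
def lev1 : StabCert.Lev :=
  ⟨116, [1, 2, 3],
   [[], [1], [1, 1], [2, 1], [3, 1], [1, 1, 1], [2, 1, 1], [3, 1, 1], [1, 2, 1], [2, 2, 1], [3, 2, 1], [1, 3, 1], [2, 3, 1], [3, 3, 1], [2, 1, 1, 1], [3, 1, 1, 1], [1, 2, 1, 1], [2, 2, 1, 1], [3, 2, 1, 1], [1, 3, 1, 1], [2, 3, 1, 1], [3, 3, 1, 1], [1, 1, 2, 1], [2, 1, 2, 1], [3, 1, 2, 1], [1, 2, 2, 1], [2, 2, 2, 1], [3, 2, 2, 1], [1, 3, 2, 1], [2, 3, 2, 1], [3, 3, 2, 1], [1, 1, 3, 1], [2, 1, 3, 1], [3, 1, 3, 1], [1, 2, 3, 1], [2, 2, 3, 1], [2, 3, 3, 1], [3, 3, 3, 1], [1, 2, 1, 1, 1], [2, 2, 1, 1, 1], [3, 2, 1, 1, 1], [1, 3, 1, 1, 1], [2, 3, 1, 1, 1], [3, 3, 1, 1, 1], [1, 1, 2, 1, 1], [2, 1, 2, 1, 1], [3, 1, 2, 1,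 1], [1, 2, 2, 1, 1], [2, 2, 2, 1, 1], [3, 2, 2, 1, 1], [1, 3, 2, 1, 1], [2, 3, 2, 1, 1], [3, 3, 2, 1, 1], [1, 1, 3, 1, 1], [2, 1, 3, 1, 1], [3, 1, 3, 1, 1], [2, 2, 3, 1, 1], [2, 3, 3, 1, 1], [3, 3, 3, 1, 1], [1, 1, 1, 2, 1], [2, 1, 1, 2, 1], [3, 1, 1, 2, 1], [1, 2, 1, 2, 1], [2, 2, 1, 2, 1], [3, 2, 1, 2, 1], [1, 3, 1, 2, 1], [2, 3, 1, 2, 1], [3, 3, 1, 2, 1], [1, 1, 2, 2, 1], [2, 1, 2, 2, 1], [3, 1, 2, 2, 1], [1, 2, 2, 2, 1], [2, 2, 2, 2, 1], [3, 2, 2, 2, 1], [1, 3, 2, 2, 1], [2, 3, 2, 2, 1], [3, 3, 2, 2, 1], [1, 1, 3, 2, 1], [2, 1, 3, 2, 1], [3, 1, 3, 2, 1], [2, 2, 3, 2, 1], [3, 3, 3, 2, 1], [1, 1, 1, 3, 1], [2, 1, 1, 3, 1], [3, 1, 1, 3, 1], [1, 2, 1, 3, 1], [2, 2, 1, 3, 1], [3, 2, 1, 3, 1], [1, 3, 1, 3, 1], [2, 3, 1, 3, 1], [1, 1, 2, 3, 1], [2, 1, 2, 3, 1], [3, 1, 2, 3, 1], [1, 2, 2, 3, 1], [1, 2, 3, 3, 1], [2, 2, 3, 3, 1], [2, 3, 3,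 3, 1], [1, 1, 2, 1, 1, 1], [2, 1, 2, 1, 1, 1], [3, 1, 2, 1, 1, 1], [1, 2, 2, 1, 1, 1], [3, 2, 2, 1, 1, 1], [1, 3, 2, 1, 1, 1], [3, 3, 2, 1, 1, 1], [2, 1, 3, 1, 1, 1], [3, 1, 3, 1, 1, 1], [1, 2, 3, 1, 1, 1], [2, 2, 3, 1, 1, 1], [2, 3, 3, 1, 1, 1], [3, 3, 3, 1, 1, 1], [1, 1, 1, 2, 1, 1], [2, 1, 1, 2, 1, 1], [1, 2, 1, 2, 1, 1], [2, 2, 1, 2, 1, 1], [1, 3, 1, 2, 1, 1], [2, 3, 1, 2, 1, 1], [3, 3, 1, 2, 1, 1], [1, 1, 2, 2, 1, 1], [2, 1, 2, 2, 1, 1], [3, 1, 2, 2, 1, 1], [1, 2, 2, 2, 1, 1], [3, 2, 2, 2, 1, 1], [1, 3, 2, 2, 1, 1], [2, 3, 2, 2, 1, 1], [1, 1, 3, 2, 1, 1], [3, 1, 3, 2, 1, 1], [1, 2, 3, 2, 1, 1], [2, 2, 3, 2, 1, 1], [1, 3, 3, 2, 1, 1], [3, 3, 3, 2, 1, 1], [3, 1, 1, 3, 1, 1], [1, 2, 1, 3, 1, 1], [2, 2, 1, 3, 1, 1], [1, 3, 1, 3, 1, 1], [2, 3, 1, 3, 1, 1], [2, 2, 3, 3, 1, 1], [1, 3, 3, 3, 1, 1], [2, 1, 1, 1, 2, 1], [1, 2, 1, 1, 2, 1],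 [2, 2, 1, 1, 2, 1], [3, 2, 1, 1, 2, 1], [2, 3, 1, 1, 2, 1], [3, 3, 1, 1, 2, 1], [1, 1, 2, 1, 2, 1], [1, 2, 2, 1, 2, 1], [2, 3, 2, 1, 2, 1], [3, 3, 2, 1, 2, 1], [2, 1, 3, 1, 2, 1], [1, 2, 3, 1, 2, 1], [1, 3, 3, 1, 2, 1], [2, 3, 3, 1, 2, 1], [3, 3, 3, 1, 2, 1], [1, 2, 1, 2, 2, 1], [2, 2, 1, 2, 2, 1], [3, 2, 1, 2, 2, 1], [2, 3, 1, 2, 2, 1], [3, 1, 2, 2, 2, 1], [2, 2, 2, 2, 2, 1], [1, 3, 2, 2, 2, 1], [1, 1, 3, 2, 2, 1], [1, 3, 3, 2, 2, 1], [3, 3, 3, 2, 2, 1], [1, 1, 1, 3, 2, 1], [2, 2, 1, 3, 2, 1], [3, 2, 1, 3, 2, 1], [2, 3, 1, 3, 2, 1], [1, 2, 2, 3, 2, 1], [2, 3, 3, 3, 2, 1], [2, 1, 1, 1, 3, 1], [1, 2, 1, 1, 3, 1], [2, 2, 1, 1, 3, 1], [3, 2, 1, 1, 3, 1], [2, 3, 1, 1, 3, 1], [3, 3, 1, 1, 3, 1], [3, 2, 2, 1, 3, 1], [1, 3, 2, 1, 3, 1], [2, 3, 2, 1, 3, 1], [1, 1, 3, 1, 3, 1], [1, 2, 3, 1, 3, 1], [2, 1, 1, 2, 3, 1], [3, 1, 1, 2, 3, 1], [3, 2,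 1, 2, 3, 1], [3, 3, 1, 2, 3, 1], [2, 1, 2, 3, 3, 1], [3, 1, 2, 3, 3, 1], [1, 2, 2, 3, 3, 1], [1, 2, 3, 3, 3, 1], [2, 1, 1, 2, 1, 1, 1], [3, 3, 1, 2, 1, 1, 1], [1, 1, 2, 2, 1, 1, 1], [2, 1, 2, 2, 1, 1, 1], [1, 1, 3, 2, 1, 1, 1], [1, 3, 3, 2, 1, 1, 1], [3, 3, 3, 2, 1, 1, 1], [2, 3, 1, 3, 1, 1, 1], [2, 2, 3, 3, 1, 1, 1], [1, 3, 3, 3, 1, 1, 1], [2, 3, 3, 3, 1, 1, 1], [2, 2, 1, 1, 2, 1, 1], [1, 1, 2, 1, 2, 1, 1], [1, 1, 3, 1, 2, 1, 1], [2, 1, 3, 1, 2, 1, 1], [1, 2, 3, 1, 2, 1, 1], [1, 3, 3, 1, 2, 1, 1], [1, 1, 1, 2, 2, 1, 1], [1, 3, 1, 2, 2, 1, 1], [1, 1, 2, 2, 2, 1, 1], [3, 1, 2, 2, 2, 1, 1], [2, 3, 2, 2, 2, 1, 1], [2, 1, 3, 2, 2, 1, 1], [1, 2, 3, 2, 2, 1, 1], [1, 1, 1, 3, 2, 1, 1], [1, 2, 2, 3, 2, 1, 1], [1, 3, 3, 3, 2, 1, 1], [3, 3, 1, 1, 3, 1, 1], [1, 2, 2, 1, 3, 1, 1], [1, 1, 3, 1, 3, 1, 1], [2, 1, 3, 1, 3, 1, 1], [2, 2, 3, 1, 3, 1, 1],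 [1, 1, 3, 3, 3, 1, 1], [3, 1, 3, 3, 3, 1, 1], [3, 3, 2, 1, 1, 2, 1], [2, 3, 3, 1, 1, 2, 1], [1, 1, 2, 2, 1, 2, 1], [1, 2, 3, 2, 1, 2, 1], [2, 1, 2, 3, 1, 2, 1], [3, 1, 2, 3, 1, 2, 1], [1, 1, 2, 1, 2, 2, 1], [2, 2, 2, 1, 2, 2, 1], [3, 3, 2, 1, 2, 2, 1], [1, 2, 2, 2, 2, 2, 1], [2, 2, 2, 2, 2, 2, 1], [3, 1, 3, 3, 2, 2, 1], [1, 2, 3, 3, 3, 2, 1], [3, 3, 2, 2, 1, 3, 1], [1, 1, 3, 2, 1, 3, 1], [1, 3, 3, 1, 2, 1, 1, 1], [3, 1, 1, 3, 2, 1, 1, 1], [2, 1, 3, 3, 2, 1, 1, 1], [2, 1, 3, 3, 3, 1, 1, 1], [3, 1, 1, 2, 1, 2, 1, 1], [1, 1, 1, 3, 3, 3, 1, 1], [3, 2, 1, 2, 3, 1, 2, 1]],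
   [(1, []), (2, []), (5, []), (8, []), (11, []), (0, []), (16, []), (19, []), (22, []), (25, []), (28, []), (31, []), (34, []), (23, [2, 2, 2, 3]), (38, []), (41, []), (44, []), (47, []), (50, []), (53, []), (24, [2, 2, 2]), (43, [2, 2, 2, 2]), (59, []), (62, []), (65, []), (68, []), (71, []), (74, []), (77, []), (33, [3, 3, 2, 2, 2]), (12, [3, 3, 3, 2, 2, 2]), (82, []), (85, []), (88, []), (90, []), (93, []), (94, []), (51, [2, 2, 3, 2]), (97, []), (100, []), (102, []), (26, [2, 2, 3, 2]), (106, []), (49, [3, 3, 3, 2, 2]), (110, []), (112, []), (114, []), (117, []), (120, []), (122, []), (124, []), (126, []), (128, []), (78, [3, 2, 2, 2, 2]), (131, []), (133, []), (72, [2, 2, 3]), (45, [3, 3, 3]), (136, []), (3, []), (138, []), (56, [2, 3, 2]), (143, []), (144, []), (130, [3, 2, 2, 2]), (113, [3, 3, 3, 2]), (148, []), (149, []), (121,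 [2, 3, 2, 2]), (152, []), (132, [3, 3, 2, 2, 2, 2]), (15, [2, 3, 2, 2, 2, 2]), (146, [2, 3, 3, 3, 2, 2]), (158, []), (159, []), (40, [3]), (160, []), (162, []), (7, [3, 3, 3]), (98, [3, 2, 2, 2, 2, 2]), (166, []), (145, [2, 3, 3, 3]), (4, []), (169, []), (157, [3, 3, 3, 2, 2, 2]), (32, [2, 2, 2, 2]), (67, [2, 3, 3, 3, 2]), (175, []), (177, []), (178, []), (30, [2, 3]), (105, [2, 2, 2, 3, 3, 3]), (134, [2, 2, 2, 3, 3, 3]), (101, [3, 3, 2, 2, 2, 2]), (92, [3]), (185, []), (186, []), (171, [2, 2, 3]), (42, [3, 3, 2, 2, 2, 2]), (165, [3, 2, 2, 2, 2]), (189, []), (161, [3, 3, 3, 2, 2]), (191, []), (192, []), (147, [3, 3, 3, 2, 2]), (153, [3, 3, 3, 2, 2]), (79, [2, 2, 2, 3]), (27, [2, 2, 3]), (168, [2, 2, 2, 3, 3]), (196, []), (6, []), (89, [2, 3, 3, 3, 2, 2]), (199, []), (20, [3]), (200, []), (202, []), (203, []), (204, []), (123, [3, 3, 2,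 2, 2]), (205, []), (206, []), (9, [3, 2, 2, 2, 2, 2]), (21, [3, 3, 3, 2, 2]), (210, []), (211, []), (109, [2, 2, 2, 2, 2, 2, 2]), (182, [3, 3, 3, 2, 2]), (212, []), (64, [2, 2, 2, 2]), (213, []), (52, [3, 3, 2, 2, 2, 3]), (116, [2, 2, 2, 3, 3, 3, 2]), (215, []), (216, []), (36, [2]), (119, [3]), (219, []), (55, [3, 2, 2, 2, 2, 2]), (194, [2, 3, 2, 2]), (139, [3, 3, 2, 2, 2]), (142, [3, 2, 2, 2, 3]), (69, [2, 2, 2, 2, 2, 2]), (104, [2]), (13, [3, 3, 3, 2]), (223, []), (224, []), (61, [2, 3, 2, 2, 2, 2]), (140, [3, 3, 2]), (96, [2, 3]), (220, [2, 2, 2, 3, 3, 3]), (60, [3, 2, 2, 2, 2, 2]), (172, [2, 2, 2, 3, 3]), (227, []), (218, [2, 2, 2, 2, 2, 2]), (87, [2, 3, 3, 3]), (198, [2, 2, 3, 2]), (46, [3, 2, 2, 2, 2, 2]), (230, []), (228, [2, 2, 3, 3, 3, 2]), (107, [3, 3, 3, 2, 2]), (222, [3, 3, 2, 2]), (35, [3, 2, 2]), (10, []), (151, [2, 2,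 2, 2, 2, 2, 2]), (73, [3, 3, 3, 2]), (232, [3, 2]), (108, [2, 2, 2, 2, 2, 2, 2]), (233, []), (80, [3, 3]), (187, [3, 2, 2, 2, 3, 3]), (127, [2, 2, 2, 2, 2, 2, 2]), (14, [3, 3, 3, 2, 2]), (193, [2, 2, 2, 2]), (115, [2, 2, 3, 3, 3]), (135, [2, 2, 3]), (235, []), (95, [3, 3, 3, 2, 2, 2]), (29, [2, 3, 3]), (231, [3, 2]), (70, [2, 2, 2, 2]), (183, [2, 2, 2, 3, 2]), (173, [2, 2, 2, 3, 2]), (37, [2, 2, 2, 2, 2, 2, 2]), (197, [3, 3]), (83, [3, 2, 2, 2, 3, 3]), (221, [2, 2, 2, 2]), (66, [3, 3, 3, 2, 2, 2]), (184, [3, 3, 3, 2]), (236, []), (225, [2, 2, 2, 3, 3]), (155, [3, 3, 2, 2, 2, 3]), (75, [3, 3, 3, 2, 2, 2, 2]), (214, [2, 3, 2]), (163, [3, 3, 2, 2, 2, 2]), (150, []), (48, [2, 2, 2, 2, 2, 2, 2]), (208, [2, 3, 3, 3, 2]), (207, [2, 3, 2, 2, 2]), (201, [2, 2, 3]), (57, [3, 2, 2, 2, 2]), (156, [2, 3, 2, 2]), (190, [3, 2, 2]), (181, [3, 2, 2, 2,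 2, 2]), (54, [2, 3, 3, 3, 2, 2, 2]), (17, []), (174, [2, 2, 2, 2, 2, 2]), (195, [2]), (180, [2, 2]), (125, [3, 2, 2, 2]), (76, [2, 2, 2, 2, 2, 2, 2]), (238, [3, 3, 3, 2, 2, 2]), (18, []), (239, [2, 3, 2, 2, 2, 2]), (240, [2, 2, 2, 3, 3, 3]), (217, [2, 3, 3]), (179, [3, 3, 2, 2, 2, 2]), (137, [2, 3, 2, 2]), (103, [2, 2, 2, 3]), (91, [2, 2, 2, 3, 2]), (241, []), (86, [2, 2, 3]), (176, [2, 3, 2, 2, 2, 2]), (209, [2, 2, 2, 3, 3]), (229, [2, 2, 3]), (226, [2, 2, 3]), (39, [3, 3, 2]), (81, [2, 3, 2]), (141, [2, 2]), (164, [2, 2, 3, 2]), (63, [3, 3, 3, 2, 2]), (234, [3, 2, 2, 2, 3]), (111, [3, 3, 2, 2, 2, 2]), (237, [2, 2, 3, 2]), (188, [2, 2, 3, 3, 3]), (84, [2, 2, 3, 3, 3]), (154, [3, 2, 2, 2]), (167, [3, 2, 2]), (99, [2, 2, 2, 2, 2, 2, 2]), (118, [3, 3, 3]), (170, [2, 2, 2, 3, 2]), (242, [3]), (58, []), (129, [2, 3, 3, 3, 2, 2, 2]), (0, [2]),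 (3, []), (6, []), (9, []), (12, []), (14, []), (17, []), (20, []), (23, []), (26, []), (29, []), (32, []), (35, []), (36, []), (39, []), (42, []), (45, []), (48, []), (51, []), (54, []), (56, []), (57, []), (60, []), (63, []), (66, []), (69, []), (72, []), (75, []), (78, []), (80, []), (13, []), (83, []), (86, []), (89, []), (91, []), (55, [3, 2, 2, 2, 3, 3]), (95, []), (96, []), (98, []), (77, [3, 3, 2, 2, 2]), (90, [2, 3, 3, 3, 2, 2, 2]), (104, []), (107, []), (108, []), (111, []), (113, []), (115, []), (118, []), (85, [2, 3, 3, 3, 2, 2, 2]), (123, []), (15, [3, 3, 2, 2]), (127, []), (21, []), (120, [2, 2, 3, 3, 3, 2]), (132, []), (134, []), (128, [2, 2, 3, 3, 3, 2]), (135, []), (99, [2, 2]), (137, []), (139, []), (141, []), (74, [3, 2, 2]), (7, [2, 3, 3]), (145, []), (147, []), (68, [2, 3, 2, 2, 2, 2, 2]), (150, []), (18, [3, 3, 3,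 2]), (153, []), (155, []), (87, [3, 3, 3, 2, 2]), (157, []), (144, [2, 3, 2, 2, 2, 2]), (62, [3, 3, 3, 2, 2, 2, 2]), (37, []), (30, []), (122, [3, 2, 2, 2, 3, 3]), (163, []), (165, []), (19, [3, 2, 2, 2, 3, 3]), (167, []), (168, []), (170, []), (172, []), (166, [2, 2, 2, 3, 3, 3]), (76, [2, 3, 2]), (176, []), (52, [3]), (73, [2, 3, 2]), (179, []), (152, [3, 3, 2, 2, 2, 2]), (119, [3, 3]), (71, [2, 2, 2, 3, 3]), (183, []), (11, [2, 3, 2, 2, 2, 2, 2]), (93, [3, 3, 3, 2, 2]), (187, []), (151, [3, 3, 2]), (146, [3, 3, 2]), (190, []), (180, [2, 3, 3, 3, 2, 2, 2]), (175, [2, 3, 2, 2, 2]), (43, []), (133, [3, 2, 2]), (194, []), (61, [3, 3, 2, 2]), (136, [2]), (195, []), (197, []), (103, [2, 2, 2]), (198, []), (143, [2]), (182, [3]), (201, []), (181, [3]), (34, [3]), (88, [3, 2, 2, 2, 2, 2]), (92, [2, 3, 3, 3, 2, 2]), (116, [2, 3, 3, 3, 2, 2,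 2]), (154, [3, 2, 2]), (208, []), (209, []), (58, []), (4, [2, 3, 3, 3, 2]), (162, [2, 3, 3]), (31, [3, 2, 2]), (188, [2, 2]), (169, [3]), (38, [2, 2]), (25, [2]), (191, [2, 2, 2, 2, 2, 2]), (174, [3, 3, 2, 2, 2]), (217, []), (218, []), (112, [3, 3, 3, 2, 2]), (22, [3, 3, 3]), (44, [3, 2]), (114, [2, 3, 2, 2, 2]), (50, [2, 3, 2, 2]), (205, [3, 3, 3, 2, 2, 2]), (110, [3]), (222, []), (117, [2, 3, 3, 3, 2, 2, 2]), (81, [2, 2, 3, 2]), (2, [2, 3, 3]), (67, []), (220, [2, 3]), (225, []), (130, [3, 2, 2]), (224, [2, 3, 3, 3, 2, 2]), (97, [2, 2, 2, 3, 3, 3, 2]), (47, [3, 3, 2, 2, 2, 3]), (228, []), (203, [3, 3, 3, 2, 2, 2]), (229, [2, 2, 2, 3]), (33, [3, 3, 3, 2, 2]), (231, []), (219, [2, 2, 2, 2]), (221, [3, 2, 2, 2, 3, 3]), (177, [2, 2, 2, 2, 2, 2, 2]), (124, [3, 2, 2, 2, 3]), (65, [3, 3, 3, 2]), (184, [2, 2, 2, 3, 2]), (213, [2, 2]), (216,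 [2, 2, 2, 3]), (64, [3, 3, 2, 2, 2, 3]), (223, [3, 3, 2, 2, 2, 2]), (160, [3, 3, 3]), (8, [2, 2, 2, 2]), (84, [3, 2, 2, 2, 2, 2]), (126, [2, 2, 2]), (212, [2, 3, 2, 2]), (105, [2, 2, 2]), (186, [2, 2, 2, 3, 2]), (140, [3, 3, 3, 2, 2, 2, 2]), (27, [2, 3, 2]), (210, [2, 3]), (24, [3, 3, 2]), (102, [3, 3, 3, 2, 2, 2, 2]), (109, [2, 2, 2, 3, 3, 3, 2]), (16, [2, 2, 2, 2, 2]), (215, [3, 3, 2, 2, 2, 3]), (28, [2, 2, 2, 2, 2, 2, 2]), (164, [2, 2, 3]), (227, [3, 3]), (10, [2, 2, 2, 2, 2, 2]), (121, [2, 2, 3, 3, 3, 2]), (178, []), (138, [2, 3, 2, 2, 2, 2]), (193, [2, 3, 3, 3, 2, 2, 2]), (189, [2]), (238, []), (125, [2, 2, 3, 3]), (211, [2, 2, 2, 2, 2, 2, 2]), (106, [3, 3, 3, 2, 2, 2]), (239, []), (159, [2, 2, 2, 2]), (79, [2, 2, 2, 3, 3, 3, 2]), (233, [2, 3, 3, 3, 2, 2, 2]), (204, [2, 2, 3, 3, 3]), (199, [3]), (40, [3, 3, 2, 2, 2]), (207, [2, 2,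 2]), (5, [2, 3, 3, 3, 2]), (202, [3, 2, 2, 2, 3]), (149, [3, 3, 3, 2, 2, 2]), (70, [3, 2, 2]), (129, []), (200, [3, 3, 2]), (237, [2, 3, 3, 3]), (41, [3, 2, 2, 2, 2]), (171, [2, 3, 2, 2]), (94, [3, 2, 2, 2, 3]), (206, [3, 2, 2]), (46, [2, 2, 3]), (59, [3, 3, 2]), (173, []), (161, [2, 3, 3, 3, 2, 2]), (230, [2, 2, 2, 2, 2]), (100, [2, 2, 2, 3, 3, 3]), (142, []), (101, [2, 2, 2, 3]), (156, [2, 3]), (49, [2, 3, 2]), (236, [3, 3, 3, 2, 2, 2]), (192, [2, 3, 3]), (241, [2, 2]), (214, [2, 2, 3]), (53, [2, 2, 3]), (148, [2, 2, 3, 2]), (234, [2, 3, 2, 2, 2, 2, 2]), (82, [2, 2, 2, 3, 3, 3, 2]), (131, [2, 3, 3, 3, 2, 2]), (1, [2, 3, 2]), (242, [2, 2]), (235, [2, 2, 3, 2]), (240, [2, 2, 2, 3, 3, 3, 2]), (185, [3, 2, 2, 2, 3]), (226, [3, 3]), (232, [3, 3]), (196, [3, 2]), (158, [2]), (0, [3]), (4, []), (7, []), (10, []), (13, []), (15, []), (18, []),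 (21, []), (24, []), (27, []), (30, []), (33, []), (29, []), (37, []), (40, []), (43, []), (46, []), (49, []), (52, []), (55, []), (51, []), (58, []), (61, []), (64, []), (67, []), (70, []), (73, []), (76, []), (79, []), (75, []), (81, []), (84, []), (87, []), (3, [2, 3, 2]), (92, []), (9, []), (80, []), (72, []), (99, []), (101, []), (103, []), (105, []), (90, [2, 3, 3, 3, 2, 2, 2]), (109, []), (78, [2, 2, 2]), (47, [2, 2, 2, 3, 3, 3, 2]), (116, []), (119, []), (121, []), (88, [3, 3, 3, 2, 2, 2, 2]), (125, []), (123, []), (129, []), (130, []), (11, [3, 3, 2, 2, 2]), (89, [3, 3, 2, 2, 2]), (17, []), (127, []), (85, [2, 3, 3, 3, 2, 2, 2]), (111, [2, 3, 2, 2, 2, 2]), (140, []), (142, []), (74, [2]), (38, [2, 2, 2, 3, 3]), (146, []), (42, [3]), (145, []), (151, []), (63, [2, 3, 2]), (154, []), (53, [2, 2, 3]), (156, []), (134, [3, 2, 2, 2,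 3, 3]), (86, [2, 3, 2, 2, 2, 2, 2]), (62, [2, 2, 2, 3, 3]), (144, [2, 3, 2, 2, 2, 2]), (161, []), (100, [2, 3, 3, 3]), (164, []), (44, [2, 2, 3]), (26, []), (157, []), (131, [2, 2, 2, 3, 3, 3]), (171, []), (173, []), (169, [2, 2, 3, 2]), (174, []), (1, [2, 3, 2]), (23, [3, 3, 2, 2, 2, 3]), (176, []), (180, []), (181, []), (182, []), (95, [2, 2, 3]), (184, []), (35, []), (19, [3, 2, 2, 2, 3, 3]), (6, [2, 2, 3, 3, 3, 2]), (57, [2, 2, 2, 2, 2, 2]), (188, []), (141, [2, 2, 2, 2, 2]), (110, [2, 2, 2, 2, 2]), (136, [2, 2, 2, 3, 3, 3, 2]), (193, []), (172, [2, 2, 2, 2, 2]), (31, [3, 2, 2]), (147, [2, 2, 2, 3, 3, 3, 2]), (39, []), (179, [2, 3, 3, 3, 2, 2, 2]), (122, [3, 2, 2]), (139, [3, 3, 3, 2, 2, 2, 2]), (94, [3, 2, 2, 2, 3, 3]), (97, [2, 2, 2, 3, 3]), (34, [2, 3, 2, 2, 2, 2, 2]), (191, [2, 3, 3, 3]), (118, [2, 2, 2, 3, 3, 3, 2]), (152, [2,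 3, 2, 2, 2]), (66, [2, 2, 2, 2, 2, 2]), (91, [3, 3, 2, 2, 2, 2]), (16, [2, 3, 3]), (207, []), (117, [3, 3, 2]), (22, [2, 3, 2]), (208, []), (167, [2, 3, 3, 3, 2]), (197, [3, 3, 2, 2]), (41, [2, 3, 3, 3]), (48, []), (187, [3, 2, 2, 2]), (166, [3, 3, 3, 2, 2, 2, 2]), (214, []), (201, [2, 3, 2, 2, 2, 2]), (71, [3, 2]), (83, [2, 3, 2, 2]), (32, [3, 3, 2, 2, 2]), (56, []), (220, []), (165, [2, 2, 2, 3, 2]), (199, [3, 2, 2, 2, 3, 3]), (200, [2, 2, 3, 3, 3, 2]), (221, []), (205, [3, 3, 3, 2, 2, 2]), (5, [2, 2, 2, 3]), (150, [2, 3, 2, 2, 2, 2, 2]), (218, [2, 3, 3, 3]), (98, [2, 2, 2, 3, 3]), (135, [2, 3, 3]), (14, [3]), (226, []), (69, [2, 2, 3, 3, 3, 2]), (2, [2, 3, 3]), (20, [2, 3, 3]), (215, [3, 2, 2, 2, 2, 2]), (206, [2, 3, 3, 3]), (229, []), (203, [3, 3, 3, 2, 2, 2]), (12, [2, 2, 3, 3, 3, 2]), (54, [3, 2, 2, 2, 3, 3]), (148, [3, 2, 2, 2,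 3]), (195, [2, 2, 2, 2]), (232, []), (231, []), (108, [2, 2, 2, 2, 2]), (183, [3, 3, 3, 2, 2]), (137, [2, 3, 3]), (213, [2, 2]), (178, [2, 2, 3]), (96, []), (210, []), (143, [2, 3, 2, 2, 2, 2, 2]), (211, [2, 3, 3, 3]), (217, []), (126, [2, 2, 2]), (104, [2, 3, 3, 3, 2, 2, 2]), (234, []), (106, [2, 2, 3]), (186, [2, 2, 2, 3, 2]), (233, [2, 2, 2, 3, 3, 3]), (112, [3, 3, 3]), (77, [3, 3, 3, 2, 2, 2]), (190, [2, 2, 3, 3]), (113, [3, 3, 3, 2, 2, 2, 2]), (115, [2, 2, 2, 2, 2]), (59, [2, 3, 2, 2]), (198, [3, 2, 2, 2, 3, 3]), (196, [2, 2, 2, 2, 2, 2]), (124, [2, 3, 3, 3, 2, 2, 2]), (224, [3, 3, 3, 2, 2]), (128, [3, 2, 2, 2, 2, 2]), (160, [2, 2, 2, 2, 2, 2]), (60, [2, 2, 2, 2, 2]), (237, []), (158, [3, 3, 2, 2]), (209, [3, 2, 2]), (212, [2, 2, 2, 3, 3, 3, 2]), (107, []), (219, [3, 3, 3]), (102, [3, 3, 2, 2, 2, 3]), (216, [2]), (240, []), (159,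 [3, 3, 3, 2, 2, 2]), (168, []), (50, [2]), (149, [2, 3, 2, 2]), (162, [3, 2, 2, 2, 3, 3]), (204, [3, 3, 3, 2, 2]), (155, [2, 2, 2, 3, 3, 3]), (228, [2, 3, 2, 2, 2, 2, 2]), (8, [3, 3, 2, 2, 2]), (175, [2, 3, 2, 2]), (114, [3, 3, 3, 2]), (133, [3, 2, 2, 2]), (170, [3, 2, 2, 2, 2, 2]), (28, [2, 3, 2, 2]), (120, [2, 3, 2, 2]), (45, [2, 3, 2, 2, 2]), (163, [3, 3, 3, 2]), (194, [2, 3, 3, 3, 2, 2, 2]), (132, []), (235, [2, 3, 2, 2, 2]), (222, [3, 3, 3]), (65, [2, 2, 2, 3, 2]), (202, [3, 2, 2]), (36, [3, 3]), (68, [2, 2, 3, 3, 3]), (242, []), (241, []), (192, [3, 2, 2, 2, 2]), (25, [3, 3, 3, 2]), (153, [3, 3, 3, 2]), (185, [2, 3, 2, 2, 2, 2]), (93, [3, 3, 3, 2, 2]), (138, [2, 2, 2, 2]), (189, [2]), (223, [2, 2, 2, 3, 3, 3, 2]), (239, [2, 2, 3, 3]), (230, [3, 3]), (82, [2, 2, 2, 3, 3, 3]), (236, [3, 2, 2, 2, 2]), (238, [2, 2, 3]), (177, [2, 3,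 2, 2, 2, 2, 2]), (225, [2, 2, 2, 3]), (227, [2, 2, 2, 2, 2, 2])]⟩

/-- Level 2. -/
def lev2 : StabCert.Lev :=
  ⟨119, [2, 3],
   [[], [2], [3], [2, 2], [3, 2], [2, 3], [3, 3], [2, 2, 2], [3, 2, 2], [2, 3, 2], [3, 3, 2], [2, 2, 3], [2, 3, 3], [3, 3, 3], [2, 2, 2, 2], [3, 2, 2, 2], [2, 3, 2, 2], [3, 3, 2, 2], [2, 2, 3, 2], [3, 3, 3, 2], [2, 2, 2, 3], [2, 2, 3, 3], [2, 3, 3, 3], [2, 2, 2, 2, 2], [3, 2, 2, 2, 2], [2, 3, 2, 2, 2], [3, 3, 2, 2, 2], [3, 3, 3, 2, 2], [2, 2, 2, 3, 2], [2, 3, 3, 3, 2], [3, 2, 2, 2, 3], [2, 2, 2, 3, 3], [2, 2, 3, 3, 3], [2, 2, 2, 2, 2, 2], [3, 2, 2, 2, 2, 2], [2, 3, 2, 2, 2, 2], [3, 3, 2, 2, 2, 2], [3, 3, 3, 2, 2, 2], [2, 3, 3, 3, 2, 2], [2, 2, 3, 3, 3, 2], [3, 3, 2, 2, 2, 3], [3, 2, 2, 2, 3, 3], [2, 2, 2, 3, 3, 3], [2, 2, 2, 2, 2, 2, 2], [2, 3, 2, 2, 2, 2, 2], [3, 3, 3, 2, 2, 2, 2], [2, 3, 3, 3, 2, 2, 2], [2, 2,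 2, 3, 3, 3, 2]],
   [(1, []), (3, []), (5, []), (7, []), (9, []), (11, []), (12, []), (14, []), (16, []), (18, []), (6, []), (20, []), (21, []), (22, []), (23, []), (25, []), (13, []), (10, []), (28, []), (29, []), (24, []), (31, []), (32, []), (33, []), (35, []), (19, []), (17, []), (38, []), (34, []), (39, []), (15, []), (36, []), (42, []), (43, []), (44, []), (27, []), (26, []), (46, []), (2, []), (47, []), (8, []), (30, []), (45, []), (0, []), (37, []), (40, []), (4, []), (41, []), (2, []), (4, []), (6, []), (8, []), (10, []), (9, []), (13, []), (15, []), (17, []), (16, []), (19, []), (3, []), (18, []), (14, []), (24, []), (26, []), (25, []), (27, []), (7, []), (23, []), (30, []), (11, []), (28, []), (34, []), (36, []), (35, []), (37, []), (33, []), (20, []), (22, []), (40, []), (41, []), (21, []), (32, []), (31, []), (44, []), (45,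 []), (43, []), (29, []), (12, []), (46, []), (1, []), (47, []), (39, []), (42, []), (0, []), (38, []), (5, [])]⟩

/-- The certificate. -/
def data : PSUData 3 2 0 4 where
  mats := mats
  matsT := matsT
  cols := cols
  colsT := colsT
  imgs := imgs
  imgsT := imgsT
  us := us
  lefts := lefts
  rights := rights
  dL := 115
  dR := 280
  w := 9
  tab := tab
  fx := [112, 113, 114]
  Bl := [114, 112, 113, 46, 36, 14, 33, 54, 8, 20, 38, 51, 25, 41, 6, 23, 26, 44, 18, 29, 39, 50, 31, 55]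
  combos := [[-8, 1, 2, -4, -3, 3, 1, 0, 1, -1, -3, 2, -2, 0, 4, 3, -3, -2, 5, 1, 0, 4, 4, 4], [-8, -5, 8, -4, -3, 3, 1, 0, 1, -1, -3, 2, -2, 0, 4, 3, -3, -2, 5, 1, 0, 4, 4, 4], [0, -1, 0, 0, 1, 1, 3, -2, -1, 1, -1, -2, 2, 2, -2, -3, 3, 2, -1, -1, 0, 0, 0, 0], [0, -1, 0, -4, 3, -1, -1, 2, 3, 3, -3, 0, 0, 0, 0, 3, -3, 2, -1, -1, 0, 0, 0, 0], [0, -1, 0, -2, -1, 3, 1, 0, 1, -1, 1, 2, 4, -2, -4, -3, -3, -4, 5, 5, -6, 6, 0, 0], [0, -1, 0, 0, -5, 1, 3, 4, -1, 1, -1, -2, -4, 2, 4, 3, 3, -4, -1, -1, 0, 0, 0, 0], [0, -1, 0, 2, -3, -1, -1, 2, -3, 3, 3, -6, -6, 6, 6, 3, 3, 2, -1, -7, 6, -6, 0, 0], [0, -1, 0, -4, 3, -1, -1, -4, 3, -3, -3, 6, 6, 0, 0, -3, -3, 2, -1, 5, 0, 0, 0, 0], [0, -1, 0, -4, 3, -1, -1, -4, 3, -3, -3, 6, 6, -6, -6, -3, -3, 2, 5, 11, -6, 6, 0, 0], [0, -1, 0, -4, -3, 5, 5, -4, -3, -3, -3, 0, 0, 0, 0, -3, -3, -4, 5, 5, 0, 12, 0,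 0], [0, -1, 0, 0, -11, 1, 3, 4, -7, 1, -1, -2, -10, 8, 4, 9, 3, -10, 5, -7, 0, 0, 12, 0], [0, -1, 0, -8, -1, 3, -5, 0, 7, -1, -5, 2, -2, -8, 8, 3, -9, 2, 5, -1, 0, 0, 0, 12], [0, -1, 0, 0, 1, 1, -3, -2, 5, 1, -1, 4, 2, -4, -2, -3, -3, 2, -1, 5, 0, 0, 0, 0], [0, -1, 0, 2, 3, -1, -1, -4, 3, -3, 3, 0, 0, 0, 0, -3, 3, 2, -1, -1, 0, 0, 0, 0], [0, -1, 0, 4, -1, 3, 1, 0, -5, -1, 1, -4, -2, 4, 2, 3, 3, -4, -1, -1, 0, 0, 0, 0], [0, -1, 0, -2, -1, 3, 1, 0, 1, -1, 1, 2, -2, -2, 2, 3, -3, 2, -1, -1, 0, 0, 0, 0], [0, -1, 0, 0, 1, 1, 3, -2, -1, 1, -1, 4, 2, -4, -2, -3, -3, -4, 5, 5, -6, 6, 0, 0], [0, -1, 0, 0, 1, 1, -3, 4, -1, 1, -1, -2, 2, -4, 4, 3, -3, 2, -1, -1, 0, 0, 0, 0], [0, -1, 0, 4, -1, -3, 1, 0, 1, -1, 1, -4, -2, 4, 2, 3, 3, 2, -1, -7, 6, -6, 0, 0], [0, -1, 0, 0, 1, 1, -3, 4, -1, 1, -1, -2, -4, 2, 4, 3, 3, 2, -1, -7, 6, -6, 0, 0], [0, -1,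 0, 2, -3, -1, -1, 2, -3, 3, 3, 0, 0, 0, 0, 3, 3, -4, -1, -1, 0, 0, 0, 0], [0, -1, 0, -2, 5, -3, 1, 0, 1, -1, 1, 2, 4, -2, -4, -3, -3, 2, -1, 5, 0, 0, 0, 0], [0, -1, 0, 4, -1, -3, 1, 0, 1, -1, 1, 2, -2, 4, -4, -3, 3, 2, -1, -1, 0, 0, 0, 0], [8, 5, -2, 4, 3, -3, -1, 0, -1, 1, 3, -2, 2, 0, -4, -3, 3, 2, -5, -1, 0, -4, -4, -4]]
  den := 3
  Br := [213, 138, 337, 324, 169]
  winv := [[2, 3, 0, 2], [3, 1, 3, 2], [1, 8, 1, 1], [7, 0, 8, 1]]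
  chain := [lev0, lev1, lev2]

end Cfsg.Agent.Leech.PSU43
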